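import Mathlib.RingTheory.RegularLocalRing.Defs
import Mathlib.RingTheory.Regular.RegularSequence
import Mathlib.RingTheory.KrullDimension.Regular
import Mathlib.RingTheory.Ideal.KrullsHeightTheorem
import Mathlib.RingTheory.Ideal.MinimalPrime.Noetherian
import Mathlib.RingTheory.Nakayama
import Mathlib.Tactic

/-! A regular local ring is a domain and its maximal ideal contains a regular sequence of length
equal to the dimension. -/

set_option autoImplicit false

universe u

open IsLocalRing RingTheory.Sequence

namespace Groth.Smt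

theorem regularLocal_domain_and_seq : ∀ (m : ℕ) (R : Type u) [CommRing R] [IsRegularLocalRing R],
    (maximalIdeal R).spanFinrank = m →
      IsDomain R ∧ ∃ rs : List R, IsWeaklyRegular R rs ∧ (∀ r ∈ rs, r ∈ maximalIdeal R) ∧
        rs.length = m := by
  intro m
  induction m with
  | zero =>
    intro R _ _ h
    have hbot : maximalIdeal R = ⊥ :=
      (Submodule.spanFinrank_eq_zero_iff_eq_bot (IsNoetherian.noetherian _)).1 h
    have hf : IsField R := isField_iff_maximalIdeal_eq.2 hbot
    exact ⟨hf.isDomain, [], IsWeaklyRegular.nil R R, by simp, rfl⟩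
  | succ m ih =>
    intro R _ _ h
    classical
    have hdim : ringKrullDim R = ((m + 1 : ℕ) : WithBot ℕ∞) := by
      rw [← IsRegularLocalRing.spanFinrank_maximalIdeal, h]
    have hfg : (maximalIdeal R).FG := IsNoetherian.noetherian _
    have hne : maximalIdeal R ≠ ⊥ := fun hb => by
      rw [hb, Submodule.spanFinrank_bot] at h; omega
    -- choose `x`
    obtain ⟨x, hx, hx2, hxmin⟩ : ∃ x ∈ maximalIdeal R, x ∉ maximalIdeal R ^ 2 ∧
        ∀ q ∈ minimalPrimes R, x ∉ q := by
      by_contra hc
      push Not at hc
      have hsub : (maximalIdeal R : Set R) ⊆ ⋃ i ∈ (↑(insert (maximalIdeal R ^ 2)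
          (minimalPrimes.finite_of_isNoetherianRing R).toFinset) : Set (Ideal R)), (i : Set R) := by
        intro y hy
        simp only [Finset.coe_insert, Set.mem_insert_iff, Set.iUnion_iUnion_eq_or_left, Set.mem_union,
          Set.mem_iUnion, Set.Finite.coe_toFinset, exists_prop, SetLike.mem_coe]
        by_cases hy2 : y ∈ maximalIdeal R ^ 2
        · exact Or.inl hy2
        · obtain ⟨q, hq, hyq⟩ := hc y hy hy2
          exact Or.inr ⟨q, hq, hyq⟩
      obtain ⟨q, hq, hle⟩ := (Ideal.subset_union_prime (f := id) (maximalIdeal R ^ 2)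
        (maximalIdeal R ^ 2) (fun i hi h1 _ => by
          rw [Finset.mem_insert, Set.Finite.mem_toFinset] at hi
          exact (hi.resolve_left h1).1.1)).1 hsub
      rw [Finset.mem_insert, Set.Finite.mem_toFinset] at hq
      rcases hq with rfl | hq
      · exact hne (Submodule.eq_bot_of_le_smul_of_le_jacobson_bot (maximalIdeal R) _ hfg
          (by rw [smul_eq_mul, ← pow_two]; exact hle) (maximalIdeal_le_jacobson _))
      · have hqe : q = maximalIdeal R := le_antisymm (le_maximalIdeal hq.1.1.ne_top) hle
        have h0 : (maximalIdeal R).height = 0 := by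
          rw [Ideal.height_eq_zero_iff, ← hqe]
          exact hq
        have := maximalIdeal_height_eq_ringKrullDim (R := R)
        rw [h0, hdim] at this
        exact absurd this (by norm_cast)
    -- the quotient by `x`
    have hxtop : Ideal.span {x} ≠ ⊤ := fun e =>
      (mem_maximalIdeal x).1 hx (Ideal.span_singleton_eq_top.1 e)
    haveI : Nontrivial (R ⧸ Ideal.span {x}) := Ideal.Quotient.nontrivial_iff.2 hxtop
    haveI : IsLocalRing (R ⧸ Ideal.span {x}) :=
      IsLocalRing.of_surjective' _ Ideal.Quotient.mk_surjective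
    have hmax : maximalIdeal (R ⧸ Ideal.span {x}) = (maximalIdeal R).map (Ideal.Quotient.mk _) :=
      (map_maximalIdeal_of_surjective _ Ideal.Quotient.mk_surjective).symm
    have hspan : (maximalIdeal (R ⧸ Ideal.span {x})).spanFinrank ≤ m := by
      have hG := Submodule.span_generators (maximalIdeal R)
      have hGfin := Submodule.FG.finite_generators hfg
      have hGcard : (maximalIdeal R).generators.ncard = m + 1 := by
        rw [Submodule.FG.generators_ncard hfg, h]
      set G := (maximalIdeal R).generators
      obtain ⟨g, hg, hgspan⟩ : ∃ g ∈ G, maximalIdeal R ≤ Ideal.span (G \ {g}) ⊔ Ideal.span {x} := by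
        have hxG : x ∈ Submodule.span R G := by rw [hG]; exact hx
        rw [← hGfin.coe_toFinset, Submodule.mem_span_finset] at hxG
        obtain ⟨c, -, hc⟩ := hxG
        obtain ⟨g, hg, hcg⟩ : ∃ g ∈ hGfin.toFinset, IsUnit (c g) := by
          by_contra hno
          push Not at hno
          apply hx2
          rw [← hc]
          refine Ideal.sum_mem _ fun g hg => ?_
          rw [pow_two, smul_eq_mul]
          refine Ideal.mul_mem_mul ((mem_maximalIdeal _).2 (hno g hg)) ?_
          rw [← hG]; exact Submodule.subset_span (hGfin.mem_toFinset.1 hg)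
        refine ⟨g, hGfin.mem_toFinset.1 hg, ?_⟩
        conv_lhs => rw [← hG]
        refine Submodule.span_le.2 fun y hy => ?_
        set J := Ideal.span (G \ {g}) ⊔ Ideal.span {x} with hJ
        rcases eq_or_ne y g with rfl | hne'
        · obtain ⟨u, hu⟩ := hcg.exists_left_inv
          rw [← Finset.add_sum_erase _ _ hg] at hc
          have he : y = u * x - u * ∑ z ∈ hGfin.toFinset.erase y, c z • z := by
            rw [← hc, smul_eq_mul, mul_add, ← mul_assoc, hu, one_mul, add_sub_cancel_right]
          rw [SetLike.mem_coe, he, hJ]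
          refine Ideal.sub_mem _ (Submodule.mem_sup_right (Ideal.mul_mem_left _ _ (Ideal.mem_span_singleton_self x))) ?_
          refine Submodule.mem_sup_left (Ideal.mul_mem_left _ _ (Ideal.sum_mem _ fun z hz => ?_))
          rw [Finset.mem_erase, hGfin.mem_toFinset] at hz
          exact Ideal.mul_mem_left _ _ (Ideal.subset_span ⟨hz.2, hz.1⟩)
        · exact Submodule.mem_sup_left (Ideal.subset_span ⟨hy, hne'⟩)
      have e : maximalIdeal (R ⧸ Ideal.span {x}) =
          Ideal.span ((Ideal.Quotient.mk (Ideal.span {x})) '' (G \ {g})) := by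
        rw [hmax, ← Ideal.map_span]
        apply le_antisymm
        · refine le_trans (Ideal.map_mono hgspan) ?_
          rw [Ideal.map_sup, Ideal.map_quotient_self, sup_bot_eq]
        · refine Ideal.map_mono ?_
          conv_rhs => rw [← hG]
          exact Ideal.span_mono Set.sdiff_subset
      rw [e]
      have hfin' : (G \ {g}).Finite := hGfin.subset Set.sdiff_subset
      refine le_trans (Submodule.spanFinrank_span_le_ncard_of_finite (hfin'.image _)) ?_
      refine le_trans (Set.ncard_image_le hfin') ?_
      rw [Set.ncard_sdiff_singleton_of_mem hg, hGcard]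
      omega
    have hdim' : ((m : ℕ) : WithBot ℕ∞) ≤ ringKrullDim (R ⧸ Ideal.span {x}) := by
      have h1 := ringKrullDim_le_ringKrullDim_quotient_add_card ({x} : Finset R)
        (by rw [IsLocalRing.ringJacobson_eq_maximalIdeal]; simpa using hx)
      rw [Finset.coe_singleton, Finset.card_singleton, hdim] at h1
      have h2 : (0 : WithBot ℕ∞) ≤ ringKrullDim (R ⧸ Ideal.span {x}) := ringKrullDim_nonneg_of_nontrivial
      generalize ringKrullDim (R ⧸ Ideal.span {x}) = D at h1 h2
      cases D with
      | bot => simp at h2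
      | coe D =>
        cases D with
        | top => exact le_top
        | coe D =>
          change ((m + 1 : ℕ) : WithBot ℕ∞) ≤ ((D : ℕ∞) : WithBot ℕ∞) + ((1 : ℕ) : WithBot ℕ∞) at h1
          norm_cast at h1 ⊢
          omega
    haveI hreg' : IsRegularLocalRing (R ⧸ Ideal.span {x}) :=
      IsRegularLocalRing.of_spanFinrank_maximalIdeal_le _
        (le_trans (by exact_mod_cast hspan) hdim')
    have hm' : (maximalIdeal (R ⧸ Ideal.span {x})).spanFinrank = m := by
      refine le_antisymm hspan ?_
      rw [← IsRegularLocalRing.spanFinrank_maximalIdeal] at hdim'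
      exact_mod_cast hdim'
    obtain ⟨hdom, rs, hrs, hmem, hlen⟩ := ih _ hm'
    haveI hP : (Ideal.span {x}).IsPrime :=
      (Ideal.Quotient.isDomain_iff_prime _).1 hdom
    obtain ⟨q, hq, hqle⟩ := Ideal.exists_minimalPrimes_le (I := (⊥ : Ideal R)) (J := Ideal.span {x}) bot_le
    have hqbot : q = ⊥ := by
      refine Submodule.eq_bot_of_le_smul_of_le_jacobson_bot (Ideal.span {x}) q (IsNoetherian.noetherian _)
        (fun y hy => ?_) ?_
      · obtain ⟨z, rfl⟩ := Ideal.mem_span_singleton.1 (hqle hy)
        have hz : z ∈ q := (hq.1.1.mem_or_mem hy).resolve_left (hxmin q hq)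
        exact Submodule.smul_mem_smul (Ideal.mem_span_singleton_self x) hz
      · refine le_trans ?_ (maximalIdeal_le_jacobson _)
        rw [Ideal.span_le, Set.singleton_subset_iff]
        exact hx
    haveI : IsDomain R := by
      have : (⊥ : Ideal R).IsPrime := hqbot ▸ hq.1.1
      exact IsDomain.of_bot_isPrime R
    refine ⟨inferInstance, ?_⟩
    have hx0 : x ≠ 0 := fun e => hx2 (e ▸ Submodule.zero_mem _)
    choose lift hlift using fun r : R ⧸ Ideal.span {x} => Ideal.Quotient.mk_surjective r
    refine ⟨x :: rs.map lift, ?_, ?_, by simp [hlen]⟩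
    · rw [isWeaklyRegular_cons_iff']
      refine ⟨fun a b hab => mul_left_cancel₀ hx0 hab, ?_⟩
      rw [List.map_map, show Ideal.Quotient.mk (Ideal.span {x}) ∘ lift = id from funext hlift, List.map_id]
      have e : QuotSMulTop x R ≃ₗ[R] R ⧸ Ideal.span {x} :=
        Submodule.quotEquivOfEq _ _ (by
          ext y
          rw [Submodule.mem_smul_pointwise_iff_exists, Ideal.mem_span_singleton]
          exact ⟨fun ⟨b, _, hb⟩ => ⟨b, hb.symm⟩, fun ⟨b, hb⟩ => ⟨b, trivial, hb.symm⟩⟩)
      exact (LinearEquiv.isWeaklyRegular_congr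
        (e.extendScalarsOfSurjective Ideal.Quotient.mk_surjective) rs).2 hrs
    · intro r hr
      rw [List.mem_cons, List.mem_map] at hr
      rcases hr with rfl | ⟨r', hr', rfl⟩
      · exact hx
      · have h1 := hmem r' hr'
        rw [hmax, ← hlift r', Ideal.mem_quotient_iff_mem] at h1
        · exact h1
        · rw [Ideal.span_le, Set.singleton_subset_iff]; exact hx

/-- The regular sequence of length `dim`. -/
theorem exists_isWeaklyRegular_of_isRegularLocalRing (R : Type u) [CommRing R] [IsRegularLocalRing R] :
    ∃ rs : List R, IsWeaklyRegular R rs ∧ (∀ r ∈ rs, r ∈ maximalIdeal R) ∧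
      ((rs.length : ℕ) : WithBot ℕ∞) = ringKrullDim R := by
  obtain ⟨-, rs, h1, h2, h3⟩ := regularLocal_domain_and_seq _ R rfl
  exact ⟨rs, h1, h2, by rw [h3, IsRegularLocalRing.spanFinrank_maximalIdeal]⟩

end Groth.Smt
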