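import Groth.Prelude.Def_CAlg
import Groth.Agent.Smt.RegularLocal
import Mathlib.RingTheory.Regular.Flat
import Mathlib.RingTheory.Ideal.GoingDown
import Mathlib.RingTheory.Ideal.GoingUp
import Mathlib.RingTheory.Ideal.KrullsHeightTheorem
import Mathlib.RingTheory.KrullDimension.Regular
import Mathlib.RingTheory.RingHom.Flat
import Mathlib.RingTheory.Flat.Basic

/-! A finite free algebra over a regular ring is Cohen–Macaulay of the same dimension. -/

set_option autoImplicit false

universe u v

open IsLocalRing RingTheory.Sequence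

namespace Groth.Smt

variable (P : Type u) [CommRing P] (A : Type u) [CommRing A] [Algebra P A]

theorem height_eq_height_under [IsNoetherianRing P] [IsNoetherianRing A] [Module.Flat P A] [Algebra.IsIntegral P A]
    (Q : Ideal A) [Q.IsPrime] : Q.height = (Q.under P).height := by
  rw [Ideal.height_eq_height_add_of_liesOver_of_hasGoingDown (Q.under P) Q]
  set I := (Q.under P).map (algebraMap P A)
  have hIQ : I ≤ Q := Ideal.map_le_iff_le_comap.2 le_rfl
  haveI : (Q.map (Ideal.Quotient.mk I)).IsPrime :=
    Ideal.map_isPrime_of_surjective Ideal.Quotient.mk_surjective (by rwa [Ideal.mk_ker])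
  have h0 : (Q.map (Ideal.Quotient.mk I)).height = 0 := by
    rw [Ideal.height_eq_zero_iff]
    refine ⟨⟨inferInstance, bot_le⟩, fun J ⟨hJ, _⟩ hJle => ?_⟩
    have hJQ : J.comap (Ideal.Quotient.mk I) ≤ Q := by
      refine le_trans (Ideal.comap_mono hJle) ?_
      rw [Ideal.comap_map_of_surjective _ Ideal.Quotient.mk_surjective, ← RingHom.ker_eq_comap_bot,
        Ideal.mk_ker]
      exact sup_le le_rfl hIQ
    have hIJ : I ≤ J.comap (Ideal.Quotient.mk I) := by
      intro a ha
      rw [Ideal.mem_comap, Ideal.Quotient.eq_zero_iff_mem.2 ha]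
      exact J.zero_mem
    haveI := hJ
    have heq : J.comap (Ideal.Quotient.mk I) = Q := by
      by_contra hne
      have hlt := Ideal.comap_lt_comap_of_integral_mem_sdiff (R := P) hJQ
        (x := (SetLike.exists_of_lt (lt_of_le_of_ne hJQ hne)).choose)
        (SetLike.exists_of_lt (lt_of_le_of_ne hJQ hne)).choose_spec
        (Algebra.IsIntegral.isIntegral _)
      exact hlt.not_ge (le_trans Ideal.le_comap_map (Ideal.comap_mono hIJ))
    rw [← heq, Ideal.map_comap_of_surjective _ Ideal.Quotient.mk_surjective]
  rw [h0, add_zero]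

variable [IsNoetherianRing P] [Module.Free P A] [Module.Finite P A]

theorem ringKrullDim_eq_of_free [Nontrivial A] [IsDomain P] : ringKrullDim A = ringKrullDim P := by
  haveI : IsNoetherianRing A := IsNoetherianRing.of_finite P A
  have hinj : Function.Injective (algebraMap P A) := by
    rw [injective_iff_map_eq_zero]
    intro p hp
    by_contra hp0
    let b := Module.Free.chooseBasis P A
    obtain ⟨i⟩ : Nonempty (Module.Free.ChooseBasisIndex P A) := b.index_nonempty
    have h1 : p • b i = 0 := by rw [Algebra.smul_def, hp, zero_mul]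
    have h2 := DFunLike.congr_fun (congrArg b.repr h1) i
    simp [hp0] at h2
  apply le_antisymm
  · rw [ringKrullDim_le_iff_height_le]
    intro Q hQ
    rw [height_eq_height_under P A Q]
    exact Ideal.height_le_ringKrullDim_of_ne_top Ideal.IsPrime.ne_top'
  · rw [ringKrullDim_le_iff_height_le]
    intro p hp
    obtain ⟨Q, -, hQ, hQp⟩ := Ideal.exists_ideal_over_prime_of_isIntegral (S := A) p (⊥ : Ideal A)
      (by rw [← RingHom.ker_eq_comap_bot, (RingHom.injective_iff_ker_eq_bot _).1 hinj]; exact bot_le)
    haveI := hQ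
    rw [show p = Q.under P from hQp.symm, ← height_eq_height_under P A Q]
    exact Ideal.height_le_ringKrullDim_of_ne_top Ideal.IsPrime.ne_top'

theorem depth_le_dim (R : Type u) [CommRing R] [IsNoetherianRing R] [IsLocalRing R] :
    ((LocCoh.depth R R : ℕ∞) : WithBot ℕ∞) ≤ ringKrullDim R := by
  obtain ⟨D, hD⟩ : ∃ D : ℕ∞, ringKrullDim R = (D : WithBot ℕ∞) :=
    ⟨_, maximalIdeal_height_eq_ringKrullDim.symm⟩
  rw [hD, WithBot.coe_le_coe, LocCoh.depth, LocCoh.idealDepth, if_neg]
  · refine iSup₂_le fun rs ⟨hrs, hmem⟩ => ?_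
    have hreg : IsRegular R rs :=
      (IsLocalRing.isRegular_iff_isWeaklyRegular_of_subset_maximalIdeal hmem).2 hrs
    have h := ringKrullDim_add_length_eq_ringKrullDim_of_isRegular rs hreg
    haveI : Nontrivial (R ⧸ Ideal.ofList rs) := Ideal.Quotient.nontrivial_iff.2 fun e => by
      have : Ideal.ofList rs ≤ maximalIdeal R := Ideal.span_le.2 fun r hr => hmem r hr
      exact (maximalIdeal.isMaximal R).ne_top (top_le_iff.1 (e ▸ this))
    have h2 : (0 : WithBot ℕ∞) ≤ ringKrullDim (R ⧸ Ideal.ofList rs) := ringKrullDim_nonneg_of_nontrivial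
    rw [hD] at h
    have h3 : ((rs.length : ℕ∞) : WithBot ℕ∞) ≤ (D : WithBot ℕ∞) := by
      rw [← h]
      calc ((rs.length : ℕ∞) : WithBot ℕ∞) = 0 + ((rs.length : ℕ) : WithBot ℕ∞) := by simp
        _ ≤ _ := add_le_add h2 le_rfl
    exact WithBot.coe_le_coe.1 h3
  · rw [smul_eq_mul, Ideal.mul_top]
    exact (maximalIdeal.isMaximal R).ne_top

theorem isCohenMacaulayRing_of_free [IsRegularRing P] : LocCoh.IsCohenMacaulayRing A := by
  haveI : IsNoetherianRing A := IsNoetherianRing.of_finite P A
  refine { isCohenMacaulayLocalRing_localization := ?_ }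
  intro Q hQ
  haveI := hQ
  haveI : IsNoetherianRing (Localization.AtPrime Q) :=
    IsLocalization.isNoetherianRing Q.primeCompl _ inferInstance
  refine { supportDim_eq_depth := ?_ }
  rw [Module.supportDim_self_eq_ringKrullDim]
  refine le_antisymm ?_ (depth_le_dim _)
  set p := Q.under P with hp
  let f := Localization.localRingHom p Q (algebraMap P A) rfl
  letI : Algebra (Localization.AtPrime p) (Localization.AtPrime Q) := f.toAlgebra
  haveI : IsScalarTower P (Localization.AtPrime p) (Localization.AtPrime Q) :=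
    IsScalarTower.of_algebraMap_eq fun x => by
      show algebraMap P (Localization.AtPrime Q) x = f (algebraMap P (Localization.AtPrime p) x)
      rw [Localization.localRingHom_to_map, ← IsScalarTower.algebraMap_apply]
  haveI : Module.Flat A (Localization.AtPrime Q) := IsLocalization.flat _ Q.primeCompl
  haveI : Module.Flat P (Localization.AtPrime Q) := Module.Flat.trans P A (Localization.AtPrime Q)
  haveI : Module.Flat (Localization.AtPrime p) (Localization.AtPrime Q) :=
    (Module.flat_iff_of_isLocalization (Localization.AtPrime p) p.primeCompl (Localization.AtPrime Q)).2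
      inferInstance
  obtain ⟨rs, hrs, hmem, hlen⟩ := exists_isWeaklyRegular_of_isRegularLocalRing (Localization.AtPrime p)
  have hreg := hrs.of_flat (S := Localization.AtPrime Q)
  rw [IsLocalization.AtPrime.ringKrullDim_eq_height p (Localization.AtPrime p),
    ← height_eq_height_under P A Q] at hlen
  rw [IsLocalization.AtPrime.ringKrullDim_eq_height Q (Localization.AtPrime Q), ← hlen]
  rw [LocCoh.depth, LocCoh.idealDepth, if_neg]
  · refine WithBot.coe_le_coe.2 (le_iSup₂_of_le (rs.map (algebraMap _ _)) ⟨hreg, ?_⟩ ?_)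
    · intro r hr
      obtain ⟨s, hs, rfl⟩ := List.mem_map.1 hr
      rw [IsLocalRing.mem_maximalIdeal, mem_nonunits_iff]
      intro hu
      exact (IsLocalRing.mem_maximalIdeal s).1 (hmem s hs)
        ((isUnit_map_iff f s).1 hu)
    · simp
  · rw [smul_eq_mul, Ideal.mul_top]
    exact (maximalIdeal.isMaximal _).ne_top

end Groth.Smt
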