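import Groth.Agent.Variety2.DimAffine
import Mathlib.RingTheory.GradedAlgebra.Homogeneous.Ideal
import Mathlib.RingTheory.GradedAlgebra.Radical

/-! The dimension of a graded algebra over a field is the height of its vertex. -/

set_option autoImplicit false

universe u v

open DirectSum

namespace Groth.Smt

/-- In a finitely generated domain over a field every maximal ideal has full height. -/
theorem height_eq_ringKrullDim_of_isMaximal (K : Type u) [Field K] (Q : Type v) [CommRing Q]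
    [IsDomain Q] [Algebra K Q] [Algebra.FiniteType K Q] (m : Ideal Q) [hm : m.IsMaximal] :
    (m.height : WithBot ℕ∞) = ringKrullDim Q := by
  let k' := (algebraMap K Q).range
  let e : K →+* k' := (algebraMap K Q).rangeRestrict
  have hbij : Function.Bijective e :=
    ⟨fun a b h => (algebraMap K Q).injective (congrArg Subtype.val h),
      (algebraMap K Q).rangeRestrict_surjective⟩
  letI : Field k' := ((RingEquiv.ofBijective e hbij).symm.toMulEquiv.isField (Field.toIsField K)).toField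
  letI : Algebra K k' := e.toAlgebra
  haveI : IsScalarTower K k' Q := IsScalarTower.of_algebraMap_eq fun _ => rfl
  haveI : Algebra.FiniteType k' Q := Algebra.FiniteType.of_restrictScalars_finiteType K k' Q
  obtain ⟨n, -, hdim, hmax⟩ := Groth.Variety2.Dim.exists_dim k' Q
  rw [hdim, hmax m hm]
  rfl

section graded

variable {K : Type u} [Field K] {A : Type v} [CommRing A] [Algebra K A] (𝒜 : ℕ → Submodule K A)
  [GradedAlgebra 𝒜] (h0 : ∀ a ∈ 𝒜 0, ∃ c : K, algebraMap K A c = a)

include h0 in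
theorem finiteType_of_graded [IsNoetherianRing A] : Algebra.FiniteType K A := by
  classical
  obtain ⟨s, hs⟩ := IsNoetherian.noetherian (HomogeneousIdeal.irrelevant 𝒜).toIdeal
  let G : Finset A := s.biUnion fun x => (decompose 𝒜 x).support.image fun i => (decompose 𝒜 x i : A)
  have hG : ∀ g ∈ G, ∃ i, 0 < i ∧ g ∈ 𝒜 i := by
    intro g hg
    simp only [G, Finset.mem_biUnion, Finset.mem_image] at hg
    obtain ⟨x, hx, i, hi, rfl⟩ := hg
    refine ⟨i, Nat.pos_of_ne_zero ?_, SetLike.coe_mem _⟩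
    rintro rfl
    have hx' : x ∈ (HomogeneousIdeal.irrelevant 𝒜).toIdeal := hs ▸ Submodule.subset_span hx
    rw [DFinsupp.mem_support_iff] at hi
    exact hi (Subtype.ext hx')
  have hspan : (HomogeneousIdeal.irrelevant 𝒜).toIdeal ≤ Ideal.span (G : Set A) := by
    rw [← hs, Submodule.span_le]
    intro x hx
    rw [SetLike.mem_coe, ← sum_support_decompose 𝒜 x]
    refine Ideal.sum_mem _ fun i hi => Ideal.subset_span ?_
    exact Finset.mem_coe.2 (Finset.mem_biUnion.2 ⟨x, hx, Finset.mem_image.2 ⟨i, hi, rfl⟩⟩)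
  refine ⟨⟨G, top_le_iff.1 fun a _ => ?_⟩⟩
  suffices H : ∀ n, ∀ a ∈ 𝒜 n, a ∈ Algebra.adjoin K (G : Set A) by
    rw [← sum_support_decompose 𝒜 a]
    exact Subalgebra.sum_mem _ fun i _ => H i _ (SetLike.coe_mem _)
  intro n
  induction n using Nat.strong_induction_on with
  | _ n ih =>
  intro a ha
  rcases Nat.eq_zero_or_pos n with rfl | hn
  · obtain ⟨c, rfl⟩ := h0 a ha
    exact Subalgebra.algebraMap_mem _ c
  obtain ⟨f, -, hfa⟩ := Submodule.mem_span_finset.1
    (hspan (HomogeneousIdeal.mem_irrelevant_of_mem 𝒜 hn ha))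
  rw [← decompose_of_mem_same 𝒜 ha, ← GradedRing.proj_apply, ← hfa, map_sum]
  refine Subalgebra.sum_mem _ fun g hg => ?_
  obtain ⟨i, hi, hgi⟩ := hG g hg
  rw [GradedRing.proj_apply, smul_eq_mul, coe_decompose_mul_of_right_mem 𝒜 n hgi]
  split_ifs with h
  · exact Subalgebra.mul_mem _ (ih (n - i) (by omega) _ (SetLike.coe_mem _))
      (Algebra.subset_adjoin (Finset.mem_coe.2 hg))
  · exact Subalgebra.zero_mem _

include h0 in
theorem le_irrelevant_of_isHomogeneous {I : Ideal A} (hI : I.IsHomogeneous 𝒜) (hne : I ≠ ⊤) :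
    I ≤ (HomogeneousIdeal.irrelevant 𝒜).toIdeal := by
  intro x hx
  obtain ⟨c, hc⟩ := h0 _ (SetLike.coe_mem (decompose 𝒜 x 0))
  have hmem : algebraMap K A c ∈ I := hc ▸ hI 0 hx
  have : c = 0 := by
    by_contra hc0
    exact hne (Ideal.eq_top_of_isUnit_mem _ hmem ((isUnit_iff_ne_zero.2 hc0).map _))
  show (decompose 𝒜 x 0 : A) = 0
  rw [← hc, this, map_zero]

include h0 in
theorem irrelevant_isMaximal [Nontrivial A] : (HomogeneousIdeal.irrelevant 𝒜).toIdeal.IsMaximal := by
  rw [Ideal.isMaximal_iff]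
  refine ⟨fun h => one_ne_zero (α := A) ?_, fun J x hJ hx hxJ => ?_⟩
  · have h1 : (decompose 𝒜 (1 : A) 0 : A) = 0 := h
    rwa [decompose_of_mem_same 𝒜 (SetLike.one_mem_graded 𝒜)] at h1
  · obtain ⟨c, hc⟩ := h0 _ (SetLike.coe_mem (decompose 𝒜 x 0))
    have hc0 : c ≠ 0 := fun h => hx (show (decompose 𝒜 x 0 : A) = 0 by rw [← hc, h, map_zero])
    have h1 : x - algebraMap K A c ∈ (HomogeneousIdeal.irrelevant 𝒜).toIdeal := by
      show GradedRing.proj 𝒜 0 (x - algebraMap K A c) = 0
      rw [map_sub, GradedRing.proj_apply, GradedRing.proj_apply,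
        decompose_of_mem_same 𝒜 (show algebraMap K A c ∈ 𝒜 0 by rw [hc]; exact SetLike.coe_mem _), hc, sub_self]
    have h2 : algebraMap K A c ∈ J := by
      have := J.sub_mem hxJ (hJ h1)
      rwa [sub_sub_cancel] at this
    have h3 := J.mul_mem_left (algebraMap K A c⁻¹) h2
    rwa [← map_mul, inv_mul_cancel₀ hc0, map_one] at h3

include h0 in
theorem ringKrullDim_quotient_eq_height [IsNoetherianRing A] {I : Ideal A} (hI : I.IsHomogeneous 𝒜)
    (hne : I ≠ ⊤) :
    ((HomogeneousIdeal.irrelevant 𝒜).toIdeal.map (Ideal.Quotient.mk I)).IsMaximal ∧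
    ringKrullDim (A ⧸ I) =
      (((HomogeneousIdeal.irrelevant 𝒜).toIdeal.map (Ideal.Quotient.mk I)).height : WithBot ℕ∞) := by
  haveI : Nontrivial A := ⟨⟨0, 1, fun h => hne ((Ideal.eq_top_iff_one I).2 (h ▸ I.zero_mem))⟩⟩
  set M := (HomogeneousIdeal.irrelevant 𝒜).toIdeal
  haveI hMmax : M.IsMaximal := irrelevant_isMaximal 𝒜 h0
  have hker : RingHom.ker (Ideal.Quotient.mk I) ≤ M := by
    rw [Ideal.mk_ker]
    exact le_irrelevant_of_isHomogeneous 𝒜 h0 hI hne
  haveI hm : (M.map (Ideal.Quotient.mk I)).IsMaximal :=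
    Ideal.IsMaximal.map_of_surjective_of_ker_le Ideal.Quotient.mk_surjective hker
  haveI : Algebra.FiniteType K A := finiteType_of_graded 𝒜 h0
  haveI : Algebra.FiniteType K (A ⧸ I) :=
    Algebra.FiniteType.of_surjective (Ideal.Quotient.mkₐ K I) Ideal.Quotient.mk_surjective
  refine ⟨hm, le_antisymm ?_ (Ideal.height_le_ringKrullDim_of_ne_top hm.ne_top)⟩
  rw [ringKrullDim, Order.krullDim]
  refine iSup_le fun l => ?_
  obtain ⟨P, hP, hPle⟩ := Ideal.exists_minimalPrimes_le (bot_le : (⊥ : Ideal (A ⧸ I)) ≤ l.head.asIdeal)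
  haveI hPp : P.IsPrime := Ideal.minimalPrimes_isPrime hP
  set P' := P.comap (Ideal.Quotient.mk I) with hP'
  have hIP' : I ≤ P' := by
    rw [← Ideal.mk_ker (I := I)]
    exact Ideal.ker_le_comap _
  set C := (P'.homogeneousCore 𝒜).toIdeal with hC
  haveI hCp : C.IsPrime := (inferInstance : P'.IsPrime).homogeneousCore
  have hIC : I ≤ C := by
    have h := Ideal.homogeneousCore_mono 𝒜 hIP'
    have : (I.homogeneousCore 𝒜).toIdeal = I := hI.toIdeal_homogeneousCore_eq_self
    rw [← this]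
    exact h
  haveI : (C.map (Ideal.Quotient.mk I)).IsPrime :=
    Ideal.map_isPrime_of_surjective Ideal.Quotient.mk_surjective (by rwa [Ideal.mk_ker])
  have hPC : P ≤ C.map (Ideal.Quotient.mk I) := hP.2 ⟨inferInstance, bot_le⟩ (by
    rw [← Ideal.map_comap_of_surjective _ Ideal.Quotient.mk_surjective P]
    exact Ideal.map_mono (Ideal.toIdeal_homogeneousCore_le 𝒜 P'))
  have hPm : P ≤ M.map (Ideal.Quotient.mk I) := hPC.trans (Ideal.map_mono
    (le_irrelevant_of_isHomogeneous 𝒜 h0 (P'.homogeneousCore 𝒜).isHomogeneous hCp.ne_top))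
  let Q' := (A ⧸ I) ⧸ P
  haveI : Algebra.FiniteType K Q' :=
    Algebra.FiniteType.of_surjective (Ideal.Quotient.mkₐ K P) Ideal.Quotient.mk_surjective
  haveI hm' : ((M.map (Ideal.Quotient.mk I)).map (Ideal.Quotient.mk P)).IsMaximal :=
    Ideal.IsMaximal.map_of_surjective_of_ker_le Ideal.Quotient.mk_surjective (by rwa [Ideal.mk_ker])
  have hle : ∀ i, P ≤ (l i).asIdeal := fun i => hPle.trans (l.monotone (Fin.zero_le i))
  let l' : LTSeries (PrimeSpectrum Q') :=
    { length := l.length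
      toFun := fun i => ⟨(l i).asIdeal.map (Ideal.Quotient.mk P),
        Ideal.map_isPrime_of_surjective Ideal.Quotient.mk_surjective (by rw [Ideal.mk_ker]; exact hle i)⟩
      step := fun i => by
        show Ideal.map (Ideal.Quotient.mk P) (l i.castSucc).asIdeal < Ideal.map (Ideal.Quotient.mk P) (l i.succ).asIdeal
        refine lt_of_le_of_ne (Ideal.map_mono (l.step i).le) fun he => (l.step i).ne (PrimeSpectrum.ext ?_)
        have := congrArg (Ideal.comap (Ideal.Quotient.mk P)) he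
        rwa [Ideal.comap_map_mk (hle _), Ideal.comap_map_mk (hle _)] at this }
  have h1 : ((l.length : ℕ) : WithBot ℕ∞) ≤ ringKrullDim Q' := by
    rw [ringKrullDim, Order.krullDim]
    exact le_iSup (fun p : LTSeries (PrimeSpectrum Q') => ((p.length : ℕ) : WithBot ℕ∞)) l'
  rw [← height_eq_ringKrullDim_of_isMaximal K Q' ((M.map (Ideal.Quotient.mk I)).map (Ideal.Quotient.mk P))]
    at h1
  refine h1.trans (WithBot.coe_le_coe.2 ?_)
  have h2 := Order.height_le_height_apply_of_strictMono (PrimeSpectrum.comap (Ideal.Quotient.mk P))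
    (fun p q h => lt_of_le_of_ne (Ideal.comap_mono h.le) fun he => h.ne (PrimeSpectrum.ext
      (Ideal.comap_injective_of_surjective _ Ideal.Quotient.mk_surjective (congrArg PrimeSpectrum.asIdeal he))))
    (⟨_, hm'.isPrime⟩ : PrimeSpectrum Q')
  have e : PrimeSpectrum.comap (Ideal.Quotient.mk P) (⟨_, hm'.isPrime⟩ : PrimeSpectrum Q') =
      ⟨M.map (Ideal.Quotient.mk I), hm.isPrime⟩ := PrimeSpectrum.ext (Ideal.comap_map_mk hPm)
  rw [e, ← PrimeSpectrum.height_eq_orderHeight, ← PrimeSpectrum.height_eq_orderHeight] at h2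
  exact h2

end graded

end Groth.Smt
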