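import Groth.Prelude.Def_CAlg
import Groth.Agent.LocCohBase.CM
import Groth.Agent.Smt.GradedDim
import Groth.Agent.Smt.FreeCM
import Mathlib.RingTheory.Regular.RegularSequence

/-! Gluing two Cohen–Macaulay cones along a Cohen–Macaulay cone of codimension one. -/

set_option autoImplicit false

universe u v

open IsLocalRing RingTheory.Sequence Groth.LocCohBase

namespace Groth.Smt

theorem comap_maximalIdeal_of_surjective {L S : Type v} [CommRing L] [CommRing S] [IsLocalRing L]
    [IsLocalRing S] (f : L →+* S) (hf : Function.Surjective f) :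
    (maximalIdeal S).comap f = maximalIdeal L :=
  IsLocalRing.eq_maximalIdeal (Ideal.comap_isMaximal_of_surjective f hf)

/-- Depth is insensitive to a surjective change of rings. -/
theorem depth_eq_of_surjective (L S : Type v) [CommRing L] [CommRing S] [IsLocalRing L] [IsLocalRing S]
    [Algebra L S] (hf : Function.Surjective (algebraMap L S)) :
    LocCoh.depth L S = LocCoh.depth S S := by
  have hc := comap_maximalIdeal_of_surjective (algebraMap L S) hf
  have hS : maximalIdeal S • (⊤ : Submodule S S) ≠ ⊤ := by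
    rw [smul_eq_mul, Ideal.mul_top]; exact (maximalIdeal.isMaximal S).ne_top
  have hmem : ∀ r, r ∈ maximalIdeal L ↔ algebraMap L S r ∈ maximalIdeal S := fun r => by rw [← hc]; rfl
  have hL : maximalIdeal L • (⊤ : Submodule L S) ≠ ⊤ := by
    intro h
    have hle : maximalIdeal L • (⊤ : Submodule L S) ≤ (maximalIdeal S).restrictScalars L := by
      refine Submodule.smul_le.2 fun r hr x _ => ?_
      show r • x ∈ maximalIdeal S
      rw [Algebra.smul_def]
      exact Ideal.mul_mem_right _ _ ((hmem r).1 hr)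
    rw [h] at hle
    exact (maximalIdeal.isMaximal S).ne_top ((Ideal.eq_top_iff_one _).2 (hle (Submodule.mem_top (x := 1))))
  rw [LocCoh.depth, LocCoh.depth, LocCoh.idealDepth, LocCoh.idealDepth, if_neg hS, if_neg hL]
  refine le_antisymm (iSup₂_le fun rs h => ?_) (iSup₂_le fun rs h => ?_)
  · refine le_iSup₂_of_le (rs.map (algebraMap L S))
      ⟨(isWeaklyRegular_map_algebraMap_iff S S rs).2 h.1, ?_⟩ (by simp)
    intro r hr
    obtain ⟨s, hs, rfl⟩ := List.mem_map.1 hr
    exact (hmem s).1 (h.2 s hs)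
  · choose g hg using hf
    have e : (rs.map g).map (algebraMap L S) = rs := by
      rw [List.map_map]; simp [Function.comp_def, hg]
    refine le_iSup₂_of_le (rs.map g)
      ⟨(isWeaklyRegular_map_algebraMap_iff S S _).1 (e.symm ▸ h.1), ?_⟩ (by simp)
    intro r hr
    obtain ⟨s, hs, rfl⟩ := List.mem_map.1 hr
    rw [hmem, hg]
    exact h.2 s hs

variable {A : Type v} [CommRing A]

theorem surjective_localRingHom {N N' : Ideal A} (h : N ≤ N') (m : Ideal (A ⧸ N)) [m.IsPrime]
    (m' : Ideal (A ⧸ N')) [m'.IsPrime] (hm : m = m'.comap (Ideal.Quotient.factor h)) :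
    Function.Surjective (Localization.localRingHom m m' (Ideal.Quotient.factor h) hm) := by
  intro z
  obtain ⟨a, s, rfl⟩ := IsLocalization.exists_mk'_eq m'.primeCompl z
  obtain ⟨b, rfl⟩ := Ideal.Quotient.factor_surjective h a
  obtain ⟨⟨t, ht⟩, hts⟩ : ∃ t : m.primeCompl, Ideal.Quotient.factor h t = s := by
    obtain ⟨t, ht⟩ := Ideal.Quotient.factor_surjective h (s : A ⧸ N')
    refine ⟨⟨t, fun htm => s.2 ?_⟩, ht⟩
    rw [← ht]
    have := hm.le htm
    exact this
  refine ⟨IsLocalization.mk' _ b ⟨t, ht⟩, ?_⟩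
  rw [Localization.localRingHom_mk']
  exact congrArg _ (Subtype.ext hts)

/-- `depth` of a Cohen–Macaulay quotient at a vertex of full height. -/
theorem depth_localization_eq {N : Ideal A} (hcm : LocCoh.IsCohenMacaulayRing (A ⧸ N))
    (m : Ideal (A ⧸ N)) [m.IsPrime] {e : ℕ} (hh : m.height = (e : ℕ∞)) :
    LocCoh.depth (Localization.AtPrime m) (Localization.AtPrime m) = (e : ℕ∞) := by
  have h := (hcm.isCohenMacaulayLocalRing_localization m).supportDim_eq_depth
  rw [Module.supportDim_self_eq_ringKrullDim,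
    IsLocalization.AtPrime.ringKrullDim_eq_height m (Localization.AtPrime m), hh] at h
  exact (WithBot.coe_inj.1 h).symm

theorem ringKrullDim_inf_le {I J : Ideal A} {e : WithBot ℕ∞} (hI : ringKrullDim (A ⧸ I) ≤ e)
    (hJ : ringKrullDim (A ⧸ J) ≤ e) : ringKrullDim (A ⧸ (I ⊓ J)) ≤ e := by
  rw [ringKrullDim, Order.krullDim]
  refine iSup_le fun l => ?_
  set P := l.head.asIdeal.comap (Ideal.Quotient.mk (I ⊓ J)) with hP
  have hle : I ⊓ J ≤ P := by
    rw [← Ideal.mk_ker (I := I ⊓ J)]
    exact Ideal.ker_le_comap _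
  have key : ∀ (N : Ideal A) (hN : I ⊓ J ≤ N), N ≤ P →
      ((l.length : ℕ) : WithBot ℕ∞) ≤ ringKrullDim (A ⧸ N) := by
    intro N hN hNP
    have hker : ∀ i, RingHom.ker (Ideal.Quotient.factor hN) ≤ (l i).asIdeal := by
      intro i x hx
      obtain ⟨a, rfl⟩ := Ideal.Quotient.mk_surjective x
      rw [RingHom.mem_ker, Ideal.Quotient.factor_mk, Ideal.Quotient.eq_zero_iff_mem] at hx
      exact l.monotone (Fin.zero_le i) (hNP hx)
    let l' : LTSeries (PrimeSpectrum (A ⧸ N)) :=
      { length := l.length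
        toFun := fun i => ⟨(l i).asIdeal.map (Ideal.Quotient.factor hN),
          Ideal.map_isPrime_of_surjective (Ideal.Quotient.factor_surjective hN) (hker i)⟩
        step := fun i => by
          show Ideal.map _ (l i.castSucc).asIdeal < Ideal.map _ (l i.succ).asIdeal
          refine lt_of_le_of_ne (Ideal.map_mono (l.step i).le) fun he => (l.step i).ne (PrimeSpectrum.ext ?_)
          have := congrArg (Ideal.comap (Ideal.Quotient.factor hN)) he
          rwa [Ideal.comap_map_of_surjective' _ (Ideal.Quotient.factor_surjective hN),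
            Ideal.comap_map_of_surjective' _ (Ideal.Quotient.factor_surjective hN),
            sup_eq_left.2 (hker _), sup_eq_left.2 (hker _)] at this }
    rw [ringKrullDim, Order.krullDim]
    exact le_iSup (fun p : LTSeries (PrimeSpectrum (A ⧸ N)) => ((p.length : ℕ) : WithBot ℕ∞)) l'
  haveI : P.IsPrime := Ideal.IsPrime.comap _
  rcases (Ideal.IsPrime.inf_le inferInstance).1 hle with h | h
  · exact (key I inf_le_left h).trans hI
  · exact (key J inf_le_right h).trans hJ

theorem cm_inf_at [IsNoetherianRing A] (I J M : Ideal A) (e : ℕ) (he : 1 ≤ e)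
    [hm : (M.map (Ideal.Quotient.mk (I ⊓ J))).IsPrime]
    [(M.map (Ideal.Quotient.mk I)).IsPrime] [(M.map (Ideal.Quotient.mk J)).IsPrime]
    [(M.map (Ideal.Quotient.mk (I ⊔ J))).IsPrime] (hIM : I ≤ M) (hJM : J ≤ M)
    (hI : LocCoh.IsCohenMacaulayRing (A ⧸ I)) (hJ : LocCoh.IsCohenMacaulayRing (A ⧸ J))
    (hS : LocCoh.IsCohenMacaulayRing (A ⧸ (I ⊔ J)))
    (hIh : (M.map (Ideal.Quotient.mk I)).height = (e : ℕ∞))
    (hJh : (M.map (Ideal.Quotient.mk J)).height = (e : ℕ∞))
    (hSh : (M.map (Ideal.Quotient.mk (I ⊔ J))).height = ((e - 1 : ℕ) : ℕ∞))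
    (hdim : ringKrullDim (A ⧸ (I ⊓ J)) ≤ (e : WithBot ℕ∞)) :
    LocCoh.IsCohenMacaulayLocalRing (Localization.AtPrime (M.map (Ideal.Quotient.mk (I ⊓ J)))) ∧
      ringKrullDim (Localization.AtPrime (M.map (Ideal.Quotient.mk (I ⊓ J)))) = (e : WithBot ℕ∞) := by
  set m := M.map (Ideal.Quotient.mk (I ⊓ J))
  set mI := M.map (Ideal.Quotient.mk I)
  set mJ := M.map (Ideal.Quotient.mk J)
  set mS := M.map (Ideal.Quotient.mk (I ⊔ J))
  have hcomap : ∀ (N : Ideal A) (hN : I ⊓ J ≤ N), N ≤ M →
      m = (M.map (Ideal.Quotient.mk N)).comap (Ideal.Quotient.factor hN) := by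
    intro N hN hNM
    ext x
    obtain ⟨a, rfl⟩ := Ideal.Quotient.mk_surjective x
    rw [Ideal.mem_comap, Ideal.Quotient.factor_mk, Ideal.mem_quotient_iff_mem hNM,
      Ideal.mem_quotient_iff_mem (hN.trans hNM)]
  have hSM : I ⊔ J ≤ M := sup_le hIM hJM
  let fI := Localization.localRingHom m mI _ (hcomap I inf_le_left hIM)
  let fJ := Localization.localRingHom m mJ _ (hcomap J inf_le_right hJM)
  let fS := Localization.localRingHom m mS _ (hcomap (I ⊔ J) (inf_le_left.trans le_sup_left) hSM)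
  letI := fI.toAlgebra
  letI := fJ.toAlgebra
  letI := fS.toAlgebra
  let L := Localization.AtPrime m
  let LI := Localization.AtPrime mI
  let LJ := Localization.AtPrime mJ
  let LS := Localization.AtPrime mS
  haveI : IsNoetherianRing L := IsLocalization.isNoetherianRing m.primeCompl _ inferInstance
  have hIs : Function.Surjective fI := surjective_localRingHom _ _ _ _
  have hJs : Function.Surjective fJ := surjective_localRingHom _ _ _ _
  have hSs : Function.Surjective fS := surjective_localRingHom _ _ _ _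
  haveI : Module.Finite L LI := Module.Finite.of_surjective (Algebra.linearMap L LI) hIs
  haveI : Module.Finite L LJ := Module.Finite.of_surjective (Algebra.linearMap L LJ) hJs
  haveI : Module.Finite L LS := Module.Finite.of_surjective (Algebra.linearMap L LS) hSs
  have dI : LocCoh.depth L LI = (e : ℕ∞) := by
    rw [depth_eq_of_surjective L LI hIs]; exact depth_localization_eq hI mI hIh
  have dJ : LocCoh.depth L LJ = (e : ℕ∞) := by
    rw [depth_eq_of_surjective L LJ hJs]; exact depth_localization_eq hJ mJ hJh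
  have dS : LocCoh.depth L LS = ((e - 1 : ℕ) : ℕ∞) := by
    rw [depth_eq_of_surjective L LS hSs]; exact depth_localization_eq hS mS hSh
  -- the maps to the common quotient
  have hcI : mI = mS.comap (Ideal.Quotient.factor (le_sup_left : I ≤ I ⊔ J)) := by
    ext x
    obtain ⟨a, rfl⟩ := Ideal.Quotient.mk_surjective x
    rw [Ideal.mem_comap, Ideal.Quotient.factor_mk, Ideal.mem_quotient_iff_mem hSM,
      Ideal.mem_quotient_iff_mem hIM]
  have hcJ : mJ = mS.comap (Ideal.Quotient.factor (le_sup_right : J ≤ I ⊔ J)) := by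
    ext x
    obtain ⟨a, rfl⟩ := Ideal.Quotient.mk_surjective x
    rw [Ideal.mem_comap, Ideal.Quotient.factor_mk, Ideal.mem_quotient_iff_mem hSM,
      Ideal.mem_quotient_iff_mem hJM]
  let gI := Localization.localRingHom mI mS _ hcI
  let gJ := Localization.localRingHom mJ mS _ hcJ
  have hgI : ∀ x, gI (fI x) = fS x := fun x => by
    have e1 : gI.comp fI = fS := IsLocalization.ringHom_ext m.primeCompl (RingHom.ext fun a => by
      obtain ⟨b, rfl⟩ := Ideal.Quotient.mk_surjective a
      simp only [RingHom.comp_apply, gI, fI, fS, Localization.localRingHom_to_map, Ideal.Quotient.factor_mk])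
    exact DFunLike.congr_fun e1 x
  have hgJ : ∀ x, gJ (fJ x) = fS x := fun x => by
    have e1 : gJ.comp fJ = fS := IsLocalization.ringHom_ext m.primeCompl (RingHom.ext fun a => by
      obtain ⟨b, rfl⟩ := Ideal.Quotient.mk_surjective a
      simp only [RingHom.comp_apply, gJ, fJ, fS, Localization.localRingHom_to_map, Ideal.Quotient.factor_mk])
    exact DFunLike.congr_fun e1 x
  let lI : LI →ₗ[L] LS :=
    { toFun := gI
      map_add' := map_add gI
      map_smul' := fun r x => by
        show gI (fI r * x) = fS r * gI x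
        rw [map_mul, hgI] }
  let lJ : LJ →ₗ[L] LS :=
    { toFun := gJ
      map_add' := map_add gJ
      map_smul' := fun r x => by
        show gJ (fJ r * x) = fS r * gJ x
        rw [map_mul, hgJ] }
  let α : L →ₗ[L] LI × LJ := (Algebra.linearMap L LI).prod (Algebra.linearMap L LJ)
  let β : LI × LJ →ₗ[L] LS := lI.comp (LinearMap.fst L LI LJ) - lJ.comp (LinearMap.snd L LI LJ)
  have hmk : ∀ {N : Ideal A} (n : Ideal (A ⧸ N)) [n.IsPrime] (a : A) (s : n.primeCompl),
      IsLocalization.mk' (Localization.AtPrime n) (Ideal.Quotient.mk N a) s = 0 ↔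
      ∃ t : A, Ideal.Quotient.mk N t ∉ n ∧ t * a ∈ N := by
    intro N n _ a s
    rw [IsLocalization.mk'_eq_zero_iff]
    constructor
    · rintro ⟨⟨u, hu⟩, hua⟩
      obtain ⟨t, rfl⟩ := Ideal.Quotient.mk_surjective u
      exact ⟨t, hu, Ideal.Quotient.eq_zero_iff_mem.1 (by rw [map_mul]; exact hua)⟩
    · rintro ⟨t, ht, hta⟩
      exact ⟨⟨_, ht⟩, by show Ideal.Quotient.mk N t * _ = 0; rw [← map_mul, Ideal.Quotient.eq_zero_iff_mem.2 hta]⟩
  have hmem : ∀ {N : Ideal A}, N ≤ M → ∀ t : A, Ideal.Quotient.mk N t ∉ M.map (Ideal.Quotient.mk N) ↔ t ∉ M :=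
    fun hN t => not_congr (Ideal.mem_quotient_iff_mem hN)
  have hMp : M.IsPrime := by
    have : M = m.comap (Ideal.Quotient.mk (I ⊓ J)) := by
      ext a; rw [Ideal.mem_comap, Ideal.mem_quotient_iff_mem (inf_le_left.trans hIM)]
    rw [this]; exact Ideal.IsPrime.comap _
  have hα : Function.Injective α := by
    rw [injective_iff_map_eq_zero]
    intro x hx
    have h1 : fI x = 0 := congrArg Prod.fst hx
    have h2 : fJ x = 0 := congrArg Prod.snd hx
    obtain ⟨a, s, rfl⟩ := IsLocalization.exists_mk'_eq m.primeCompl x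
    obtain ⟨a, rfl⟩ := Ideal.Quotient.mk_surjective a
    simp only [fI, fJ, L, Localization.localRingHom_mk', Ideal.Quotient.factor_mk] at h1 h2
    obtain ⟨t, ht, hta⟩ := (hmk mI a _).1 h1
    obtain ⟨t', ht', hta'⟩ := (hmk mJ a _).1 h2
    refine (hmk m a s).2 ⟨t * t', (hmem (inf_le_left.trans hIM) _).2 (fun hh => ?_), ?_, ?_⟩
    · exact (hMp.mem_or_mem hh).elim ((hmem hIM t).1 ht) ((hmem hJM t').1 ht')
    · rw [show t * t' * a = t' * (t * a) by ring]; exact Ideal.mul_mem_left _ _ hta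
    · rw [mul_assoc]; exact Ideal.mul_mem_left _ _ hta'
  have hexact : Function.Exact α β := by
    intro p
    constructor
    · intro hp
      obtain ⟨x, y⟩ := p
      replace hp : gI x = gJ y := sub_eq_zero.1 hp
      obtain ⟨a, s, rfl⟩ := IsLocalization.exists_mk'_eq mI.primeCompl x
      obtain ⟨b, u, rfl⟩ := IsLocalization.exists_mk'_eq mJ.primeCompl y
      obtain ⟨a, rfl⟩ := Ideal.Quotient.mk_surjective a
      obtain ⟨b, rfl⟩ := Ideal.Quotient.mk_surjective b
      obtain ⟨s, hs'⟩ := s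
      obtain ⟨u, hu'⟩ := u
      obtain ⟨s, rfl⟩ := Ideal.Quotient.mk_surjective s
      obtain ⟨u, rfl⟩ := Ideal.Quotient.mk_surjective u
      simp only [gI, gJ, LI, LJ, Localization.localRingHom_mk', Ideal.Quotient.factor_mk] at hp
      rw [IsLocalization.mk'_eq_iff_eq, IsLocalization.eq_iff_exists mS.primeCompl] at hp
      obtain ⟨⟨t, ht'⟩, hte⟩ := hp
      obtain ⟨t, rfl⟩ := Ideal.Quotient.mk_surjective t
      simp only [← map_mul] at hte
      rw [Ideal.Quotient.eq, Submodule.mem_sup] at hte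
      obtain ⟨i, hi, j, hj, hij⟩ := hte
      have hts : t * s * u ∉ M := fun hh => by
        rcases hMp.mem_or_mem hh with hh | hh
        · rcases hMp.mem_or_mem hh with hh | hh
          · exact (hmem hSM t).1 ht' hh
          · exact (hmem hIM s).1 hs' hh
        · exact (hmem hJM u).1 hu' hh
      refine ⟨IsLocalization.mk' L (Ideal.Quotient.mk (I ⊓ J) (t * u * a - i))
        (⟨Ideal.Quotient.mk _ (t * s * u), (hmem (inf_le_left.trans hIM) _).2 hts⟩ : m.primeCompl), Prod.ext ?_ ?_⟩
      · show fI _ = _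
        simp only [fI, L, LI, Localization.localRingHom_mk', Ideal.Quotient.factor_mk]
        refine IsLocalization.mk'_eq_of_eq ?_
        simp only [← map_mul]
        refine Ideal.Quotient.eq.2 ?_
        rw [show t * s * u * a - s * (t * u * a - i) = s * i by ring]
        exact Ideal.mul_mem_left _ _ hi
      · show fJ _ = _
        simp only [fJ, L, LJ, Localization.localRingHom_mk', Ideal.Quotient.factor_mk]
        refine IsLocalization.mk'_eq_of_eq ?_
        simp only [← map_mul]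
        refine Ideal.Quotient.eq.2 ?_
        rw [show t * s * u * b - u * (t * u * a - i) = -(u * j) by linear_combination u * hij]
        exact neg_mem (Ideal.mul_mem_left _ _ hj)
    · rintro ⟨x, rfl⟩
      show gI (fI x) - gJ (fJ x) = 0
      rw [hgI, hgJ, sub_self]
  have hβ : Function.Surjective β := fun z => by
    obtain ⟨x, hx⟩ := hSs z
    exact ⟨(fI x, 0), by show gI (fI x) - gJ 0 = z; rw [map_zero, sub_zero, hgI, hx]⟩
  have hprod := (idealDepth_shortExact (maximalIdeal L) (LinearMap.inl L LI LJ) (LinearMap.snd L LI LJ)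
    LinearMap.inl_injective LinearMap.snd_surjective Function.Exact.inl_snd).1
  have hL := (idealDepth_shortExact (maximalIdeal L) α β hα hβ hexact).2.2
  have hdepth : (e : ℕ∞) ≤ LocCoh.depth L L := by
    refine le_trans ?_ hL
    refine le_min (le_trans ?_ hprod) ?_
    · exact le_min (le_of_eq dI.symm) (le_of_eq dJ.symm)
    · show (e : ℕ∞) ≤ LocCoh.depth L LS + 1
      rw [dS]
      norm_cast
      omega
  have hup : ringKrullDim L ≤ (e : WithBot ℕ∞) := by
    rw [IsLocalization.AtPrime.ringKrullDim_eq_height m L]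
    exact le_trans (Ideal.height_le_ringKrullDim_of_ne_top hm.ne_top) hdim
  have h1 : ((e : ℕ∞) : WithBot ℕ∞) ≤ ((LocCoh.depth L L : ℕ∞) : WithBot ℕ∞) := WithBot.coe_le_coe.2 hdepth
  have h2 := depth_le_dim L
  refine ⟨{ supportDim_eq_depth := ?_ }, le_antisymm hup (h1.trans h2)⟩
  rw [Module.supportDim_self_eq_ringKrullDim]
  exact le_antisymm (hup.trans h1) h2

variable {K : Type u} [Field K] [Algebra K A] (𝒜 : ℕ → Submodule K A) [GradedAlgebra 𝒜]
  (h0 : ∀ a ∈ 𝒜 0, ∃ c : K, algebraMap K A c = a)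

include h0 in
theorem cm_inf_at_irrelevant [IsNoetherianRing A] (I J : Ideal A) (hI : I.IsHomogeneous 𝒜)
    (hJ : J.IsHomogeneous 𝒜) (e : ℕ) (he : 1 ≤ e)
    (hIcm : LocCoh.IsCohenMacaulayRing (A ⧸ I)) (hJcm : LocCoh.IsCohenMacaulayRing (A ⧸ J))
    (hIJcm : LocCoh.IsCohenMacaulayRing (A ⧸ (I ⊔ J)))
    (hIdim : ringKrullDim (A ⧸ I) = (e : WithBot ℕ∞)) (hJdim : ringKrullDim (A ⧸ J) = (e : WithBot ℕ∞))
    (hIJdim : ringKrullDim (A ⧸ (I ⊔ J)) = ((e - 1 : ℕ) : WithBot ℕ∞))
    [hm : ((HomogeneousIdeal.irrelevant 𝒜).toIdeal.map (Ideal.Quotient.mk (I ⊓ J))).IsPrime] :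
    LocCoh.IsCohenMacaulayLocalRing (Localization.AtPrime
        ((HomogeneousIdeal.irrelevant 𝒜).toIdeal.map (Ideal.Quotient.mk (I ⊓ J)))) ∧
      ringKrullDim (Localization.AtPrime
        ((HomogeneousIdeal.irrelevant 𝒜).toIdeal.map (Ideal.Quotient.mk (I ⊓ J)))) = (e : WithBot ℕ∞) := by
  set M := (HomogeneousIdeal.irrelevant 𝒜).toIdeal
  have hne : ∀ {N : Ideal A} {k : ℕ}, ringKrullDim (A ⧸ N) = (k : WithBot ℕ∞) → N ≠ ⊤ := by
    intro N k hk h
    haveI : Subsingleton (A ⧸ N) := Ideal.Quotient.subsingleton_iff.2 h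
    rw [ringKrullDim_eq_bot_of_subsingleton] at hk
    exact WithBot.bot_ne_coe hk
  obtain ⟨hI1, hI2⟩ := ringKrullDim_quotient_eq_height 𝒜 h0 hI (hne hIdim)
  obtain ⟨hJ1, hJ2⟩ := ringKrullDim_quotient_eq_height 𝒜 h0 hJ (hne hJdim)
  obtain ⟨hS1, hS2⟩ := ringKrullDim_quotient_eq_height 𝒜 h0 (hI.sup hJ) (hne hIJdim)
  haveI := hI1.isPrime
  haveI := hJ1.isPrime
  haveI := hS1.isPrime
  rw [hIdim] at hI2
  rw [hJdim] at hJ2
  rw [hIJdim] at hS2
  exact cm_inf_at I J M e he (le_irrelevant_of_isHomogeneous 𝒜 h0 hI (hne hIdim))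
    (le_irrelevant_of_isHomogeneous 𝒜 h0 hJ (hne hJdim)) hIcm hJcm hIJcm
    (WithBot.coe_inj.1 hI2).symm (WithBot.coe_inj.1 hJ2).symm (WithBot.coe_inj.1 hS2).symm
    (ringKrullDim_inf_le hIdim.le hJdim.le)

end Groth.Smt
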