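import Mathlib.RingTheory.IntegralClosure.IntegrallyClosed
import Mathlib.RingTheory.Localization.FractionRing
import Mathlib.Tactic

/-! Normality of a subring `A ⊆ P` which agrees with the normal ring `P` after inverting an element
`x` of `A` generating a radical ideal. -/

set_option autoImplicit false

universe u v

namespace Groth.Smt

variable {A : Type u} [CommRing A] [IsDomain A] {P : Type v} [CommRing P] [IsDomain P]
  [IsIntegrallyClosed P]

theorem mem_range_of_isIntegral (f : A →+* P) (hf : Function.Injective f) {x : A} (hx0 : x ≠ 0)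
    (hx : (Ideal.span {x}).IsRadical) {p : P} (hp : f.IsIntegralElem p) :
    ∀ (k : ℕ) (a : A), f x ^ k * p = f a → ∃ c, f c = p := by
  intro k
  induction k with
  | zero => exact fun a ha => ⟨a, by simpa using ha.symm⟩
  | succ k ih =>
    intro a ha
    obtain ⟨q, hq, hq0⟩ := hp
    have hmem : a ^ q.natDegree ∈ Ideal.span {x} := by
      have e : f x ^ ((k + 1) * q.natDegree) * Polynomial.eval₂ f p q =
          f (∑ i ∈ Finset.range (q.natDegree + 1),
            q.coeff i * a ^ i * x ^ ((k + 1) * (q.natDegree - i))) := by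
        rw [Polynomial.eval₂_eq_sum_range, Finset.mul_sum, map_sum]
        refine Finset.sum_congr rfl fun i hi => ?_
        rw [Finset.mem_range] at hi
        rw [map_mul, map_mul, map_pow, map_pow, ← ha,
          show (k + 1) * q.natDegree = (k + 1) * i + (k + 1) * (q.natDegree - i) by
            rw [← Nat.mul_add]; congr 1; omega, pow_add, mul_pow, ← pow_mul]
        ring
      rw [hq0, mul_zero] at e
      have e' : (0 : A) = ∑ i ∈ Finset.range (q.natDegree + 1),
          q.coeff i * a ^ i * x ^ ((k + 1) * (q.natDegree - i)) := hf (by rw [map_zero]; exact e)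
      rw [Finset.sum_range_succ, hq.coeff_natDegree, one_mul, Nat.sub_self, Nat.mul_zero, pow_zero,
        mul_one, eq_comm, add_eq_zero_iff_neg_eq] at e'
      rw [← e', neg_mem_iff]
      refine Submodule.sum_mem _ fun i hi => Ideal.mul_mem_left _ _ ?_
      rw [Finset.mem_range] at hi
      exact Ideal.pow_mem_of_mem _ (Ideal.mem_span_singleton_self x) _
        (Nat.mul_pos (Nat.succ_pos k) (by omega))
    obtain ⟨b, rfl⟩ := Ideal.mem_span_singleton.1 (hx ⟨_, hmem⟩)
    refine ih b ?_
    have hfx : f x ≠ 0 := fun h0 => hx0 (hf (by rw [h0, map_zero]))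
    apply mul_left_cancel₀ hfx
    rw [← map_mul, ← ha, pow_succ]
    ring

theorem isIntegrallyClosed_of_agree_away (f : A →+* P) (hf : Function.Injective f) {x : A}
    (hx0 : x ≠ 0) (hx : (Ideal.span {x}).IsRadical) (h : ∀ p : P, ∃ k a, f x ^ k * p = f a) :
    IsIntegrallyClosed A := by
  rw [isIntegrallyClosed_iff (FractionRing A)]
  intro y hy
  let g : FractionRing A →+* FractionRing P := IsLocalization.map (FractionRing P) f
    (nonZeroDivisors_le_comap_nonZeroDivisors_of_injective f hf)
  have hg : ∀ a : A, g (algebraMap A (FractionRing A) a) = algebraMap P (FractionRing P) (f a) :=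
    fun a => IsLocalization.map_eq _ a
  obtain ⟨a, b, hb, rfl⟩ := IsFractionRing.div_surjective (A := A) y
  set y := algebraMap A (FractionRing A) a / algebraMap A (FractionRing A) b with hy_def
  obtain ⟨q, hq, hq0⟩ := hy
  have hcomp : g.comp (algebraMap A (FractionRing A)) = (algebraMap P (FractionRing P)).comp f :=
    RingHom.ext hg
  have h1 : Polynomial.eval₂ ((algebraMap P (FractionRing P)).comp f) (g y) q = 0 := by
    rw [← hcomp, ← Polynomial.hom_eval₂, hq0, map_zero]
  have hint : IsIntegral P (g y) := ⟨q.map f, hq.map f, by rw [Polynomial.eval₂_map]; exact h1⟩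
  obtain ⟨p, hp⟩ := IsIntegrallyClosed.isIntegral_iff.1 hint
  have hpint : f.IsIntegralElem p := by
    refine ⟨q, hq, IsFractionRing.injective P (FractionRing P) ?_⟩
    rw [Polynomial.hom_eval₂, hp, h1, map_zero]
  obtain ⟨k, a', hk⟩ := h p
  obtain ⟨c, hc⟩ := mem_range_of_isIntegral f hf hx0 hx hpint k a' hk
  refine ⟨c, ?_⟩
  apply g.injective
  rw [hg, hc, hp]

end Groth.Smt
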