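import Groth.Agent.Smt.SchubertCM

/-! Dehomogenising a Cohen–Macaulay cone at the first form of a system of parameters. -/

set_option autoImplicit false

universe u

open Finset MvPolynomial

namespace Groth.Smt

variable {K : Type u} [Field K] {σ : Type} [Finite σ]

/-- Setting the first variable to `1`. -/
noncomputable def dropFirst (m : ℕ) : MvPolynomial (Fin (m + 1)) K →ₐ[K] MvPolynomial (Fin m) K :=
  MvPolynomial.aeval (Fin.cons (α := fun _ => MvPolynomial (Fin m) K) 1 MvPolynomial.X)

theorem cm_and_dim_dehom {θ : ℕ → MvPolynomial σ K} (hθ : ∀ k, (θ k).IsHomogeneous 1)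
    {I : Ideal (MvPolynomial σ K)} (hI : HStable I) {m N : ℕ} (hreg : RegUpTo θ I (m + 1))
    (hN : idealOfVars σ K ^ N ≤ I ⊔ Th θ (m + 1)) (A : Type u) [CommRing A]
    (eA : (MvPolynomial σ K ⧸ (I ⊔ Ideal.span {θ 0 - 1})) ≃+* A) :
    LocCoh.IsCohenMacaulayRing A ∧ (Nontrivial A → ringKrullDim A = (m : WithBot ℕ∞)) := by
  classical
  obtain ⟨E, hspan, hind⟩ := exists_free_basis hθ hI hreg hN
  set I' := I ⊔ Ideal.span {θ 0 - 1} with hI'
  have hII' : I ≤ I' := le_sup_left
  let th' : MvPolynomial (Fin m) K →ₐ[K] MvPolynomial σ K :=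
    MvPolynomial.aeval fun j => θ (j.val + 1)
  have hdrop : ∀ p : MvPolynomial (Fin (m + 1)) K, thHom θ (m + 1) p - th' (dropFirst m p) ∈ I' := by
    intro p
    rw [← Ideal.Quotient.eq_zero_iff_mem, map_sub, sub_eq_zero]
    have h : (Ideal.Quotient.mkₐ K I').comp (thHom θ (m + 1)) =
        (Ideal.Quotient.mkₐ K I').comp (th'.comp (dropFirst m)) := by
      refine MvPolynomial.algHom_ext fun j => ?_
      induction j using Fin.cases with
      | zero =>
        simp only [AlgHom.comp_apply, thHom, dropFirst, aeval_X, Fin.cons_zero, Fin.val_zero, map_one]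
        rw [← map_one (Ideal.Quotient.mkₐ K I'), Ideal.Quotient.mkₐ_eq_mk, Ideal.Quotient.eq]
        exact Submodule.mem_sup_right (Ideal.mem_span_singleton_self _)
      | succ j => simp [thHom, dropFirst, th']
    exact DFunLike.congr_fun h p
  have hlift : ∀ p : MvPolynomial (Fin m) K, thHom θ (m + 1) (rename Fin.succ p) = th' p := fun p =>
    DFunLike.congr_fun (show (thHom θ (m + 1)).comp (rename Fin.succ) = th' from
      MvPolynomial.algHom_ext fun j => by simp [thHom, th']) p
  have hdr : ∀ p : MvPolynomial (Fin m) K, dropFirst m (rename Fin.succ p) = p := fun p =>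
    DFunLike.congr_fun (show (dropFirst (K := K) m).comp (rename Fin.succ) = AlgHom.id K _ from
      MvPolynomial.algHom_ext fun j => by simp [dropFirst]) p
  let ψ : MvPolynomial (Fin m) K →+* MvPolynomial σ K ⧸ I' :=
    (Ideal.Quotient.mk I').comp th'.toRingHom
  letI : Algebra (MvPolynomial (Fin m) K) (MvPolynomial σ K ⧸ I') := ψ.toAlgebra
  let v : E → MvPolynomial σ K ⧸ I' := fun e => Ideal.Quotient.mk I' (monomial e.1 1)
  have hsum : ∀ p : E → MvPolynomial (Fin m) K,
      ∑ e, p e • v e = Ideal.Quotient.mk I' (∑ e, th' (p e) * monomial e.1 1) := by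
    intro p
    rw [map_sum]
    exact Finset.sum_congr rfl fun e _ => by rw [map_mul]; rfl
  have hli : LinearIndependent (MvPolynomial (Fin m) K) v := by
    rw [Fintype.linearIndependent_iff]
    intro p hp e
    rw [hsum, Ideal.Quotient.eq_zero_iff_mem, hI', Submodule.mem_sup] at hp
    obtain ⟨a, ha, b, hb, hab⟩ := hp
    obtain ⟨g, rfl⟩ := Ideal.mem_span_singleton.1 hb
    obtain ⟨q, hq⟩ := hspan g
    have h1 : ∑ e : E, thHom θ (m + 1) (rename Fin.succ (p e) - (MvPolynomial.X 0 - 1) * q e) *
        monomial e.1 1 ∈ I := by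
      simp only [map_sub, map_mul, map_one, hlift, sub_mul, sum_sub_distrib]
      rw [show thHom θ (m + 1) (MvPolynomial.X 0) = θ 0 from aeval_X _ _]
      simp only [mul_assoc, one_mul, ← mul_sum]
      rw [show (∑ e : E, th' (p e) * monomial e.1 1) -
          (θ 0 * ∑ e : E, thHom θ (m + 1) (q e) * monomial e.1 1 -
            ∑ e : E, thHom θ (m + 1) (q e) * monomial e.1 1) =
          a + (θ 0 - 1) * (g - ∑ e : E, thHom θ (m + 1) (q e) * monomial e.1 1) by
        rw [← hab]; ring]
      exact Ideal.add_mem _ ha (Ideal.mul_mem_left _ _ hq)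
    have h2 := congrArg (dropFirst m) (congrFun (hind _ h1) e)
    rw [map_sub, map_mul, hdr, map_sub, map_one, Pi.zero_apply, map_zero] at h2
    simpa [dropFirst] using h2
  have hsp : ⊤ ≤ Submodule.span (MvPolynomial (Fin m) K) (Set.range v) := by
    intro x _
    obtain ⟨f, rfl⟩ := Ideal.Quotient.mk_surjective x
    obtain ⟨p, hp⟩ := hspan f
    have : Ideal.Quotient.mk I' f =
        Ideal.Quotient.mk I' (∑ e : E, th' (dropFirst m (p e)) * monomial e.1 1) := by
      rw [Ideal.Quotient.eq.2 (hII' hp), Ideal.Quotient.eq, ← sum_sub_distrib]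
      refine Ideal.sum_mem _ fun e _ => ?_
      rw [← sub_mul]
      exact Ideal.mul_mem_right _ _ (hdrop (p e))
    rw [this, ← hsum]
    exact Submodule.sum_mem _ fun e _ => Submodule.smul_mem _ _ (Submodule.subset_span ⟨e, rfl⟩)
  let b := Module.Basis.mk hli hsp
  haveI : Module.Free (MvPolynomial (Fin m) K) (MvPolynomial σ K ⧸ I') := Module.Free.of_basis b
  haveI : Module.Finite (MvPolynomial (Fin m) K) (MvPolynomial σ K ⧸ I') := Module.Finite.of_basis b
  haveI : IsRegularRing (MvPolynomial (Fin m) K) := MvPolynomial.isRegularRing_of_isRegularRing K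
  letI algA : Algebra (MvPolynomial (Fin m) K) A := (eA.toRingHom.comp ψ).toAlgebra
  let l : (MvPolynomial σ K ⧸ I') ≃ₗ[MvPolynomial (Fin m) K] A :=
    { eA with
      map_smul' := fun p x => by
        show eA (ψ p * x) = eA (ψ p) * eA x
        exact map_mul eA _ _ }
  haveI : Module.Free (MvPolynomial (Fin m) K) A := Module.Free.of_equiv l
  haveI : Module.Finite (MvPolynomial (Fin m) K) A := Module.Finite.equiv l
  refine ⟨isCohenMacaulayRing_of_free (MvPolynomial (Fin m) K) _, fun hA => ?_⟩
  haveI := hA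
  rw [ringKrullDim_eq_of_free (MvPolynomial (Fin m) K),
    MvPolynomial.ringKrullDim_of_isNoetherianRing, ringKrullDim_eq_zero_of_field, zero_add, Nat.card_fin]

end Groth.Smt
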