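import Groth.Agent.Smt.Cell
import Mathlib.LinearAlgebra.Matrix.Rank
import Mathlib.LinearAlgebra.Matrix.NonsingularInverse

/-! Normalising a full-rank matrix at a nonzero maximal minor. -/

set_option autoImplicit false

universe u

open Finset W4bk4grassmannian

namespace Groth.Smt

variable {d n : ℕ}

theorem det'_mul {R : Type u} [CommRing R] (A : Matrix (Fin n) (Fin d) R)
    (g : Matrix (Fin d) (Fin d) R) (a : Fin d → Fin n) :
    det' (A * g) a = det' A a * g.det := by
  have e : (A * g).submatrix a id = A.submatrix a id * g := by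
    ext i j; simp [Matrix.mul_apply]
  rw [det', e, Matrix.det_mul, det']

theorem det'_congr {R : Type u} [CommRing R] (A A' : Matrix (Fin n) (Fin d) R) (c : R)
    (h : ∀ θ : Idx d n, det' A θ.1 = c * det' A' θ.1) (a : Fin d → Fin n) :
    det' A a = c * det' A' a := by
  rw [det'_eq_coord A a, det'_eq_coord A' a]
  split
  · rw [h]; ring
  · rw [mul_zero]

variable {K : Type u} [Field K]

theorem exists_minor_ne_zero (A : Matrix (Fin n) (Fin d) K) (hA : LinearIndependent K A.transpose) :
    ∃ θ : Idx d n, det' A θ.1 ≠ 0 := by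
  classical
  have hr : Module.finrank K (Submodule.span K (Set.range A.row)) = d := by
    rw [← A.rank_eq_finrank_span_row, A.rank_eq_finrank_span_cols]
    have := finrank_span_eq_card hA
    rw [Fintype.card_fin] at this
    exact this
  obtain ⟨b, hb, hsp, hli⟩ := exists_linearIndependent K (Set.range A.row)
  haveI : Fintype b := ((Set.finite_range A.row).subset hb).fintype
  have hcard : Fintype.card b = d := by
    rw [← hsp] at hr
    have := finrank_span_eq_card hli
    rw [Subtype.range_coe, ← Nat.card_eq_fintype_card] at this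
    rw [← Nat.card_eq_fintype_card]
    exact this.symm.trans hr
  let e : Fin d ≃ b := (Fintype.equivFinOfCardEq hcard).symm
  choose a ha using fun t : Fin d => hb (e t).2
  have hrows : LinearIndependent K (A.submatrix a id).row := by
    have : (A.submatrix a id).row = (Subtype.val : b → Fin d → K) ∘ e := funext fun t => ha t
    rw [this]
    exact hli.comp _ e.injective
  have hne : det' A a ≠ 0 :=
    ((Matrix.isUnit_iff_isUnit_det _).1 (Matrix.linearIndependent_rows_iff_isUnit.1 hrows)).ne_zero
  rw [det'_eq_coord] at hne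
  split at hne
  · exact ⟨_, right_ne_zero_of_mul hne⟩
  · exact absurd rfl hne

/-- `A` times the inverse of its submatrix on the rows `θ`. -/
theorem exists_normalize (A : Matrix (Fin n) (Fin d) K) {θ : Idx d n} (h : det' A θ.1 ≠ 0) :
    ∃ g : Matrix (Fin d) (Fin d) K, g.det = (det' A θ.1)⁻¹ ∧
      (A * g).submatrix θ.1 id = 1 := by
  set M := A.submatrix θ.1 id with hM
  have hu : IsUnit M.det := isUnit_iff_ne_zero.2 h
  refine ⟨M⁻¹, ?_, ?_⟩
  · rw [Matrix.det_nonsing_inv, Ring.inverse_eq_inv', det']
  · have e : (A * M⁻¹).submatrix θ.1 id = M * M⁻¹ := by ext i j; simp [Matrix.mul_apply, hM]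
    rw [e, Matrix.mul_nonsing_inv _ hu]

theorem span_cols_mul (A : Matrix (Fin n) (Fin d) K) (g : Matrix (Fin d) (Fin d) K) (hg : g.det ≠ 0) :
    Submodule.span K (Set.range (A * g).transpose) = Submodule.span K (Set.range A.transpose) := by
  have e : ∀ B : Matrix (Fin n) (Fin d) K,
      LinearMap.range B.mulVecLin = Submodule.span K (Set.range B.transpose) := fun B =>
    Matrix.range_mulVecLin B
  rw [← e, ← e, Matrix.mulVecLin_mul, LinearMap.range_comp_of_range_eq_top]
  rw [LinearMap.range_eq_top]
  exact Matrix.mulVec_surjective_iff_isUnit.2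
    ((Matrix.isUnit_iff_isUnit_det g).2 (isUnit_iff_ne_zero.2 hg))

theorem span_cols_eq_of_minors (A A' : Matrix (Fin n) (Fin d) K) (hA : LinearIndependent K A.transpose)
    (c : K) (h : ∀ θ : Idx d n, det' A θ.1 = c * det' A' θ.1) :
    Submodule.span K (Set.range A.transpose) = Submodule.span K (Set.range A'.transpose) := by
  obtain ⟨θ, hθ⟩ := exists_minor_ne_zero A hA
  have hc : c * det' A' θ.1 ≠ 0 := h θ ▸ hθ
  obtain ⟨g, hg, hgn⟩ := exists_normalize A hθ
  obtain ⟨g', hg', hgn'⟩ := exists_normalize A' (right_ne_zero_of_mul hc)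
  have key : A * g = A' * g' := by
    ext a s
    rw [← det'_update (A * g) θ hgn s a, ← det'_update (A' * g') θ hgn' s a, det'_mul, det'_mul,
      det'_congr A A' c h, hg, hg', h θ]
    field_simp [left_ne_zero_of_mul hc, right_ne_zero_of_mul hc]
  rw [← span_cols_mul A g (by rw [hg]; exact inv_ne_zero hθ), key,
    span_cols_mul A' g' (by rw [hg']; exact inv_ne_zero (right_ne_zero_of_mul hc))]

end Groth.Smt
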