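import Mathlib.RingTheory.IntegralClosure.IntegrallyClosed
import Mathlib.RingTheory.Localization.FractionRing

/-! A retract of a normal domain is normal. -/

set_option autoImplicit false

universe u v

namespace Groth.Smt

theorem isIntegrallyClosed_of_retraction {A : Type u} {L : Type v} [CommRing A] [IsDomain A]
    [CommRing L] [IsDomain L] [IsIntegrallyClosed L] (i : A →+* L) (r : L →+* A)
    (hri : ∀ a, r (i a) = a) : IsIntegrallyClosed A := by
  have hi : Function.Injective i := Function.LeftInverse.injective hri
  rw [isIntegrallyClosed_iff (FractionRing A)]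
  intro x hx
  obtain ⟨a, b, hb, rfl⟩ := IsFractionRing.div_surjective A x
  let f : FractionRing A →+* FractionRing L :=
    IsFractionRing.map (A := A) (B := L) (K := FractionRing A) (L := FractionRing L) hi
  have hf : ∀ c : A, f (algebraMap A (FractionRing A) c) = algebraMap L (FractionRing L) (i c) :=
    fun c => IsLocalization.map_eq _ _
  have hx' : IsIntegral L (f (algebraMap A _ a / algebraMap A _ b)) :=
    hx.map_of_comp_eq i f (RingHom.ext fun c => (hf c).symm)
  obtain ⟨y, hy⟩ := IsIntegrallyClosed.isIntegral_iff.1 hx'
  refine ⟨r y, ?_⟩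
  have hb0 : b ≠ 0 := nonZeroDivisors.ne_zero hb
  rw [map_div₀, hf, hf, eq_div_iff (by
    rw [Ne, IsFractionRing.to_map_eq_zero_iff]; exact fun h => hb0 (hi (by rw [h, map_zero]))),
    ← map_mul] at hy
  have := congrArg r (IsFractionRing.injective L (FractionRing L) hy)
  rw [map_mul, hri, hri] at this
  rw [eq_div_iff (by rw [Ne, IsFractionRing.to_map_eq_zero_iff]; exact hb0), ← map_mul, this]

end Groth.Smt
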