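import Groth.Agent.Smt.CellMinors
import Groth.Agent.Smt.Normalize
import Groth.Agent.Smt.Retraction
import Groth.Agent.Smt.Dehom

/-! Determinantal rings as dehomogenised coordinate rings of Schubert varieties. -/

set_option autoImplicit false

universe u

open Finset MvPolynomial W4bk4grassmannian

namespace Groth.Smt

variable {d r t : ℕ}

/-- The index of the Schubert variety whose opposite cell is the determinantal variety. -/
def detIdx (ht : 0 < t) (htd : t ≤ d) (htr : t ≤ r) : Idx d (d + r) :=
  ⟨fun s => if s.val ≤ d - t then ⟨t - 1 + s.val, by have := s.isLt; omega⟩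
      else ⟨r + s.val, by have := s.isLt; omega⟩, fun a b hab => by
    have : a.val < b.val := hab
    simp only [Fin.lt_def]
    split_ifs <;> simp only <;> omega⟩

theorem val_add_le {n : ℕ} (θ : Idx d n) (s s' : Fin d) (h : s ≤ s') :
    (θ.1 s).val + (s'.val - s.val) ≤ (θ.1 s').val := by
  obtain ⟨k, hk⟩ : ∃ k, s.val + k = s'.val := ⟨s'.val - s.val, by have : s.val ≤ s'.val := h; omega⟩
  induction k generalizing s' with
  | zero => obtain rfl : s = s' := Fin.ext (by omega); omega
  | succ k ih =>
    have h1 := ih ⟨s.val + k, by omega⟩ (by rw [Fin.le_def]; simp) rfl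
    have h2 : (θ.1 ⟨s.val + k, by omega⟩).val < (θ.1 s').val := θ.2 (by rw [Fin.lt_def]; simp; omega)
    simp only at h1
    omega

theorem le_detIdx_iff (hd : 0 < d) (ht : 0 < t) (htd : t ≤ d) (htr : t ≤ r) (θ : Idx d (d + r)) :
    θ ≤ detIdx ht htd htr ↔ (θ.1 ⟨d - t, Nat.sub_lt hd ht⟩).val < d := by
  constructor
  · intro h
    have h1 := h ⟨d - t, Nat.sub_lt hd ht⟩
    simp only [detIdx, le_refl, if_true, Fin.le_def] at h1
    omega
  · intro h s
    simp only [detIdx]
    split_ifs with hs
    · have h1 := val_add_le θ s ⟨d - t, Nat.sub_lt hd ht⟩ hs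
      simp only at h1
      rw [Fin.le_def]
      simp only
      omega
    · have h1 := val_le θ s
      rw [Fin.le_def]
      simp only
      omega

theorem codeg_detIdx (ht : 0 < t) (htd : t ≤ d) (htr : t ≤ r) :
    codeg (detIdx ht htd htr) = (t - 1) * (d + r - t + 1) := by
  have e : ∀ s : Fin d, ((detIdx ht htd htr).1 s).val - s.val =
      if s.val ≤ d - t then t - 1 else r := by
    intro s
    simp only [detIdx]
    split_ifs <;> simp only <;> omega
  rw [codeg, Finset.sum_congr rfl fun s _ => e s, Finset.sum_ite, sum_const, sum_const, smul_eq_mul,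
    smul_eq_mul]
  have h1 : (univ.filter fun s : Fin d => s.val ≤ d - t).card = d - t + 1 := by
    have hd : d - t < d := by omega
    rw [show (univ.filter fun s : Fin d => s.val ≤ d - t) = Finset.Iic ⟨d - t, hd⟩ by
      ext s; simp [Fin.le_def], Fin.card_Iic]
  have h2 := card_filter_add_card_filter_not (s := (univ : Finset (Fin d))) (fun s => s.val ≤ d - t)
  rw [h1, card_univ, Fintype.card_fin] at h2
  rw [h1, show (univ.filter fun s : Fin d => ¬ s.val ≤ d - t).card = t - 1 by omega]
  obtain ⟨a, rfl⟩ : ∃ a, t = a + 1 := ⟨t - 1, by omega⟩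
  obtain ⟨b, rfl⟩ : ∃ b, d = a + 1 + b := ⟨d - (a + 1), by omega⟩
  rw [show a + 1 + b - (a + 1) = b by omega, show a + 1 + b + r - (a + 1) = b + r by omega,
    Nat.add_sub_cancel]
  ring

theorem eq_botIdx_of_codeg {n : ℕ} (hdn : d ≤ n) {θ : Idx d n} (h : codeg θ = 0) :
    θ = botIdx hdn := by
  refine (eq_of_le_of_key (bot_le hdn θ) ?_).symm
  have e : codeg (botIdx (d := d) hdn) = 0 := by simp [codeg, botIdx]
  rw [key_eq_codeg θ, key_eq_codeg (botIdx hdn), h, e]

variable (K : Type u) [Field K]

theorem rankSum_zero {n : ℕ} (hdn : d ≤ n) : rankSum K d n 0 = X (botIdx hdn) := by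
  classical
  have : (univ.filter fun φ : Idx d n => codeg φ = 0) = {botIdx hdn} := by
    ext φ
    simp only [mem_filter, mem_univ, true_and, mem_singleton]
    refine ⟨eq_botIdx_of_codeg hdn, ?_⟩
    rintro rfl
    simp [codeg, botIdx]
  rw [rankSum, this, sum_singleton]

/-- Restriction of Plücker polynomials to the opposite big cell. -/
noncomputable def toCell (d r : ℕ) : PlRing K d (d + r) →ₐ[K] CellRing K d r :=
  aeval fun θ : Idx d (d + r) => det' (cellMatrix K d r) θ.1

theorem cellMatrix_bot : (cellMatrix K d r).submatrix (botIdx (Nat.le_add_right d r)).1 id = 1 := by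
  refine Matrix.ext fun i j => ?_
  rw [Matrix.submatrix_apply, cellMatrix, Matrix.of_apply,
    dif_pos (show ((botIdx (Nat.le_add_right d r)).1 i).val < d from i.isLt)]
  simp [Matrix.one_apply, botIdx, Fin.val_inj]

theorem toCell_coord_update (i : Fin r) (j : Fin d) :
    toCell K d r (coord K d (d + r) (Function.update (botIdx (Nat.le_add_right d r)).1 j (Fin.natAdd d i))) =
      X (i, j) := by
  rw [toCell, aeval_coord, det'_update _ _ (cellMatrix_bot K), cellMatrix_apply_of_le K d r _ (by simp)]
  simp [genMatrix]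

theorem toCell_X_bot : toCell K d r (X (botIdx (Nat.le_add_right d r))) = 1 := by
  rw [toCell, aeval_X, det', cellMatrix_bot, Matrix.det_one]

variable (hd : 0 < d) (ht : 0 < t) (htd : t ≤ d) (htr : t ≤ r)

theorem minorIdeal_eq_span :
    CAlgX.minorIdeal (genMatrix K r d) t =
      Ideal.span {f | ∃ θ : Idx d (d + r), ¬ θ ≤ detIdx ht htd htr ∧ f = det' (cellMatrix K d r) θ.1} := by
  classical
  apply le_antisymm
  · rw [CAlgX.minorIdeal, Ideal.span_le]
    rintro F ⟨⟨f, g⟩, rfl⟩
    have hd : 0 < d := lt_of_lt_of_le ht htd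
    refine Ideal.span_mono ?_ (minor_mem_cellMinor_span K d r t hd ht htd f g)
    rintro F ⟨θ, hθ, rfl⟩
    exact ⟨θ, fun h => absurd ((le_detIdx_iff hd ht htd htr θ).1 h) (not_lt.2 hθ), rfl⟩
  · rw [Ideal.span_le]
    rintro F ⟨θ, hθ, rfl⟩
    have hd : 0 < d := lt_of_lt_of_le ht htd
    rw [le_detIdx_iff hd ht htd htr, not_lt] at hθ
    refine det_cellMatrix_mem K d r t d θ.1 id ?_
    calc t = (Finset.Ici (⟨d - t, Nat.sub_lt hd ht⟩ : Fin d)).card := by
          rw [Fin.card_Ici]; simp only; omega
      _ ≤ _ := Finset.card_le_card fun i hi => Finset.mem_filter.2 ⟨Finset.mem_univ _,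
          hθ.trans (θ.2.monotone (Finset.mem_Ici.1 hi))⟩

theorem toCell_mem_of_mem_plIdeal {P : PlRing K d (d + r)}
    (h : P ∈ plIdeal K (detIdx ht htd htr)) : toCell K d r P ∈ CAlgX.minorIdeal (genMatrix K r d) t := by
  have : plIdeal K (detIdx ht htd htr) ≤
      (CAlgX.minorIdeal (genMatrix K r d) t).comap (toCell K d r).toRingHom := by
    refine Ideal.span_le.2 ?_
    rintro f (⟨i, j, s, -, rfl⟩ | ⟨φ, hφ, rfl⟩)
    · show toCell K d r _ ∈ CAlgX.minorIdeal (genMatrix K r d) t
      rw [toCell, aeval_shuffleRel]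
      exact Ideal.zero_mem _
    · show toCell K d r (X φ) ∈ CAlgX.minorIdeal (genMatrix K r d) t
      rw [minorIdeal_eq_span K ht htd htr, toCell, aeval_X]
      exact Ideal.subset_span ⟨φ, hφ, rfl⟩
  exact this h

/-- The field of rational functions on banded matrices. -/
abbrev BandField (d r : ℕ) : Type u := FractionRing (MatRing K d (d + r))

/-- Evaluation at the minors of the banded generic matrix of the Schubert variety. -/
noncomputable def bandEval : PlRing K d (d + r) →ₐ[K] BandField K d r :=
  (IsScalarTower.toAlgHom K (MatRing K d (d + r)) (BandField K d r)).comp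
    (piv K (botIdx (Nat.le_add_right d r)) (detIdx ht htd htr))

/-- The generic point of the determinantal variety. -/
noncomputable def genPoint : CellRing K d r →ₐ[K] BandField K d r :=
  aeval fun p : Fin r × Fin d =>
    bandEval K ht htd htr (coord K d (d + r)
      (Function.update (botIdx (Nat.le_add_right d r)).1 p.2 (Fin.natAdd d p.1))) /
      bandEval K ht htd htr (X (botIdx (Nat.le_add_right d r)))

theorem bandEval_eq_zero_iff (P : PlRing K d (d + r)) :
    bandEval K ht htd htr P = 0 ↔ P ∈ plIdeal K (detIdx ht htd htr) := by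
  have hd : 0 < d := lt_of_lt_of_le ht htd
  rw [plIdeal_eq_ivalIdeal K (Nat.le_add_right d r), ← ker_piv K hd]
  show algebraMap _ _ (piv K _ _ P) = 0 ↔ _
  rw [IsFractionRing.to_map_eq_zero_iff]
  rfl

theorem bandEval_bot_ne_zero : bandEval K ht htd htr (X (botIdx (Nat.le_add_right d r))) ≠ 0 := by
  have hd : 0 < d := lt_of_lt_of_le ht htd
  intro h
  rw [bandEval_eq_zero_iff, plIdeal_eq_ivalIdeal K (Nat.le_add_right d r),
    ← sm_pairChain_single (K := K)] at h
  have h1 : piv K (botIdx (Nat.le_add_right d r)) (detIdx ht htd htr)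
      ((Finsupp.single (⟨1, fun _ => botIdx (Nat.le_add_right d r), fun _ _ _ => le_rfl⟩ :
        Chain d (d + r)) (1 : K)).sum fun C c => c • sm K C) = 0 := by
    rw [Finsupp.sum_single_index (h := fun C (c : K) => c • sm K C) (zero_smul K _), one_smul]
    exact ivalIdeal_le_ker K _ _ h
  have h2 := coeff_eq_zero_of_piv_eq_zero K hd _ h1
    (C := ⟨1, fun _ => botIdx (Nat.le_add_right d r), fun _ _ _ => le_rfl⟩)
    (fun _ => ⟨le_rfl, bot_le (Nat.le_add_right d r) _⟩)
  rw [Finsupp.single_eq_same] at h2
  exact one_ne_zero h2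

theorem genPoint_minor (θ : Idx d (d + r)) :
    genPoint K ht htd htr (det' (cellMatrix K d r) θ.1) =
      bandEval K ht htd htr (X θ) / bandEval K ht htd htr (X (botIdx (Nat.le_add_right d r))) := by
  classical
  set ι := botIdx (Nat.le_add_right d r)
  let G : Matrix (Fin (d + r)) (Fin d) (BandField K d r) :=
    (gen K ι (detIdx ht htd htr)).map (algebraMap (MatRing K d (d + r)) _)
  have hG : ∀ a : Fin d → Fin (d + r), det' G a = bandEval K ht htd htr (coord K d (d + r) a) := by
    intro a
    show det' G a = algebraMap _ _ (piv K _ _ (coord K d (d + r) a))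
    rw [piv, aeval_coord, det', det', RingHom.map_det]
    rfl
  have hGX : ∀ φ : Idx d (d + r), det' G φ.1 = bandEval K ht htd htr (X φ) := by
    intro φ
    show det' G φ.1 = algebraMap _ _ (piv K _ _ (X φ))
    rw [piv_X, det', det', RingHom.map_det]
    rfl
  have hne : det' G ι.1 ≠ 0 := by rw [hGX]; exact bandEval_bot_ne_zero K ht htd htr
  obtain ⟨g, hg, hgn⟩ := exists_normalize G hne
  have hM : (cellMatrix K d r).map (genPoint K ht htd htr) = G * g := by
    refine Matrix.ext fun a j => ?_
    rw [Matrix.map_apply]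
    by_cases ha : a.val < d
    · have ea : a = ι.1 ⟨a.val, ha⟩ := Fin.ext rfl
      have := congrFun (congrFun hgn ⟨a.val, ha⟩) j
      rw [Matrix.submatrix_apply, id, ← ea] at this
      rw [this, cellMatrix, Matrix.of_apply, dif_pos ha, Matrix.one_apply]
      simp only [Fin.ext_iff]
      split <;> simp
    · push Not at ha
      rw [cellMatrix_apply_of_le K d r a ha, genMatrix, Matrix.of_apply, genPoint, aeval_X,
        ← det'_update (G * g) ι hgn j a, det'_mul, hg, hG, hGX]
      rw [show Fin.natAdd d ⟨a.val - d, by omega⟩ = a from Fin.ext (by simp; omega), div_eq_mul_inv]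
  rw [det', AlgHom.map_det]
  show det' ((cellMatrix K d r).map (genPoint K ht htd htr)) θ.1 = _
  rw [hM, det'_mul, hg, hGX, hGX, div_eq_mul_inv]

theorem ker_genPoint :
    RingHom.ker (genPoint K ht htd htr).toRingHom = CAlgX.minorIdeal (genMatrix K r d) t := by
  classical
  apply le_antisymm
  · intro h hh
    set ι := botIdx (Nat.le_add_right d r)
    set δ := bandEval K ht htd htr (X ι)
    have key : ∀ h : CellRing K d r, ∃ (k : ℕ) (P : PlRing K d (d + r)),
        toCell K d r P = h ∧ bandEval K ht htd htr P = δ ^ k * genPoint K ht htd htr h := by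
      intro h
      induction h using MvPolynomial.induction_on with
      | C c => exact ⟨0, C c, by simp [toCell], by simp [genPoint, bandEval, piv,
          ← MvPolynomial.algebraMap_eq]⟩
      | add p q hp hq =>
        obtain ⟨k, P, hP, hP'⟩ := hp
        obtain ⟨l, Q, hQ, hQ'⟩ := hq
        refine ⟨k + l, X ι ^ l * P + X ι ^ k * Q, ?_, ?_⟩
        · simp only [map_add, map_mul, map_pow, hP, hQ, ι, toCell_X_bot, one_pow, one_mul]
        · simp only [map_add, map_mul, map_pow, hP', hQ', δ]
          ring
      | mul_X p o hp =>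
        obtain ⟨k, P, hP, hP'⟩ := hp
        refine ⟨k + 1, P * coord K d (d + r) (Function.update ι.1 o.2 (Fin.natAdd d o.1)), ?_, ?_⟩
        · rw [map_mul, hP, toCell_coord_update]
        · rw [map_mul, map_mul, hP', show genPoint K ht htd htr (X o) =
            bandEval K ht htd htr (coord K d (d + r) (Function.update ι.1 o.2 (Fin.natAdd d o.1))) / δ
            from aeval_X _ _, pow_succ]
          have hδ : δ ≠ 0 := bandEval_bot_ne_zero K ht htd htr
          field_simp
    obtain ⟨k, P, hP, hP'⟩ := key h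
    rw [show genPoint K ht htd htr h = 0 from hh, mul_zero, bandEval_eq_zero_iff] at hP'
    rw [← hP]
    exact toCell_mem_of_mem_plIdeal K ht htd htr hP'
  · rw [minorIdeal_eq_span K ht htd htr, Ideal.span_le]
    rintro F ⟨θ, hθ, rfl⟩
    show genPoint K ht htd htr _ = 0
    rw [genPoint_minor, (bandEval_eq_zero_iff K ht htd htr _).2
      (Ideal.subset_span (Or.inr ⟨θ, hθ, rfl⟩)), zero_div]

include htd htr in
theorem minorIdeal_isPrime (ht : 0 < t) : (CAlgX.minorIdeal (genMatrix K r d) t).IsPrime := by
  rw [← ker_genPoint K ht htd htr]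
  exact RingHom.ker_isPrime _

variable [Infinite K]

include hd htd htr in
theorem determinantal_main (ht : 0 < t) :
    IsIntegrallyClosed (CellRing K d r ⧸ CAlgX.minorIdeal (genMatrix K r d) t) ∧
      LocCoh.IsCohenMacaulayRing (CellRing K d r ⧸ CAlgX.minorIdeal (genMatrix K r d) t) ∧
      ringKrullDim (CellRing K d r ⧸ CAlgX.minorIdeal (genMatrix K r d) t) =
        (((t - 1) * (d + r - t + 1) : ℕ) : WithBot ℕ∞) := by
  classical
  have hdn := Nat.le_add_right d r
  set ι := botIdx hdn
  set w := detIdx ht htd htr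
  set J := schubertVanishing K d (d + r) w with hJ
  set It := CAlgX.minorIdeal (genMatrix K r d) t
  haveI := schubertVanishing_isPrime K hd hdn w
  haveI : It.IsPrime := minorIdeal_isPrime K htd htr ht
  haveI := isIntegrallyClosed_schubert K hd hdn w
  have hker : ∀ P, bandEval K ht htd htr P = 0 ↔ P ∈ J := fun P => by
    rw [bandEval_eq_zero_iff, hJ, schubertVanishing_eq_plIdeal K hd hdn]
  let x : PlRing K d (d + r) ⧸ J := Ideal.Quotient.mk J (X ι)
  have hx0 : x ≠ 0 := mk_X_ne_zero K hd hdn (bot_le hdn w)
  have hpow := powers_le_nonZeroDivisors_of_noZeroDivisors hx0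
  let L := Localization.Away x
  haveI : IsDomain L := IsLocalization.isDomain_localization hpow
  haveI : IsIntegrallyClosed L := isIntegrallyClosed_of_isLocalization L (Submonoid.powers x) hpow
  let bar : PlRing K d (d + r) ⧸ J →+* BandField K d r :=
    Ideal.Quotient.lift J (bandEval K ht htd htr).toRingHom (fun P hP => (hker P).2 hP)
  let j : L →+* BandField K d r := IsLocalization.Away.lift x (g := bar)
    (isUnit_iff_ne_zero.2 (bandEval_bot_ne_zero K ht htd htr))
  have hj : ∀ a, j (algebraMap _ L a) = bar a := fun a => IsLocalization.Away.lift_eq _ _ a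
  have hjinj : Function.Injective j := by
    rw [injective_iff_map_eq_zero]
    intro z hz
    obtain ⟨⟨a, s⟩, hs⟩ := IsLocalization.surj (Submonoid.powers x) z
    have h1 := congrArg j hs
    rw [map_mul, hz, zero_mul, hj] at h1
    obtain ⟨P, rfl⟩ := Ideal.Quotient.mk_surjective a
    rw [Ideal.Quotient.eq_zero_iff_mem.2 ((hker P).1 h1.symm), map_zero] at hs
    exact (mul_eq_zero.1 hs).resolve_right (fun he => nonZeroDivisors.ne_zero (hpow s.2)
      ((injective_iff_map_eq_zero (algebraMap _ L)).1 (IsLocalization.injective L hpow) _ he))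
  let xinv : L := IsLocalization.Away.invSelf x
  have hxinv : algebraMap _ L x * xinv = 1 := IsLocalization.Away.mul_invSelf x
  let pt : Idx d (d + r) → L := fun θ => algebraMap _ L (Ideal.Quotient.mk J (X θ))
  let cst : K →+* L := (algebraMap _ L).comp ((Ideal.Quotient.mk J).comp MvPolynomial.C)
  let τ : CellRing K d r →+* L := eval₂Hom cst fun p =>
    algebraMap _ L (Ideal.Quotient.mk J (coord K d (d + r)
      (Function.update ι.1 p.2 (Fin.natAdd d p.1)))) * xinv
  have hjxinv : j xinv = (bandEval K ht htd htr (X ι))⁻¹ := by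
    refine eq_inv_of_mul_eq_one_left ?_
    have := congrArg j hxinv
    rw [map_mul, hj, map_one, mul_comm] at this
    exact this
  have hjτ : ∀ h, j (τ h) = genPoint K ht htd htr h := by
    intro h
    have e : j.comp τ = (genPoint K ht htd htr).toRingHom := by
      refine MvPolynomial.ringHom_ext (fun c => ?_) fun p => ?_
      · show j (τ (C c)) = genPoint K ht htd htr (C c)
        rw [show τ (C c) = algebraMap _ L (Ideal.Quotient.mk J (C c)) from eval₂Hom_C _ _ c, hj,
          show genPoint K ht htd htr (C c) = algebraMap K (BandField K d r) c from aeval_C _ c]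
        show bandEval K ht htd htr (C c) = _
        rw [← MvPolynomial.algebraMap_eq]
        exact (bandEval K ht htd htr).commutes c
      · show j (τ (X p)) = genPoint K ht htd htr (X p)
        rw [show τ (X p) = algebraMap _ L (Ideal.Quotient.mk J (coord K d (d + r)
          (Function.update ι.1 p.2 (Fin.natAdd d p.1)))) * xinv from eval₂Hom_X' _ _ p,
          map_mul, hj, hjxinv, show genPoint K ht htd htr (X p) = _ from aeval_X _ _, div_eq_mul_inv]
        rfl
    exact DFunLike.congr_fun e h
  have hτker : ∀ h ∈ It, τ h = 0 := by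
    intro h hh
    refine hjinj ?_
    rw [hjτ, map_zero]
    exact (le_of_eq (ker_genPoint K ht htd htr).symm) hh
  let i : CellRing K d r ⧸ It →+* L := Ideal.Quotient.lift It τ hτker
  let φ₀ : PlRing K d (d + r) ⧸ J →+* CellRing K d r ⧸ It :=
    Ideal.Quotient.lift J ((Ideal.Quotient.mk It).comp (toCell K d r).toRingHom) (fun P hP => by
      refine Ideal.Quotient.eq_zero_iff_mem.2 (toCell_mem_of_mem_plIdeal K ht htd htr ?_)
      rwa [← bandEval_eq_zero_iff, hker])
  have hφx : φ₀ x = 1 := by
    show Ideal.Quotient.mk It (toCell K d r (X ι)) = 1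
    rw [toCell_X_bot, map_one]
  let ret : L →+* CellRing K d r ⧸ It := IsLocalization.Away.lift x (g := φ₀) (by rw [hφx]; exact isUnit_one)
  have hret : ∀ a, ret (algebraMap _ L a) = φ₀ a := fun a => IsLocalization.Away.lift_eq _ _ a
  have hretx : ret xinv = 1 := by
    have := congrArg ret hxinv
    rwa [map_mul, hret, hφx, one_mul, map_one] at this
  have hri : ∀ a, ret (i a) = a := by
    intro a
    obtain ⟨h, rfl⟩ := Ideal.Quotient.mk_surjective a
    have e : ret.comp τ = Ideal.Quotient.mk It := by
      refine MvPolynomial.ringHom_ext (fun c => ?_) fun p => ?_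
      · show ret (τ (C c)) = _
        rw [show τ (C c) = algebraMap _ L (Ideal.Quotient.mk J (C c)) from eval₂Hom_C _ _ c, hret]
        show Ideal.Quotient.mk It (toCell K d r (C c)) = _
        rw [← MvPolynomial.algebraMap_eq, (toCell K d r).commutes]
        rfl
      · show ret (τ (X p)) = _
        rw [show τ (X p) = algebraMap _ L (Ideal.Quotient.mk J (coord K d (d + r)
          (Function.update ι.1 p.2 (Fin.natAdd d p.1)))) * xinv from eval₂Hom_X' _ _ p,
          map_mul, hret, hretx, mul_one]
        show Ideal.Quotient.mk It (toCell K d r _) = _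
        rw [toCell_coord_update]
    exact DFunLike.congr_fun e h
  refine ⟨isIntegrallyClosed_of_retraction i ret hri, ?_⟩
  set Q := J ⊔ Ideal.span {rankSum K d (d + r) 0 - 1} with hQ
  have hQx : Ideal.Quotient.mk Q (X ι) = 1 := by
    rw [← map_one (Ideal.Quotient.mk Q), Ideal.Quotient.eq, ← rankSum_zero K hdn]
    exact Submodule.mem_sup_right (Ideal.mem_span_singleton_self _)
  let qJ : PlRing K d (d + r) ⧸ J →+* PlRing K d (d + r) ⧸ Q :=
    Ideal.Quotient.factor (le_sup_left : J ≤ Q)
  let qL : L →+* PlRing K d (d + r) ⧸ Q := IsLocalization.Away.lift x (g := qJ) (by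
    show IsUnit (Ideal.Quotient.mk Q (X ι))
    rw [hQx]; exact isUnit_one)
  have hqL : ∀ a, qL (algebraMap _ L a) = qJ a := fun a => IsLocalization.Away.lift_eq _ _ a
  have hqx : qL xinv = 1 := by
    have := congrArg qL hxinv
    rw [map_mul, hqL, map_one] at this
    rwa [show qJ x = 1 from hQx, one_mul] at this
  have hQle : Q ≤ RingHom.ker ((Ideal.Quotient.mk It).comp (toCell K d r).toRingHom) := by
    refine sup_le (fun P hP => ?_) (Ideal.span_le.2 ?_)
    · exact Ideal.Quotient.eq_zero_iff_mem.2 (toCell_mem_of_mem_plIdeal K ht htd htr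
        (by rwa [← bandEval_eq_zero_iff, hker]))
    · rintro _ rfl
      show Ideal.Quotient.mk It (toCell K d r (rankSum K d (d + r) 0 - 1)) = 0
      rw [rankSum_zero K hdn, map_sub, map_one, toCell_X_bot, sub_self, map_zero]
  let fQ : PlRing K d (d + r) ⧸ Q →+* CellRing K d r ⧸ It := Ideal.Quotient.lift Q _ hQle
  let gQ : CellRing K d r ⧸ It →+* PlRing K d (d + r) ⧸ Q := qL.comp i
  have hfg : ∀ a, fQ (gQ a) = a := by
    intro a
    have e : fQ.comp qL = ret := by
      refine IsLocalization.ringHom_ext (Submonoid.powers x) (RingHom.ext fun b => ?_)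
      obtain ⟨P, rfl⟩ := Ideal.Quotient.mk_surjective b
      show fQ (qL (algebraMap _ L (Ideal.Quotient.mk J P))) = ret (algebraMap _ L _)
      rw [hqL, hret]
      rfl
    exact (DFunLike.congr_fun e (i a)).trans (hri a)
  have hgf : ∀ a, gQ (fQ a) = a := by
    intro a
    obtain ⟨P, rfl⟩ := Ideal.Quotient.mk_surjective a
    have e : (qL.comp τ).comp (toCell K d r).toRingHom = Ideal.Quotient.mk Q := by
      refine MvPolynomial.ringHom_ext (fun c => ?_) fun θ => ?_
      · show qL (τ (toCell K d r (C c))) = _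
        rw [show toCell K d r (C c) = C c from aeval_C _ c,
          show τ (C c) = algebraMap _ L (Ideal.Quotient.mk J (C c)) from eval₂Hom_C _ _ c, hqL]
        rfl
      · show qL (τ (toCell K d r (X θ))) = _
        have : τ (toCell K d r (X θ)) = pt θ * xinv := by
          refine hjinj ?_
          rw [hjτ, toCell, aeval_X, genPoint_minor, map_mul, hj, hjxinv, div_eq_mul_inv]
          rfl
        rw [this, map_mul, hqL, hqx, mul_one]
        rfl
    exact DFunLike.congr_fun e P
  let eq : CellRing K d r ⧸ It ≃+* PlRing K d (d + r) ⧸ Q :=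
    RingEquiv.ofRingHom gQ fQ (RingHom.ext hgf) (RingHom.ext hfg)
  obtain ⟨N, hN⟩ := exists_pow_le K w
  obtain ⟨hcm, hdim⟩ := cm_and_dim_dehom (fun k => rankSum_isHomogeneous K k)
    (hstable_schubertVanishing K hd hdn w) (regUpTo_schubert K hd hdn _ w rfl).1 hN _ eq.symm
  exact ⟨hcm, by rw [hdim inferInstance, codeg_detIdx]⟩

end Groth.Smt
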