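import Groth.Agent.Smt.Interval
import Mathlib.Algebra.MvPolynomial.Funext

/-! Schubert varieties: the homogeneous ideal equals the ideal of shuffle relations. -/

set_option autoImplicit false

universe u

open Finset MvPolynomial W4bk4grassmannian

namespace Groth.Smt

variable {d n : ℕ} (K : Type u) [CommRing K]

theorem inIval_bot_iff (hdn : d ≤ n) {τ θ : Idx d n} : InIval (botIdx hdn) τ θ ↔ θ ≤ τ :=
  ⟨fun h => h.2, fun h => ⟨bot_le hdn θ, h⟩⟩

theorem chainIn_bot_iff (hdn : d ≤ n) {τ : Idx d n} {C : Chain d n} :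
    ChainIn (botIdx hdn) τ C ↔ ∀ l, C.2.1 l ≤ τ :=
  forall_congr' fun _ => inIval_bot_iff hdn

theorem plIdeal_eq_ivalIdeal (hdn : d ≤ n) (τ : Idx d n) :
    plIdeal K τ = ivalIdeal K (botIdx hdn) τ := by
  rw [plIdeal, ivalIdeal, plIdealTop, Ideal.span_union]
  simp only [inIval_bot_iff]

theorem evalMinors_eq_aeval (A : Matrix (Fin n) (Fin d) K) :
    evalMinors K d n A = aeval fun θ : Idx d n => det' A θ.1 := rfl

theorem eval_piv (v w : Idx d n) (z : Fin n × Fin d → K) (f : PlRing K d n) :
    eval z (piv K v w f) = aeval (fun θ : Idx d n => det' ((gen K v w).map (eval z)) θ.1) f := by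
  have h : ((aeval z).comp (piv K v w)) =
      aeval (fun θ : Idx d n => det' ((gen K v w).map (eval z)) θ.1) := by
    refine algHom_ext fun θ => ?_
    rw [AlgHom.comp_apply, piv_X, aeval_X, det', det', aeval_eq_eval, RingHom.map_det]
    rfl
  rw [← h, AlgHom.comp_apply, aeval_eq_eval]

theorem plIdeal_le_schubertVanishing (τ : Idx d n) :
    plIdeal K τ ≤ schubertVanishing K d n τ := by
  refine le_iInf fun A => le_iInf fun hA => Ideal.span_le.2 ?_
  rintro f (⟨i, j, r, -, rfl⟩ | ⟨φ, hφ, rfl⟩)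
  · exact aeval_shuffleRel A i j r
  · show evalMinors K d n A (X φ) = 0
    rw [evalMinors, aeval_X]
    exact hA φ hφ

theorem schubertVanishing_eq_ker [IsDomain K] [Infinite K] (hd : 0 < d) (hdn : d ≤ n) (τ : Idx d n) :
    schubertVanishing K d n τ = RingHom.ker (piv K (botIdx hdn) τ).toRingHom := by
  refine le_antisymm (fun f hf => ?_) ?_
  · refine MvPolynomial.funext fun z => ?_
    show eval z (piv K (botIdx hdn) τ f) = eval z 0
    rw [map_zero, eval_piv]
    simp only [schubertVanishing, Ideal.mem_iInf] at hf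
    refine hf ((gen K (botIdx hdn) τ).map (eval z)) fun φ hφ => ?_
    refine det'_eq_zero_of_not (v := botIdx hdn) (w := τ) (fun h => hφ h.2) _ fun a t hat => ?_
    simp only [Matrix.map_apply, gen, Matrix.of_apply]
    rw [if_neg hat, map_zero]
  · rw [ker_piv K hd, ← plIdeal_eq_ivalIdeal K hdn]
    exact plIdeal_le_schubertVanishing K τ

theorem schubertVanishing_eq_plIdeal [IsDomain K] [Infinite K] (hd : 0 < d) (hdn : d ≤ n)
    (τ : Idx d n) : schubertVanishing K d n τ = plIdeal K τ := by
  rw [schubertVanishing_eq_ker K hd hdn, ker_piv K hd, plIdeal_eq_ivalIdeal K hdn]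

theorem schubertVanishing_isPrime [IsDomain K] [Infinite K] (hd : 0 < d) (hdn : d ≤ n) (τ : Idx d n) :
    (schubertVanishing K d n τ).IsPrime := by
  rw [schubertVanishing_eq_ker K hd hdn]
  exact RingHom.ker_isPrime _

theorem plIdealTop_le_schubertVanishing (τ : Idx d n) :
    plIdealTop (d := d) (n := n) K ≤ schubertVanishing K d n τ := by
  refine le_trans (Ideal.span_mono fun f hf => Or.inl hf) (plIdeal_le_schubertVanishing K τ)

theorem sm_mem_schubertVanishing {τ : Idx d n} {C : Chain d n} (h : ¬ ∀ l, C.2.1 l ≤ τ) :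
    sm K C ∈ schubertVanishing K d n τ := by
  refine plIdeal_le_schubertVanishing K τ ?_
  rw [plIdeal, Ideal.span_union]
  exact Submodule.mem_sup_right (sm_mem_span_of_not K (P := fun φ => ¬ φ ≤ τ) (not_forall.1 h))

theorem sum_mem_schubertVanishing {τ : Idx d n} (l : Chain d n →₀ K)
    (h : ∀ C, (∀ k, C.2.1 k ≤ τ) → l C = 0) :
    (l.sum fun C c => c • sm K C) ∈ schubertVanishing K d n τ :=
  Submodule.sum_mem _ fun C hC => Submodule.smul_of_tower_mem _ _
    (sm_mem_schubertVanishing K fun hin => Finsupp.mem_support_iff.1 hC (h C hin))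

/-- Membership in `J(τ)` is read off from a standard expansion. -/
theorem coeff_eq_zero_of_mem [IsDomain K] [Infinite K] (hd : 0 < d) (hdn : d ≤ n) {τ : Idx d n}
    (l : Chain d n →₀ K) (h : (l.sum fun C c => c • sm K C) ∈ schubertVanishing K d n τ)
    {C : Chain d n} (hC : ∀ k, C.2.1 k ≤ τ) : l C = 0 := by
  rw [schubertVanishing_eq_ker K hd hdn] at h
  exact coeff_eq_zero_of_piv_eq_zero K hd l h ((chainIn_bot_iff hdn).2 hC)

/-- `f` lies in `J(τ)` iff the standard expansion of `f` has no chain below `τ`. -/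
theorem mem_schubertVanishing_iff [IsDomain K] [Infinite K] (hd : 0 < d) (hdn : d ≤ n) {τ : Idx d n}
    {f : PlRing K d n} {l : Chain d n →₀ K}
    (hl : f - (l.sum fun C c => c • sm K C) ∈ plIdealTop (d := d) (n := n) K) :
    f ∈ schubertVanishing K d n τ ↔ ∀ C : Chain d n, (∀ k, C.2.1 k ≤ τ) → l C = 0 := by
  have hl' := plIdealTop_le_schubertVanishing K τ hl
  constructor
  · intro hf C hC
    refine coeff_eq_zero_of_mem K hd hdn l ?_ hC
    simpa using Ideal.sub_mem _ hf hl'
  · intro h
    simpa using Ideal.add_mem _ hl' (sum_mem_schubertVanishing K l h)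

end Groth.Smt

namespace Groth.Smt

variable {d n : ℕ}

theorem sm_pairChain_single {K : Type u} [CommRing K] {ι : Idx d n} :
    sm K (⟨1, fun _ => ι, fun _ _ _ => le_rfl⟩ : Chain d n) = X ι := by
  simp [sm, chainMon]

end Groth.Smt
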