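import Groth.Agent.Smt.Straighten
import Mathlib.Algebra.Order.Rearrangement
import Mathlib.RingTheory.MvPolynomial.WeightedHomogeneous

/-! Standard monomials on an interval `[v, w]` of `I(d,n)`: the generic banded matrix, leading terms,
linear independence, and the kernel of the evaluation at its minors. -/

set_option autoImplicit false

universe u

open Finset MvPolynomial W4bk4grassmannian

namespace Groth.Smt

variable {d n : ℕ}

/-- Membership in the interval `[v, w]`. -/
def InIval (v w θ : Idx d n) : Prop := v ≤ θ ∧ θ ≤ w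

/-- A chain, indexing a standard monomial. -/
abbrev Chain (d n : ℕ) : Type := Σ m : ℕ, {c : Fin m → Idx d n // Antitone c}

/-- All members of the chain are in the interval. -/
def ChainIn (v w : Idx d n) (C : Chain d n) : Prop := ∀ l, InIval v w (C.2.1 l)

variable (K : Type u) [CommRing K]

/-- The standard monomial of a chain. -/
noncomputable def sm (C : Chain d n) : PlRing K d n := chainMon K C.2.1

/-- The generic matrix supported on the band of the interval. -/
noncomputable def gen (v w : Idx d n) : Matrix (Fin n) (Fin d) (MatRing K d n) :=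
  Matrix.of fun a t => if v.1 t ≤ a ∧ a ≤ w.1 t then X (a, t) else 0

/-- Evaluation of Plücker polynomials at the minors of the banded generic matrix. -/
noncomputable def piv (v w : Idx d n) : PlRing K d n →ₐ[K] MatRing K d n :=
  aeval fun θ : Idx d n => det' (gen K v w) θ.1

theorem piv_X (v w θ : Idx d n) : piv K v w (X θ) = det' (gen K v w) θ.1 := aeval_X _ _

theorem piv_shuffleRel (v w i j : Idx d n) (r : Fin d) : piv K v w (shuffleRel K i j r) = 0 :=
  aeval_shuffleRel _ i j r

theorem det'_eq_zero_of_not {R : Type u} [CommRing R] {v w φ : Idx d n} (h : ¬ InIval v w φ)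
    (M : Matrix (Fin n) (Fin d) R) (hM : ∀ a t, ¬ (v.1 t ≤ a ∧ a ≤ w.1 t) → M a t = 0) :
    det' M φ.1 = 0 := by
  rw [det', Matrix.det_apply]
  refine Finset.sum_eq_zero fun σ _ => ?_
  suffices ∃ t, ¬ (v.1 t ≤ φ.1 (σ t) ∧ φ.1 (σ t) ≤ w.1 t) by
    obtain ⟨t, ht⟩ := this
    rw [Finset.prod_eq_zero (mem_univ t), smul_zero]
    exact hM _ _ ht
  rcases not_and_or.1 h with h | h
  · simp only [idx_le_iff, not_forall, not_le] at h
    obtain ⟨s, hs⟩ := h
    by_contra hc
    push Not at hc
    have hsub : (Finset.Ici s).image σ ⊆ Finset.Ioi s := by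
      intro y hy
      obtain ⟨t, ht, rfl⟩ := mem_image.1 hy
      rw [mem_Ioi]
      by_contra hle
      have h1 : φ.1 (σ t) ≤ φ.1 s := φ.2.monotone (not_lt.1 hle)
      have h2 : v.1 s ≤ v.1 t := v.2.monotone (mem_Ici.1 ht)
      exact absurd ((hc t).1) (not_le.2 (lt_of_le_of_lt h1 (lt_of_lt_of_le hs h2)))
    have := card_le_card hsub
    rw [card_image_of_injective _ σ.injective, Fin.card_Ici, Fin.card_Ioi] at this
    omega
  · simp only [idx_le_iff, not_forall, not_le] at h
    obtain ⟨s, hs⟩ := h
    by_contra hc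
    push Not at hc
    have hsub : (Finset.Iic s).image σ ⊆ Finset.Iio s := by
      intro y hy
      obtain ⟨t, ht, rfl⟩ := mem_image.1 hy
      rw [mem_Iio]
      by_contra hle
      have h1 : φ.1 s ≤ φ.1 (σ t) := φ.2.monotone (not_lt.1 hle)
      have h2 : w.1 t ≤ w.1 s := w.2.monotone (mem_Iic.1 ht)
      exact absurd ((hc t).2) (not_le.2 (lt_of_le_of_lt h2 (lt_of_lt_of_le hs h1)))
    have := card_le_card hsub
    rw [card_image_of_injective _ σ.injective, Fin.card_Iic, Fin.card_Iio] at this
    omega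

theorem piv_X_eq_zero {v w φ : Idx d n} (h : ¬ InIval v w φ) : piv K v w (X φ) = 0 := by
  rw [piv_X]
  exact det'_eq_zero_of_not h _ fun a t hat => if_neg hat

theorem piv_sm_eq_zero {v w : Idx d n} {C : Chain d n} (h : ¬ ChainIn v w C) :
    piv K v w (sm K C) = 0 := by
  obtain ⟨l, hl⟩ := not_forall.1 h
  rw [sm, chainMon, map_prod]
  exact Finset.prod_eq_zero (mem_univ l) (piv_X_eq_zero K hl)

/-! ### Leading terms -/

/-- Weight of an exponent. -/
@[irreducible] noncomputable def wt : ((Fin n × Fin d) →₀ ℕ) →+ ℕ :=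
  Finsupp.weight fun p => p.1.val * p.2.val

/-- `e` is the unique monomial of top weight of `f`, with coefficient one. -/
def HasLead (f : MatRing K d n) (e : (Fin n × Fin d) →₀ ℕ) : Prop :=
  coeff e f = 1 ∧ ∀ e' ∈ f.support, e' ≠ e → wt e' < wt e

variable {K}

theorem HasLead.wt_le {f : MatRing K d n} {e e' : (Fin n × Fin d) →₀ ℕ} (h : HasLead K f e)
    (he : coeff e' f ≠ 0) : wt e' ≤ wt e := by
  rcases eq_or_ne e' e with rfl | hne
  · exact le_rfl
  · exact (h.2 e' (mem_support_iff.2 he) hne).le

theorem HasLead.eq_of_wt {f : MatRing K d n} {e e' : (Fin n × Fin d) →₀ ℕ} (h : HasLead K f e)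
    (he : coeff e' f ≠ 0) (hw : wt e ≤ wt e') : e' = e := by
  by_contra hne
  exact absurd (h.2 e' (mem_support_iff.2 he) hne) (not_lt.2 hw)

theorem hasLead_one : HasLead K (1 : MatRing K d n) 0 := by
  refine ⟨by simp, fun e' he' hne => ?_⟩
  rw [mem_support_iff, coeff_one, if_neg hne.symm] at he'
  exact absurd rfl he'

theorem HasLead.mul {f g : MatRing K d n} {e₁ e₂ : (Fin n × Fin d) →₀ ℕ} (hf : HasLead K f e₁)
    (hg : HasLead K g e₂) : HasLead K (f * g) (e₁ + e₂) := by
  classical
  refine ⟨?_, fun e' he' hne => ?_⟩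
  · rw [coeff_mul, Finset.sum_eq_single (e₁, e₂)]
    · rw [hf.1, hg.1, one_mul]
    · rintro ⟨a, b⟩ hab hne
      rw [Finset.mem_antidiagonal] at hab
      by_contra h0
      have ha := left_ne_zero_of_mul h0
      have hb := right_ne_zero_of_mul h0
      have h1 := hf.wt_le ha
      have h2 := hg.wt_le hb
      have hw := congrArg (wt : ((Fin n × Fin d) →₀ ℕ) →+ ℕ) hab
      rw [map_add, map_add] at hw
      have hA' : wt e₁ ≤ wt a :=
        Nat.le_of_add_le_add_right (b := wt e₂) (hw ▸ Nat.add_le_add_left h2 (wt a))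
      have hB' : wt e₂ ≤ wt b :=
        Nat.le_of_add_le_add_left (a := wt e₁) (hw ▸ Nat.add_le_add_right h1 (wt b))
      have hA : a = e₁ := hf.eq_of_wt ha hA'
      have hB : b = e₂ := hg.eq_of_wt hb hB'
      exact hne (by rw [hA, hB])
    · intro h
      exfalso
      apply h
      rw [Finset.mem_antidiagonal]
  · have := support_mul f g he'
    rw [Finset.mem_add] at this
    obtain ⟨a, ha, b, hb, rfl⟩ := this
    rw [mem_support_iff] at ha hb
    rcases eq_or_ne a e₁ with rfl | hae
    · rcases eq_or_ne b e₂ with rfl | hbe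
      · exact absurd rfl hne
      · rw [map_add, map_add]
        exact Nat.add_lt_add_left (hg.2 b (mem_support_iff.2 hb) hbe) _
    · rw [map_add, map_add]
      exact Nat.add_lt_add_of_lt_of_le (hf.2 a (mem_support_iff.2 ha) hae) (hg.wt_le hb)

theorem HasLead.prod {ι : Type*} (s : Finset ι) (f : ι → MatRing K d n)
    (e : ι → (Fin n × Fin d) →₀ ℕ) (h : ∀ i ∈ s, HasLead K (f i) (e i)) :
    HasLead K (∏ i ∈ s, f i) (∑ i ∈ s, e i) := by
  classical
  induction s using Finset.induction_on with
  | empty => simpa using hasLead_one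
  | insert a s ha ih =>
    rw [prod_insert ha, sum_insert ha]
    exact (h a (mem_insert_self _ _)).mul (ih fun i hi => h i (mem_insert_of_mem hi))

/-- The exponent of the diagonal monomial. -/
noncomputable def expOf (a : Fin d → Fin n) : (Fin n × Fin d) →₀ ℕ :=
  ∑ t, Finsupp.single (a t, t) 1

theorem wt_expOf (a : Fin d → Fin n) : wt (expOf a) = ∑ t, (a t).val * t.val := by
  rw [expOf, map_sum]
  exact Finset.sum_congr rfl fun t _ => by simp [wt, Finsupp.weight, Finsupp.linearCombination_single]

theorem wt_expOf_lt (θ : Idx d n) {σ : Equiv.Perm (Fin d)} (hσ : σ ≠ 1) :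
    wt (expOf (θ.1 ∘ σ)) < wt (expOf θ.1) := by
  rw [wt_expOf, wt_expOf]
  have hmv : Monovary (fun t => (θ.1 t).val) (fun t : Fin d => t.val) :=
    fun a b hab => θ.2.monotone (le_of_lt (Fin.lt_def.2 hab))
  refine (hmv.sum_comp_perm_mul_lt_sum_mul_iff (σ := σ)).2 fun hm => hσ ?_
  have hmono : StrictMono σ := by
    intro a b hab
    have h1 : (θ.1 (σ a)).val ≤ (θ.1 (σ b)).val := hm (Fin.lt_def.1 hab)
    rcases lt_trichotomy (σ a) (σ b) with h | h | h
    · exact h
    · exact absurd (σ.injective h) hab.ne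
    · exact absurd (θ.2 h) (not_lt.2 (Fin.le_def.2 h1))
  ext t
  have h := congrArg Fin.val (congrFun (Finset.orderEmbOfFin_unique
    (s := (univ : Finset (Fin d))) (card_fin d) (f := σ) (fun _ => mem_univ _) hmono) t)
  have h' := congrArg Fin.val (congrFun (Finset.orderEmbOfFin_unique
    (s := (univ : Finset (Fin d))) (card_fin d) (f := id) (fun _ => mem_univ _) strictMono_id) t)
  simp only [id] at h'
  show (σ t).val = t.val
  omega

theorem prod_gen_apply (v w : Idx d n) (a : Fin d → Fin n) :
    ∏ t, gen K v w (a t) t =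
      if ∀ t, v.1 t ≤ a t ∧ a t ≤ w.1 t then monomial (expOf a) 1 else 0 := by
  split_ifs with h
  · rw [expOf, monomial_sum_one]
    exact Finset.prod_congr rfl fun t _ => by
      simp [gen, h t, X]
  · obtain ⟨t, ht⟩ := not_forall.1 h
    exact Finset.prod_eq_zero (mem_univ t) (by simp only [gen, Matrix.of_apply]; rw [if_neg ht])

theorem hasLead_minor {v w θ : Idx d n} (h : InIval v w θ) :
    HasLead K (det' (gen K v w) θ.1) (expOf θ.1) := by
  classical
  have hdet : det' (gen K v w) θ.1 = ∑ σ : Equiv.Perm (Fin d),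
      Equiv.Perm.sign σ • (if ∀ t, v.1 t ≤ (θ.1 ∘ σ) t ∧ (θ.1 ∘ σ) t ≤ w.1 t
        then monomial (expOf (θ.1 ∘ σ)) (1 : K) else 0) := by
    rw [det', Matrix.det_apply]
    exact Finset.sum_congr rfl fun σ _ => by rw [← prod_gen_apply]; rfl
  refine ⟨?_, fun e' he' hne => ?_⟩
  · rw [hdet, coeff_sum, Finset.sum_eq_single 1]
    · rw [map_one, one_smul, if_pos]
      · rw [Equiv.Perm.coe_one, Function.comp_id, coeff_monomial, if_pos rfl]
      · intro t; exact ⟨h.1 t, h.2 t⟩
    · intro σ _ hσ
      have hne : expOf (θ.1 ∘ σ) ≠ expOf θ.1 := fun he => (wt_expOf_lt θ hσ).ne (congrArg wt he)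
      rw [Units.smul_def, coeff_smul]
      split_ifs
      · rw [coeff_monomial, if_neg hne, smul_zero]
      · simp
    · simp
  · by_contra hlt
    rw [mem_support_iff] at he'
    apply he'
    rw [hdet, coeff_sum]
    refine Finset.sum_eq_zero fun σ _ => ?_
    have hne' : expOf (θ.1 ∘ σ) ≠ e' := by
      intro he
      rcases eq_or_ne σ 1 with rfl | hσ
      · exact hne (by rw [← he, Equiv.Perm.coe_one, Function.comp_id])
      · exact hlt (he ▸ wt_expOf_lt θ hσ)
    rw [Units.smul_def, coeff_smul]
    split_ifs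
    · rw [coeff_monomial, if_neg hne', smul_zero]
    · simp

/-- The exponent of the leading monomial of a standard monomial. -/
noncomputable def chainExp (C : Chain d n) : (Fin n × Fin d) →₀ ℕ :=
  ∑ l, expOf (C.2.1 l).1

theorem hasLead_sm {v w : Idx d n} {C : Chain d n} (h : ChainIn v w C) :
    HasLead K (piv K v w (sm K C)) (chainExp C) := by
  rw [sm, chainMon, map_prod]
  exact HasLead.prod _ _ _ fun l _ => by rw [piv_X]; exact hasLead_minor (h l)

theorem expOf_apply (a : Fin d → Fin n) (x : Fin n) (t : Fin d) :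
    expOf a (x, t) = if a t = x then 1 else 0 := by
  classical
  rw [expOf, Finsupp.finsetSum_apply, Finset.sum_eq_single t]
  · simp [Finsupp.single_apply]
  · intro s _ hs; simp [hs]
  · simp

theorem chainExp_apply (C : Chain d n) (x : Fin n) (t : Fin d) :
    chainExp C (x, t) = (univ.filter fun l => (C.2.1 l).1 t = x).card := by
  rw [chainExp, Finsupp.finsetSum_apply, Finset.card_filter]
  exact Finset.sum_congr rfl fun l _ => expOf_apply _ _ _

theorem antitone_ext {m : ℕ} {f g : Fin m → Fin n} (hf : Antitone f) (hg : Antitone g)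
    (h : ∀ a, (univ.filter fun l => a ≤ f l).card = (univ.filter fun l => a ≤ g l).card) :
    f = g := by
  have key : ∀ (f g : Fin m → Fin n), Antitone f → Antitone g →
      (∀ a, (univ.filter fun l => a ≤ f l).card = (univ.filter fun l => a ≤ g l).card) →
      ∀ l, g l ≤ f l := by
    intro f g hf hg h l
    by_contra hlt
    rw [not_le] at hlt
    have h1 : (Finset.Iic l).card ≤ (univ.filter fun x => g l ≤ g x).card :=
      card_le_card fun x hx => by simp [hg (mem_Iic.1 hx)]
    have h2 : (univ.filter fun x => g l ≤ f x).card ≤ (Finset.Iio l).card :=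
      card_le_card fun x hx => by
        rw [mem_filter] at hx
        rw [mem_Iio]
        by_contra hge
        exact absurd hx.2 (not_le.2 (lt_of_le_of_lt (hf (not_lt.1 hge)) hlt))
    rw [Fin.card_Iic] at h1
    rw [Fin.card_Iio, h] at h2
    omega
  funext l
  exact le_antisymm (key g f hg hf (fun a => (h a).symm) l) (key f g hf hg h l)

theorem chainExp_injective (hd : 0 < d) : Function.Injective (chainExp : Chain d n → _) := by
  classical
  rintro ⟨m, c, hc⟩ ⟨m', c', hc'⟩ h
  have hcnt : ∀ (x : Fin n) (t : Fin d), (univ.filter fun l => (c l).1 t = x).card =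
      (univ.filter fun l => (c' l).1 t = x).card := fun x t => by
    have := DFunLike.congr_fun h (x, t)
    rwa [chainExp_apply, chainExp_apply] at this
  have hm : m = m' := by
    have h1 := card_eq_sum_card_fiberwise (s := (univ : Finset (Fin m))) (t := univ)
      (f := fun l => (c l).1 ⟨0, hd⟩) (fun _ _ => mem_univ _)
    have h2 := card_eq_sum_card_fiberwise (s := (univ : Finset (Fin m'))) (t := univ)
      (f := fun l => (c' l).1 ⟨0, hd⟩) (fun _ _ => mem_univ _)
    simp only [card_fin] at h1 h2
    rw [h1, h2]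
    exact Finset.sum_congr rfl fun x _ => hcnt x _
  subst hm
  have hcc : c = c' := by
    funext l
    refine Subtype.ext (funext fun t => ?_)
    refine congrFun (antitone_ext (f := fun l => (c l).1 t) (g := fun l => (c' l).1 t)
      (fun a b hab => hc hab t) (fun a b hab => hc' hab t) fun a => ?_) l
    rw [card_eq_sum_card_fiberwise (s := univ.filter fun l => a ≤ (c l).1 t) (t := Finset.Ici a)
        (f := fun l => (c l).1 t)
        (fun x hx => mem_Ici.2 (mem_filter.1 hx).2),
      card_eq_sum_card_fiberwise (s := univ.filter fun l => a ≤ (c' l).1 t) (t := Finset.Ici a)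
        (f := fun l => (c' l).1 t)
        (fun x hx => mem_Ici.2 (mem_filter.1 hx).2)]
    refine Finset.sum_congr rfl fun x hx => ?_
    rw [mem_Ici] at hx
    convert hcnt x t using 2
    · ext l; simp only [mem_filter, mem_univ, true_and]; exact ⟨fun h => h.2, fun h => ⟨h ▸ hx, h⟩⟩
    · ext l; simp only [mem_filter, mem_univ, true_and]; exact ⟨fun h => h.2, fun h => ⟨h ▸ hx, h⟩⟩
  subst hcc
  rfl

variable (K)

/-- A combination of standard monomials whose evaluation on the interval vanishes has no chain in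
the interval. -/
theorem coeff_eq_zero_of_piv_eq_zero (hd : 0 < d) {v w : Idx d n} (l : Chain d n →₀ K)
    (h : piv K v w (l.sum fun C c => c • sm K C) = 0) {C : Chain d n} (hC : ChainIn v w C) :
    l C = 0 := by
  classical
  by_contra hl
  obtain ⟨M, hM, hmax⟩ := Finset.exists_max_image (l.support.filter (ChainIn v w))
    (fun C => wt (chainExp C)) ⟨C, mem_filter.2 ⟨Finsupp.mem_support_iff.2 hl, hC⟩⟩
  rw [mem_filter, Finsupp.mem_support_iff] at hM
  have h0 := congrArg (coeff (chainExp M)) h
  rw [Finsupp.sum, map_sum, coeff_sum, coeff_zero, Finset.sum_eq_single M] at h0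
  · rw [map_smul, coeff_smul, (hasLead_sm hM.2).1, smul_eq_mul, mul_one] at h0
    exact hM.1 h0
  · intro D hD hne
    rw [map_smul, coeff_smul, smul_eq_mul]
    by_cases hin : ChainIn v w D
    · by_contra hc
      have hlead := hasLead_sm (K := K) hin
      have := hlead.eq_of_wt (right_ne_zero_of_mul hc) (hmax D (mem_filter.2 ⟨hD, hin⟩))
      exact hne (chainExp_injective hd this.symm)
    · rw [piv_sm_eq_zero K hin]; simp
  · intro hn
    exact absurd (Finsupp.mem_support_iff.2 hM.1) hn

/-- Every polynomial is a combination of standard monomials modulo the shuffle relations. -/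
theorem exists_expand (f : PlRing K d n) :
    ∃ l : Chain d n →₀ K, f - (l.sum fun C c => c • sm K C) ∈ plIdealTop (d := d) (n := n) K := by
  have h := aeval_mem_stdSpan K (Ideal.Quotient.mkₐ K (plIdealTop (d := d) (n := n) K))
    (fun i j r hp => Ideal.Quotient.eq_zero_iff_mem.2 (Ideal.subset_span ⟨i, j, r, hp, rfl⟩)) f
  obtain ⟨l, hl⟩ := Finsupp.mem_span_range_iff_exists_finsupp.1 h
  refine ⟨l, Ideal.Quotient.eq_zero_iff_mem.1 ?_⟩
  rw [map_sub, sub_eq_zero]
  have e : Ideal.Quotient.mk (plIdealTop (d := d) (n := n) K) f =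
      Ideal.Quotient.mkₐ K (plIdealTop (d := d) (n := n) K) f := rfl
  rw [e, ← hl, ← Ideal.Quotient.mkₐ_eq_mk (R₁ := K), map_finsuppSum]
  refine Finsupp.sum_congr fun C _ => ?_
  rw [map_smul, sm, chainMon, map_prod]

theorem plIdealTop_le_ker (v w : Idx d n) :
    plIdealTop (d := d) (n := n) K ≤ RingHom.ker (piv K v w).toRingHom := by
  refine Ideal.span_le.2 ?_
  rintro f ⟨i, j, r, -, rfl⟩
  exact piv_shuffleRel K v w i j r

/-- The relations defining the interval. -/
noncomputable def ivalIdeal (v w : Idx d n) : Ideal (PlRing K d n) :=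
  plIdealTop (d := d) (n := n) K ⊔ Ideal.span {f | ∃ φ : Idx d n, ¬ InIval v w φ ∧ f = X φ}

theorem ivalIdeal_le_ker (v w : Idx d n) : ivalIdeal K v w ≤ RingHom.ker (piv K v w).toRingHom := by
  refine sup_le (plIdealTop_le_ker K v w) (Ideal.span_le.2 ?_)
  rintro f ⟨φ, hφ, rfl⟩
  exact piv_X_eq_zero K hφ

theorem sm_mem_span_of_not {P : Idx d n → Prop} {C : Chain d n} (h : ∃ l, P (C.2.1 l)) :
    sm K C ∈ Ideal.span {f | ∃ φ : Idx d n, P φ ∧ f = X φ} := by
  obtain ⟨l, hl⟩ := h
  rw [sm, chainMon, ← mul_prod_erase _ _ (mem_univ l)]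
  exact Ideal.mul_mem_right _ _ (Ideal.subset_span ⟨_, hl, rfl⟩)

theorem sum_mem_ivalIdeal {v w : Idx d n} (l : Chain d n →₀ K)
    (h : ∀ C, ChainIn v w C → l C = 0) : (l.sum fun C c => c • sm K C) ∈ ivalIdeal K v w := by
  refine Submodule.sum_mem _ fun C hC => ?_
  refine Submodule.smul_of_tower_mem _ _ (le_sup_right (a := plIdealTop (d := d) (n := n) K) ?_)
  exact sm_mem_span_of_not K (not_forall.1 fun hin => Finsupp.mem_support_iff.1 hC (h C hin))

/-- The kernel of evaluation on the interval. -/
theorem ker_piv (hd : 0 < d) (v w : Idx d n) :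
    RingHom.ker (piv K v w).toRingHom = ivalIdeal K v w := by
  refine le_antisymm (fun f hf => ?_) (ivalIdeal_le_ker K v w)
  obtain ⟨l, hl⟩ := exists_expand K f
  have hsum : piv K v w (l.sum fun C c => c • sm K C) = 0 := by
    have h1 : piv K v w (f - l.sum fun C c => c • sm K C) = 0 := plIdealTop_le_ker K v w hl
    rw [map_sub, show piv K v w f = 0 from hf, zero_sub, neg_eq_zero] at h1
    exact h1
  have := Ideal.add_mem _ (le_sup_left (b := Ideal.span {f | ∃ φ : Idx d n, ¬ InIval v w φ ∧ f = X φ}) hl)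
    (sum_mem_ivalIdeal K l fun C hC => coeff_eq_zero_of_piv_eq_zero K hd l hsum hC)
  rwa [sub_add_cancel] at this

theorem ivalIdeal_isPrime [IsDomain K] (hd : 0 < d) (v w : Idx d n) : (ivalIdeal K v w).IsPrime := by
  rw [← ker_piv K hd v w]
  exact RingHom.ker_isPrime _

end Groth.Smt
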