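import Mathlib.RingTheory.UniqueFactorizationDomain.Kaplansky
import Mathlib.RingTheory.UniqueFactorizationDomain.Multiplicity
import Mathlib.RingTheory.UniqueFactorizationDomain.NormalizedFactors
import Mathlib.RingTheory.Noetherian.Basic
import Mathlib.Tactic

/-! Unique factorization descends to a subring agreeing away from a prime element (Nagata). -/

set_option autoImplicit false

universe u v

namespace Groth.Smt

variable {A : Type u} [CommRing A] [IsDomain A] [IsNoetherianRing A] {P : Type v} [CommRing P]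
  [IsDomain P] [UniqueFactorizationMonoid P]

theorem dvd_of_prime_dvd_pow_mul {x c : A} (hx : Prime x) (hc : ¬ x ∣ c) :
    ∀ (n : ℕ) (u : A), c ∣ x ^ n * u → c ∣ u := by
  intro n
  induction n with
  | zero => intro u h; simpa using h
  | succ n ih =>
    intro u h
    apply ih
    obtain ⟨g, hg⟩ := h
    have h1 : x ∣ c * g := ⟨x ^ n * u, by rw [← hg]; ring⟩
    obtain ⟨g', rfl⟩ := (hx.dvd_or_dvd h1).resolve_left hc
    exact ⟨g', mul_left_cancel₀ hx.ne_zero (by linear_combination hg)⟩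

theorem ufd_of_agree_away (f : A →+* P) (hf : Function.Injective f) {x : A} (hx : Prime x)
    (h : ∀ p : P, ∃ k a, f x ^ k * p = f a) : UniqueFactorizationMonoid A := by
  refine UniqueFactorizationMonoid.iff_exists_prime_mem_of_isPrime.2 fun Q hQ hQp => ?_
  by_cases hxQ : x ∈ Q
  · exact ⟨x, hxQ, hx⟩
  obtain ⟨a, haQ, ha0⟩ := Submodule.exists_mem_ne_zero_of_ne_bot hQ
  have hfa : f a ≠ 0 := fun e => ha0 (hf (by rw [e, map_zero]))
  have hfxQ : ∀ (n : ℕ) (b : A), b * x ^ n ∈ Q → b ∈ Q := fun n b hb =>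
    (hQp.mem_or_mem hb).resolve_right fun hh => hxQ (hQp.mem_of_pow_mem n hh)
  -- a prime `q` of `P` which is, up to powers of `x`, in the extension of `Q`
  have key : ∀ z : P, z ≠ 0 → ∀ (k : ℕ) (b : A), b ∈ Q → f x ^ k * z = f b →
      ∃ (q : P) (k' : ℕ) (b' : A), Prime q ∧ b' ∈ Q ∧ f x ^ k' * q = f b' := by
    intro z
    induction z using UniqueFactorizationMonoid.induction_on_prime with
    | h₁ => intro h; exact absurd rfl h
    | h₂ u hu =>
      intro _ k b hbQ hb
      exfalso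
      obtain ⟨u', hu'⟩ := hu.exists_right_inv
      obtain ⟨j, e, he⟩ := h u'
      refine hxQ (hQp.mem_of_pow_mem (k + j) ?_)
      have : b * e = x ^ (k + j) := hf (by
        rw [map_mul, map_pow, ← hb, ← he, pow_add]
        linear_combination (f x ^ k * f x ^ j) * hu')
      rw [← this]
      exact Q.mul_mem_right _ hbQ
    | h₃ z p hz hp ih =>
      intro _ k b hbQ hb
      obtain ⟨i, c, hc⟩ := h p
      obtain ⟨j, e, he⟩ := h z
      have hce : c * e * x ^ k = b * x ^ (i + j) := hf (by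
        rw [map_mul, map_mul, map_mul, map_pow, map_pow, ← hb, ← hc, ← he, pow_add]
        ring)
      have : c ∈ Q ∨ e ∈ Q := hQp.mem_or_mem (hfxQ k _ (hce ▸ Q.mul_mem_right _ hbQ))
      rcases this with hcQ | heQ
      · exact ⟨p, i, c, hp, hcQ, hc⟩
      · exact ih hz j e heQ he
  obtain ⟨q, k, b, hq, hbQ, hb⟩ := key (f a) hfa 0 a haQ (by simp)
  have hb0 : b ≠ 0 := by
    rintro rfl
    rw [map_zero] at hb
    exact mul_ne_zero (pow_ne_zero _ fun e => hx.ne_zero (hf (by rw [e, map_zero]))) hq.ne_zero hb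
  obtain ⟨n, c, hc, rfl⟩ := WfDvdMonoid.max_power_factor' hb0 hx.not_isUnit
  have hcQ : c ∈ Q := (hQp.mem_or_mem hbQ).resolve_left fun hh => hxQ (hQp.mem_of_pow_mem n hh)
  rw [map_mul, map_pow] at hb
  have hqx : ¬ q ∣ f x := by
    rintro ⟨r, hr⟩
    obtain ⟨j, e, he⟩ := h r
    refine hxQ (hQp.mem_of_pow_mem (k + j + 1) ?_)
    have : c * (x ^ n * e) = x ^ (k + j + 1) := hf (by
      rw [map_mul, map_mul, map_pow, map_pow, ← he, pow_succ, pow_add]
      linear_combination (-(f x ^ j * r)) * hb - (f x ^ k * f x ^ j) * hr)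
    rw [← this]
    exact Q.mul_mem_right _ hcQ
  have hqc : q ∣ f c := by
    have h1 : q ∣ f x ^ n * f c := ⟨f x ^ k, by rw [← hb]; ring⟩
    exact (hq.dvd_or_dvd h1).resolve_left fun hh => hqx (hq.dvd_of_dvd_pow hh)
  have transfer : ∀ u : A, q ∣ f u → c ∣ u := by
    rintro u ⟨r, hr⟩
    obtain ⟨j, e, he⟩ := h r
    refine dvd_of_prime_dvd_pow_mul hx hc (k + j) u ⟨x ^ n * e, hf ?_⟩
    rw [map_mul, map_mul, map_mul, map_pow, map_pow, ← he, pow_add]
    linear_combination (f x ^ j * r) * hb + (f x ^ k * f x ^ j) * hr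
  refine ⟨c, hcQ, ?_, fun hu => hQp.ne_top (Q.eq_top_of_isUnit_mem hcQ hu), fun u v huv => ?_⟩
  · rintro rfl; exact hc (dvd_zero x)
  · exact ((hq.dvd_or_dvd (hqc.trans (map_mul f u v ▸ map_dvd f huv))).imp (transfer u) (transfer v))

end Groth.Smt
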