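import Groth.Agent.Smt.SchubertReg
import Groth.Agent.Smt.FreeCM
import Groth.Agent.Smt.UfdLemma
import Mathlib.RingTheory.RegularLocalRing.Polynomial
import Mathlib.RingTheory.KrullDimension.Polynomial
import Mathlib.RingTheory.Polynomial.UniqueFactorization
import Mathlib.Algebra.MvPolynomial.Nilpotent
import Mathlib.Algebra.MvPolynomial.Division

/-! Cohen–Macaulayness, dimension and factoriality of the cones over Schubert varieties. -/

set_option autoImplicit false

universe u

open Finset MvPolynomial W4bk4grassmannian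

namespace Groth.Smt

theorem cm_and_dim_quotient {K : Type u} [Field K] {σ : Type} [Finite σ]
    {θ : ℕ → MvPolynomial σ K} (hθ : ∀ k, (θ k).IsHomogeneous 1) {I : Ideal (MvPolynomial σ K)}
    (hI : HStable I) {m N : ℕ} (hreg : RegUpTo θ I m) (hN : idealOfVars σ K ^ N ≤ I ⊔ Th θ m) :
    LocCoh.IsCohenMacaulayRing (MvPolynomial σ K ⧸ I) ∧
      (I ≠ ⊤ → ringKrullDim (MvPolynomial σ K ⧸ I) = (m : WithBot ℕ∞)) := by
  classical
  obtain ⟨E, hspan, hind⟩ := exists_free_basis hθ hI hreg hN
  let ψ : MvPolynomial (Fin m) K →+* MvPolynomial σ K ⧸ I :=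
    (Ideal.Quotient.mk I).comp (thHom θ m).toRingHom
  letI : Algebra (MvPolynomial (Fin m) K) (MvPolynomial σ K ⧸ I) := ψ.toAlgebra
  let v : E → MvPolynomial σ K ⧸ I := fun e => Ideal.Quotient.mk I (monomial e.1 1)
  have hsum : ∀ p : E → MvPolynomial (Fin m) K,
      ∑ e, p e • v e = Ideal.Quotient.mk I (∑ e, thHom θ m (p e) * monomial e.1 1) := by
    intro p
    rw [map_sum]
    exact Finset.sum_congr rfl fun e _ => by rw [map_mul]; rfl
  have hli : LinearIndependent (MvPolynomial (Fin m) K) v := by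
    rw [Fintype.linearIndependent_iff]
    intro p hp e
    rw [hsum, Ideal.Quotient.eq_zero_iff_mem] at hp
    exact congrFun (hind p hp) e
  have hsp : ⊤ ≤ Submodule.span (MvPolynomial (Fin m) K) (Set.range v) := by
    intro x _
    obtain ⟨f, rfl⟩ := Ideal.Quotient.mk_surjective x
    obtain ⟨p, hp⟩ := hspan f
    rw [Ideal.Quotient.eq.2 hp, ← hsum]
    exact Submodule.sum_mem _ fun e _ => Submodule.smul_mem _ _ (Submodule.subset_span ⟨e, rfl⟩)
  let b := Module.Basis.mk hli hsp
  haveI : Module.Free (MvPolynomial (Fin m) K) (MvPolynomial σ K ⧸ I) := Module.Free.of_basis b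
  haveI : Module.Finite (MvPolynomial (Fin m) K) (MvPolynomial σ K ⧸ I) := Module.Finite.of_basis b
  haveI : IsRegularRing (MvPolynomial (Fin m) K) := MvPolynomial.isRegularRing_of_isRegularRing K
  refine ⟨isCohenMacaulayRing_of_free (MvPolynomial (Fin m) K) _, fun hne => ?_⟩
  haveI : Nontrivial (MvPolynomial σ K ⧸ I) := Ideal.Quotient.nontrivial_iff.2 hne
  rw [ringKrullDim_eq_of_free (MvPolynomial (Fin m) K),
    MvPolynomial.ringKrullDim_of_isNoetherianRing, ringKrullDim_eq_zero_of_field, zero_add, Nat.card_fin]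

variable {d n : ℕ} (K : Type u) [Field K] [Infinite K]

theorem schubert_cm_and_dim (hd : 0 < d) (hdn : d ≤ n) (τ : Idx d n) :
    LocCoh.IsCohenMacaulayRing (PlRing K d n ⧸ schubertVanishing K d n τ) ∧
      ringKrullDim (PlRing K d n ⧸ schubertVanishing K d n τ) = ((codeg τ + 1 : ℕ) : WithBot ℕ∞) := by
  obtain ⟨N, hN⟩ := exists_pow_le K τ
  obtain ⟨h1, h2⟩ := cm_and_dim_quotient (fun k => rankSum_isHomogeneous K k)
    (hstable_schubertVanishing K hd hdn τ) (regUpTo_schubert K hd hdn _ τ rfl).1 hN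
  exact ⟨h1, h2 (schubertVanishing_isPrime K hd hdn τ).ne_top⟩

theorem union_cm (hd : 0 < d) (hdn : d ≤ n) {τ : Idx d n} (Φ : Finset (Idx d n))
    (h : ∀ φ ∈ Φ, φ ∈ divisors τ) :
    LocCoh.IsCohenMacaulayRing (PlRing K d n ⧸ unionIdeal K Φ) := by
  rcases Φ.eq_empty_or_nonempty with rfl | hne
  · haveI : Subsingleton (PlRing K d n ⧸ unionIdeal K (∅ : Finset (Idx d n))) :=
      Ideal.Quotient.subsingleton_iff.2 (by simp [unionIdeal])
    haveI : IsNoetherianRing (PlRing K d n ⧸ unionIdeal K (∅ : Finset (Idx d n))) := inferInstance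
    refine { isCohenMacaulayLocalRing_localization := ?_ }
    intro p hp
    exact absurd (Subsingleton.elim p ⊤) hp.ne_top
  · obtain ⟨N, hN⟩ := exists_pow_le_union K hne h
    exact (cm_and_dim_quotient (fun k => rankSum_isHomogeneous K k) (hstable_unionIdeal K hd hdn Φ)
      ((regUpTo_schubert K hd hdn _ τ rfl).2 Φ hne h) hN).1

theorem irreducible_mk_X (hd : 0 < d) (hdn : d ≤ n) (τ : Idx d n) :
    Irreducible (Ideal.Quotient.mk (schubertVanishing K d n τ) (X τ)) := by
  haveI := schubertVanishing_isPrime K hd hdn τ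
  have hinj := cellEmb_injective (K := K) hd hdn τ
  have hfx : cellEmb hd hdn τ (Ideal.Quotient.mk (schubertVanishing K d n τ) (X τ)) =
      (X none : CellPoly K τ) := by rw [cellEmb_mk, cellHom_X_self]
  have hirr : Irreducible (X none : CellPoly K τ) := MvPolynomial.X_prime.irreducible
  have unit_back : ∀ a, IsUnit (cellEmb (K := K) hd hdn τ a) → IsUnit a := by
    intro a ha
    obtain ⟨c, hc, hca⟩ := MvPolynomial.isUnit_iff_eq_C_of_isReduced.1 ha
    have : a = Ideal.Quotient.mk _ (C c) := hinj (by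
      rw [cellEmb_mk, hca, cellHom, aeval_C]; rfl)
    rw [this]
    exact (hc.map C).map _
  refine ⟨fun h => hirr.not_isUnit (hfx ▸ h.map (cellEmb hd hdn τ)), fun a b hab => ?_⟩
  have h1 : (X none : CellPoly K τ) = cellEmb hd hdn τ a * cellEmb hd hdn τ b := by
    rw [← hfx, hab, map_mul]
  exact (hirr.isUnit_or_isUnit h1).imp (unit_back a) (unit_back b)

theorem ufd_iff_prime (hd : 0 < d) (hdn : d ≤ n) (τ : Idx d n) :
    UniqueFactorizationMonoid (PlRing K d n ⧸ schubertVanishing K d n τ) ↔
      Prime (Ideal.Quotient.mk (schubertVanishing K d n τ) (X τ)) := by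
  haveI := schubertVanishing_isPrime K hd hdn τ
  constructor
  · intro h
    exact UniqueFactorizationMonoid.irreducible_iff_prime.1 (irreducible_mk_X K hd hdn τ)
  · intro h
    exact ufd_of_agree_away (cellEmb hd hdn τ) (cellEmb_injective hd hdn τ) h (cellEmb_agree hd hdn τ)

theorem prime_iff_subsingleton (hd : 0 < d) (hdn : d ≤ n) (τ : Idx d n) :
    Prime (Ideal.Quotient.mk (schubertVanishing K d n τ) (X τ)) ↔ (divisors τ).Subsingleton := by
  rw [← Ideal.span_singleton_prime (mk_X_ne_zero K hd hdn le_rfl), span_mk_X_eq_map]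
  set I := schubertVanishing K d n τ ⊔ Ideal.span {(X τ : PlRing K d n)} with hI
  have hmem : ∀ f, Ideal.Quotient.mk (schubertVanishing K d n τ) f ∈ I.map (Ideal.Quotient.mk _) ↔ f ∈ I :=
    fun f => Ideal.mem_quotient_iff_mem le_sup_left
  have hIdesc : ∀ f, f ∈ I ↔ f ∈ irr K d n ∧ ∀ φ ∈ divisors τ, f ∈ schubertVanishing K d n φ := by
    intro f
    rw [hI, sup_span_X_eq K hd hdn τ, Submodule.mem_inf]
    simp [Ideal.mem_iInf]
  constructor
  · intro hp φ hφ ψ hψ
    by_contra hne
    have hkey : ∀ χ ∈ divisors τ, key χ + 1 = key τ := fun χ hχ => by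
      rw [key_eq_codeg χ, key_eq_codeg τ, ← hχ.2]; ring
    have h1 : X φ * X ψ ∈ I := by
      refine (hIdesc _).2 ⟨Ideal.mul_mem_right _ _ (constantCoeff_X (R := K) φ), fun χ hχ => ?_⟩
      by_cases h : φ ≤ χ
      · refine Ideal.mul_mem_left _ _ (X_mem_schubertVanishing K fun h' => hne ?_)
        have := hkey φ hφ; have := hkey ψ hψ; have := hkey χ hχ
        rw [eq_of_le_of_key h (by omega), eq_of_le_of_key h' (by omega)]
      · exact Ideal.mul_mem_right _ _ (X_mem_schubertVanishing K h)
    have h2 := (hmem _).2 h1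
    rw [map_mul] at h2
    rcases hp.mem_or_mem h2 with h3 | h3
    · exact X_notMem_schubertVanishing hdn hd le_rfl (((hIdesc _).1 ((hmem _).1 h3)).2 φ hφ)
    · exact X_notMem_schubertVanishing hdn hd le_rfl (((hIdesc _).1 ((hmem _).1 h3)).2 ψ hψ)
  · intro hsub
    haveI : I.IsPrime := by
      rcases (divisors τ).eq_empty_or_nonempty with hemp | ⟨φ, hφ⟩
      · have : I = irr K d n := Ideal.ext fun f => by rw [hIdesc, hemp]; simp
        rw [this]; exact irr_isPrime K
      · have : I = schubertVanishing K d n φ := Ideal.ext fun f => by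
          rw [hIdesc]
          exact ⟨fun h => h.2 φ hφ, fun h => ⟨schubertVanishing_le_irr K hd φ h, fun χ hχ => hsub hφ hχ ▸ h⟩⟩
        rw [this]; exact schubertVanishing_isPrime K hd hdn φ
    exact Ideal.map_isPrime_of_surjective Ideal.Quotient.mk_surjective (by
      rw [Ideal.mk_ker]; exact le_sup_left)

/-- An entry that can be lowered. -/
def Lowerable (w : Idx d n) (t : Fin d) : Prop :=
  0 < (w.1 t).val ∧ ∀ s, s < t → (w.1 s).val + 1 < (w.1 t).val

theorem divisors_eq_lower {w φ : Idx d n} (h : φ ∈ divisors w) :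
    ∃ t, ∃ hl : Lowerable w t, φ = lower w t hl.1 hl.2 := by
  classical
  have hne : ∃ t, φ.1 t < w.1 t := by
    by_contra hc
    push Not at hc
    exact h.1.not_ge hc
  obtain ⟨t, ht⟩ := hne
  have hk : key φ + 1 = key w := by rw [key_eq_codeg φ, key_eq_codeg w, ← h.2]; ring
  have hsum := Finset.add_sum_erase (univ : Finset (Fin d)) (fun s => (φ.1 s).val) (mem_univ t)
  have hsum' := Finset.add_sum_erase (univ : Finset (Fin d)) (fun s => (w.1 s).val) (mem_univ t)
  have hle : ∑ s ∈ univ.erase t, (φ.1 s).val ≤ ∑ s ∈ univ.erase t, (w.1 s).val :=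
    Finset.sum_le_sum fun s _ => h.1.le s
  have ht' : (φ.1 t).val < (w.1 t).val := ht
  unfold key at hk
  have heq : ∀ s, s ≠ t → φ.1 s = w.1 s := fun s hs => Fin.ext
    ((Finset.sum_eq_sum_iff_of_le (fun s _ => Fin.le_def.1 (h.1.le s))).1
      (show ∑ s ∈ univ.erase t, (φ.1 s).val = ∑ s ∈ univ.erase t, (w.1 s).val by omega) s
      (mem_erase.2 ⟨hs, mem_univ s⟩))
  have hl : Lowerable w t := by
    refine ⟨by omega, fun s hs => ?_⟩
    have h1 : (φ.1 s).val < (φ.1 t).val := φ.2 hs
    rw [heq s hs.ne] at h1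
    omega
  refine ⟨t, hl, Subtype.ext (funext fun s => ?_)⟩
  show φ.1 s = Function.update w.1 t _ s
  rcases eq_or_ne s t with rfl | hs
  · rw [Function.update_self]
    exact Fin.ext (show (φ.1 s).val = (w.1 s).val - 1 by omega)
  · rw [Function.update_of_ne hs]; exact heq s hs

theorem subsingleton_divisors_iff (w : Idx d n) :
    (divisors w).Subsingleton ↔ ∃ s : ℕ, (∀ t : Fin d, t.val < s → (w.1 t).val = t.val) ∧
      ∀ t t' : Fin d, s ≤ t.val → t.val + 1 = t'.val → (w.1 t).val + 1 = (w.1 t').val := by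
  classical
  constructor
  · intro hsub
    by_cases hex : ∃ t : Fin d, (w.1 t).val ≠ t.val
    · obtain ⟨t0, ht0, hmin⟩ := Finset.exists_min_image (univ.filter fun t : Fin d => (w.1 t).val ≠ t.val)
        id (by obtain ⟨t, ht⟩ := hex; exact ⟨t, mem_filter.2 ⟨mem_univ _, ht⟩⟩)
      rw [mem_filter] at ht0
      have hlow : ∀ t : Fin d, t.val < t0.val → (w.1 t).val = t.val := fun t ht => by
        by_contra hc
        exact (not_lt.2 (hmin t (mem_filter.2 ⟨mem_univ _, hc⟩))) ht
      refine ⟨t0.val, hlow, fun t t' hle htt => ?_⟩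
      have hgt : (w.1 t).val < (w.1 t').val := w.2 (show t < t' by rw [Fin.lt_def]; omega)
      by_contra hne
      have h0 : Lowerable w t0 := by
        refine ⟨by have := le_val w t0; omega, fun s hs => ?_⟩
        have := hlow s hs; have := le_val w t0; have : s.val < t0.val := hs
        omega
      have h1 : Lowerable w t' := ⟨by omega, fun s hs => by
        have : (w.1 s).val ≤ (w.1 t).val := w.2.monotone (show s ≤ t by
          rw [Fin.le_def]; have : s.val < t'.val := hs; omega)
        omega⟩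
      have := hsub (lower_mem_divisors w t0 h0.1 h0.2) (lower_mem_divisors w t' h1.1 h1.2)
      have hv := congrArg (fun x : Idx d n => (x.1 t0).val) this
      simp only [lower, Function.update_self] at hv
      rw [Function.update_of_ne (by rw [ne_eq, Fin.ext_iff]; omega)] at hv
      have := h0.1
      omega
    · push Not at hex
      exact ⟨d, fun t _ => hex t, fun t t' h _ => absurd t.isLt (not_lt.2 h)⟩
  · rintro ⟨s, hs1, hs2⟩ φ hφ ψ hψ
    have huniq : ∀ t, Lowerable w t → t.val = s := by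
      intro t ht
      rcases Nat.lt_trichotomy t.val s with h | h | h
      · exfalso
        have hw := hs1 t h
        obtain ⟨h0, h'⟩ := ht
        have h2 := h' ⟨t.val - 1, by omega⟩ (by rw [Fin.lt_def]; show t.val - 1 < t.val; omega)
        have h3 := le_val w ⟨t.val - 1, by omega⟩
        simp only at h3
        omega
      · exact h
      · exfalso
        have h2 := ht.2 ⟨t.val - 1, by omega⟩ (by rw [Fin.lt_def]; show t.val - 1 < t.val; omega)
        have h3 := hs2 ⟨t.val - 1, by omega⟩ t (show s ≤ t.val - 1 by omega) (show t.val - 1 + 1 = t.val by omega)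
        omega
    obtain ⟨t, ht, rfl⟩ := divisors_eq_lower hφ
    obtain ⟨t', ht', rfl⟩ := divisors_eq_lower hψ
    obtain rfl : t = t' := Fin.ext ((huniq t ht).trans (huniq t' ht').symm)
    rfl

end Groth.Smt
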