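import Groth.Agent.Smt.Normalize

/-! The Grassmannian is cut out by the Plücker quadrics. -/

set_option autoImplicit false

universe u

open Finset W4bk4grassmannian

namespace Groth.Smt

variable {e n : ℕ} {K : Type u} [Field K]

/-- The value of a Plücker vector on an arbitrary tuple of rows. -/
noncomputable def pv (q : Idx (e + 1) n → K) (a : Fin (e + 1) → Fin n) : K :=
  MvPolynomial.eval q (coord K (e + 1) n a)

theorem pv_eq (q : Idx (e + 1) n → K) (a : Fin (e + 1) → Fin n) :
    pv q a = if h : (univ.image a).card = e + 1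
      then (-1 : K) ^ invCount (e + 1) n a * q (sortIdx (e + 1) n a h) else 0 := by
  rw [pv, coord]
  split <;> simp

theorem image_sortIdx {d : ℕ} (a : Fin d → Fin n) (h : (univ.image a).card = d) :
    univ.image (sortIdx d n a h).1 = univ.image a := by
  ext x
  have := Set.ext_iff.1 (Finset.range_orderEmbOfFin (univ.image a) h) x
  simpa [sortIdx] using this

theorem idx_ext_image {d : ℕ} {θ φ : Idx d n} (h : univ.image θ.1 = univ.image φ.1) : θ = φ := by
  refine Subtype.ext ?_
  have hc : ∀ ψ : Idx d n, (univ.image ψ.1).card = d := fun ψ => by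
    rw [card_image_of_injective _ ψ.2.injective, card_univ, Fintype.card_fin]
  have e1 := Finset.orderEmbOfFin_unique (hc θ) (f := θ.1) (fun x => mem_image_of_mem _ (mem_univ x)) θ.2
  have e2 := Finset.orderEmbOfFin_unique (hc θ) (f := φ.1)
    (fun x => h ▸ mem_image_of_mem _ (mem_univ x)) φ.2
  rw [e1, e2]

theorem pv_idx (q : Idx (e + 1) n → K) (θ : Idx (e + 1) n) : pv q θ.1 = q θ := by
  have hc : (univ.image θ.1).card = e + 1 := by
    rw [card_image_of_injective _ θ.2.injective, card_univ, Fintype.card_fin]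
  rw [pv_eq, dif_pos hc, idx_ext_image (θ := sortIdx _ _ θ.1 hc) (φ := θ) (image_sortIdx _ hc)]
  have : invCount (e + 1) n θ.1 = 0 := by
    rw [invCount, card_eq_zero, filter_eq_empty_iff]
    exact fun p _ hp => lt_asymm hp.2 (θ.2 hp.1)
  rw [this, pow_zero, one_mul]

theorem pv_det' (A : Matrix (Fin n) (Fin (e + 1)) K) (a : Fin (e + 1) → Fin n) :
    pv (fun θ => det' A θ.1) a = det' A a := by
  rw [pv_eq, det'_eq_coord]

/-- The minors of a matrix satisfy the Plücker quadrics. -/
theorem eval_quadric (A : Matrix (Fin n) (Fin (e + 1)) K) (i' : Idx e n) (j' : Idx (e + 2) n) :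
    MvPolynomial.eval (fun θ : Idx (e + 1) n => det' A θ.1) (quadric K i' j') = 0 := by
  classical
  set T : Fin (e + 2) → K := fun h => det' A (j'.1 ∘ h.succAbove) with hT
  have key : ∀ c : Fin (e + 1), ∑ h : Fin (e + 2), (-1 : K) ^ (h : ℕ) * A (j'.1 h) c * T h = 0 := by
    intro c
    let N : Matrix (Fin (e + 2)) (Fin (e + 2)) K :=
      Matrix.of fun h => Fin.cons (A (j'.1 h) c) (fun k => A (j'.1 h) k)
    have h0 : N.det = 0 := Matrix.det_zero_of_column_eq (i := 0) (j := c.succ)
      (Fin.succ_ne_zero c).symm (fun h => by simp [N])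
    rw [← h0, Matrix.det_succ_column_zero]
    refine sum_congr rfl fun h _ => ?_
    congr 1
  let C : Fin (e + 1) → K := fun c => (-1 : K) ^ ((Fin.last e : ℕ) + (c : ℕ)) *
    (A.submatrix i'.1 c.succAbove).det
  have hlast : ∀ x : Fin n, det' A (Fin.snoc i'.1 x) = ∑ c, A x c * C c := by
    intro x
    rw [det', Matrix.det_succ_row _ (Fin.last e)]
    refine sum_congr rfl fun c _ => ?_
    have : ((A.submatrix (Fin.snoc i'.1 x) id).submatrix (Fin.last e).succAbove c.succAbove) =
        A.submatrix i'.1 c.succAbove := by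
      ext a b
      simp [Fin.succAbove_last, Fin.snoc_castSucc]
    rw [this, Matrix.submatrix_apply, id, Fin.snoc_last]
    simp only [C]
    ring
  rw [quadric, map_sum]
  have : ∀ h : Fin (e + 2), MvPolynomial.eval (fun θ : Idx (e + 1) n => det' A θ.1)
      ((-1 : PlRing K (e + 1) n) ^ (h.val + 1) * coord K (e + 1) n (Fin.snoc i'.1 (j'.1 h)) *
        coord K (e + 1) n (j'.1 ∘ h.succAbove)) =
      ∑ c, -C c * ((-1 : K) ^ (h : ℕ) * A (j'.1 h) c * T h) := by
    intro h
    rw [map_mul, map_mul, map_pow, map_neg, map_one]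
    show (-1 : K) ^ (h.val + 1) * pv _ _ * pv _ _ = _
    rw [pv_det', pv_det', hlast, mul_sum, sum_mul, hT]
    refine sum_congr rfl fun c _ => ?_
    ring
  rw [sum_congr rfl fun h _ => this h, sum_comm]
  refine sum_eq_zero fun c _ => ?_
  rw [← mul_sum, key c, mul_zero]

/-- The number of rows of a tuple outside `θ`. -/
def outCount {d : ℕ} (θ : Idx d n) (a : Fin d → Fin n) : ℕ := (univ.image a \ univ.image θ.1).card

theorem eq_of_quadrics (q p : Idx (e + 1) n → K) (θ : Idx (e + 1) n) (hθ : q θ ≠ 0)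
    (hq : ∀ (i' : Idx e n) (j' : Idx (e + 2) n), MvPolynomial.eval q (quadric K i' j') = 0)
    (hp : ∀ (i' : Idx e n) (j' : Idx (e + 2) n), MvPolynomial.eval p (quadric K i' j') = 0)
    (hbase : ∀ φ : Idx (e + 1) n, outCount θ φ.1 ≤ 1 → p φ = q φ) :
    ∀ φ, p φ = q φ := by
  classical
  suffices h : ∀ m, ∀ φ : Idx (e + 1) n, outCount θ φ.1 ≤ m → p φ = q φ from fun φ => h _ φ le_rfl
  intro m
  induction m with
  | zero => exact fun φ hφ => hbase φ (hφ.trans zero_le_one)
  | succ m ih =>
    intro φ hφ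
    by_cases h1 : outCount θ φ.1 ≤ 1
    · exact hbase φ h1
    obtain ⟨x, hx⟩ : (univ.image φ.1 \ univ.image θ.1).Nonempty := by
      rw [← Finset.card_pos]; unfold outCount at h1; omega
    rw [mem_sdiff] at hx
    obtain ⟨hxφ, hxθ⟩ := hx
    obtain ⟨k, -, rfl⟩ := mem_image.1 hxφ
    let i' : Idx e n := ⟨φ.1 ∘ k.succAbove, φ.2.comp (Fin.strictMono_succAbove k)⟩
    have hc : (insert (φ.1 k) (univ.image θ.1)).card = e + 2 := by
      rw [card_insert_of_notMem hxθ, card_image_of_injective _ θ.2.injective, card_univ,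
        Fintype.card_fin]
    let j' : Idx (e + 2) n := ⟨fun h => (insert (φ.1 k) (univ.image θ.1)).orderEmbOfFin hc h,
      (Finset.orderEmbOfFin _ hc).strictMono⟩
    obtain ⟨h₀, hh₀⟩ : ∃ h, j'.1 h = φ.1 k := by
      have := Set.ext_iff.1 (Finset.range_orderEmbOfFin _ hc) (φ.1 k)
      exact this.2 (mem_coe.2 (mem_insert_self _ _))
    have hmem : ∀ h, h ≠ h₀ → j'.1 h ∈ univ.image θ.1 := fun h hh => by
      refine (mem_insert.1 (Finset.orderEmbOfFin_mem _ hc h)).resolve_left fun e => ?_
      exact hh (j'.2.injective (e.trans hh₀.symm))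
    have hθ' : (j'.1 ∘ h₀.succAbove) = θ.1 := by
      let ψ : Idx (e + 1) n := ⟨_, j'.2.comp (Fin.strictMono_succAbove h₀)⟩
      refine congrArg Subtype.val (idx_ext_image (θ := ψ) (φ := θ) (eq_of_subset_of_card_le ?_ ?_))
      · exact image_subset_iff.2 fun t _ => hmem _ (Fin.succAbove_ne h₀ t)
      · rw [card_image_of_injective _ θ.2.injective, card_image_of_injective _ ψ.2.injective]
    have hsnocimg : ∀ z, univ.image (Fin.snoc i'.1 z : Fin (e + 1) → Fin n) ⊆
        insert z (univ.image φ.1 \ {φ.1 k}) := by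
      intro z
      refine image_subset_iff.2 fun t _ => ?_
      induction t using Fin.lastCases with
      | last => simp
      | cast t =>
        simp only [Fin.snoc_castSucc, mem_insert, mem_sdiff, mem_singleton, i', Function.comp_apply]
        exact Or.inr ⟨mem_image_of_mem _ (mem_univ _), fun e => Fin.succAbove_ne k t (φ.2.injective e)⟩
    have hpv : ∀ a : Fin (e + 1) → Fin n, (outCount θ a ≤ m ∨ outCount θ a ≤ 1) → pv p a = pv q a := by
      intro a ha
      rw [pv_eq, pv_eq]
      split
      · next h =>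
        congr 1
        have e : outCount θ (sortIdx (e + 1) n a h).1 = outCount θ a := by
          rw [outCount, image_sortIdx, outCount]
        exact ha.elim (fun ha => ih _ (e ▸ ha)) (fun ha => hbase _ (e ▸ ha))
      · rfl
    have hrest : ∀ h, h ≠ h₀ →
        pv p (Fin.snoc i'.1 (j'.1 h)) = pv q (Fin.snoc i'.1 (j'.1 h)) ∧
          pv p (j'.1 ∘ h.succAbove) = pv q (j'.1 ∘ h.succAbove) := by
      intro h hh
      constructor
      · refine hpv _ (Or.inl ?_)
        have hsub : univ.image (Fin.snoc i'.1 (j'.1 h) : Fin (e + 1) → Fin n) \ univ.image θ.1 ⊆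
            (univ.image φ.1 \ univ.image θ.1).erase (φ.1 k) := by
          intro y hy
          rw [mem_sdiff] at hy
          rw [mem_erase, mem_sdiff]
          rcases mem_insert.1 (hsnocimg _ hy.1) with rfl | hy'
          · exact absurd (hmem h hh) hy.2
          · rw [mem_sdiff, mem_singleton] at hy'
            exact ⟨hy'.2, hy'.1, hy.2⟩
        have := card_le_card hsub
        rw [card_erase_of_mem (mem_sdiff.2 ⟨hxφ, hxθ⟩)] at this
        unfold outCount at hφ ⊢
        omega
      · refine hpv _ (Or.inr ((card_le_card ?_).trans (card_singleton (φ.1 k)).le))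
        intro y hy
        rw [mem_sdiff, mem_image] at hy
        obtain ⟨⟨t, -, rfl⟩, hy⟩ := hy
        rw [mem_singleton]
        by_contra hne
        exact hy (hmem _ fun e => hne (by rw [Function.comp_apply, e, hh₀]))
    have ep := hp i' j'
    have eq := hq i' j'
    simp only [quadric, map_sum, map_mul, map_pow, map_neg, map_one] at ep eq
    change ∑ h : Fin (e + 2), (-1 : K) ^ (h.val + 1) * pv p (Fin.snoc i'.1 (j'.1 h)) *
      pv p (j'.1 ∘ h.succAbove) = 0 at ep
    change ∑ h : Fin (e + 2), (-1 : K) ^ (h.val + 1) * pv q (Fin.snoc i'.1 (j'.1 h)) *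
      pv q (j'.1 ∘ h.succAbove) = 0 at eq
    rw [← add_sum_erase _ _ (mem_univ h₀)] at ep eq
    rw [sum_congr rfl fun h hh => by
      rw [(hrest h (ne_of_mem_erase hh)).1, (hrest h (ne_of_mem_erase hh)).2]] at ep
    have e0 := add_right_cancel (ep.trans eq.symm)
    rw [hθ', pv_idx, pv_idx, hh₀] at e0
    rw [hbase θ (by simp [outCount])] at e0
    have e1 := mul_left_cancel₀ (pow_ne_zero _ (neg_ne_zero.2 one_ne_zero)) (mul_right_cancel₀ hθ e0)
    rw [pv_eq, pv_eq] at e1
    have himg : univ.image (Fin.snoc i'.1 (φ.1 k) : Fin (e + 1) → Fin n) = univ.image φ.1 := by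
      refine Subset.antisymm ?_ ?_
      · refine (hsnocimg _).trans (insert_subset hxφ sdiff_subset)
      · refine image_subset_iff.2 fun t _ => mem_image.2 ?_
        rcases Fin.eq_self_or_eq_succAbove k t with rfl | ⟨s, rfl⟩
        · exact ⟨Fin.last e, mem_univ _, by simp⟩
        · exact ⟨s.castSucc, mem_univ _, by simp [i']⟩
    have hc' : (univ.image (Fin.snoc i'.1 (φ.1 k) : Fin (e + 1) → Fin n)).card = e + 1 := by
      rw [himg, card_image_of_injective _ φ.2.injective, card_univ, Fintype.card_fin]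
    rw [dif_pos hc', dif_pos hc', idx_ext_image (θ := sortIdx _ _ _ hc') (φ := φ)
      ((image_sortIdx _ hc').trans himg)] at e1
    exact mul_left_cancel₀ (pow_ne_zero _ (neg_ne_zero.2 one_ne_zero)) e1

theorem exists_matrix_of_quadrics (q : Idx (e + 1) n → K) (hq : q ≠ 0)
    (hquad : ∀ (i' : Idx e n) (j' : Idx (e + 2) n), MvPolynomial.eval q (quadric K i' j') = 0) :
    ∃ A : Matrix (Fin n) (Fin (e + 1)) K, ∀ θ : Idx (e + 1) n, q θ = det' A θ.1 := by
  classical
  obtain ⟨θ, hθ⟩ := Function.ne_iff.1 hq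
  simp only [Pi.zero_apply] at hθ
  let M : Matrix (Fin n) (Fin (e + 1)) K :=
    Matrix.of fun a s => pv q (Function.update θ.1 s a) / q θ
  have hM : M.submatrix θ.1 id = 1 := by
    ext t s
    simp only [Matrix.submatrix_apply, id, M, Matrix.of_apply, Matrix.one_apply]
    by_cases h : t = s
    · subst h
      rw [Function.update_eq_self, pv_idx, div_self hθ, if_pos rfl]
    · rw [if_neg h, pv_eq, dif_neg, zero_div]
      intro hc
      have hinj : Function.Injective (Function.update θ.1 s (θ.1 t)) := by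
        rw [← Set.injOn_univ, ← Finset.coe_univ]
        exact Finset.card_image_iff.1 (by rw [hc, card_univ, Fintype.card_fin])
      exact h (hinj (by simp [Function.update_of_ne h]))
  let D : Matrix (Fin (e + 1)) (Fin (e + 1)) K := Matrix.diagonal fun t => if t = 0 then q θ else 1
  have hD : D.det = q θ := by simp [D, Matrix.det_diagonal]
  have hup : ∀ s a, det' (M * D) (Function.update θ.1 s a) = pv q (Function.update θ.1 s a) := by
    intro s a
    rw [det'_mul, det'_update M θ hM, hD]
    simp [M, hθ]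
  refine ⟨M * D, fun φ => (eq_of_quadrics q (fun φ => det' (M * D) φ.1) θ hθ hquad
    (eval_quadric _) ?_ φ).symm⟩
  intro φ hφ
  obtain ⟨s, a, himg⟩ : ∃ s a, univ.image (Function.update θ.1 s a) = univ.image φ.1 := by
    by_cases h0 : φ = θ
    · subst h0; exact ⟨0, φ.1 0, by rw [Function.update_eq_self]⟩
    have hne : univ.image φ.1 ≠ univ.image θ.1 := fun h => h0 (idx_ext_image h)
    have hcard : (univ.image φ.1).card = (univ.image θ.1).card := by
      rw [card_image_of_injective _ θ.2.injective, card_image_of_injective _ φ.2.injective]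
    obtain ⟨y, hy⟩ : (univ.image φ.1 \ univ.image θ.1).Nonempty := by
      rw [sdiff_nonempty]
      exact fun h => hne (eq_of_subset_of_card_le h hcard.ge)
    obtain ⟨z, hz⟩ : (univ.image θ.1 \ univ.image φ.1).Nonempty := by
      rw [sdiff_nonempty]
      exact fun h => hne (eq_of_subset_of_card_le h hcard.le).symm
    rw [mem_sdiff] at hz
    obtain ⟨s, -, rfl⟩ := mem_image.1 hz.1
    refine ⟨s, y, (eq_of_subset_of_card_le ?_ ?_).symm⟩
    · intro x hx
      by_cases hxθ : x ∈ univ.image θ.1
      · obtain ⟨t, -, rfl⟩ := mem_image.1 hxθ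
        refine mem_image.2 ⟨t, mem_univ _, Function.update_of_ne ?_ _ _⟩
        rintro rfl
        exact hz.2 hx
      · refine mem_image.2 ⟨s, mem_univ _, ?_⟩
        rw [Function.update_self]
        exact card_le_one.1 hφ _ hy _ (mem_sdiff.2 ⟨hx, hxθ⟩)
    · exact card_image_le.trans (card_image_of_injective _ φ.2.injective).ge
  have e1 := hup s a
  have hc : (univ.image (Function.update θ.1 s a)).card = e + 1 := by
    rw [himg, card_image_of_injective _ φ.2.injective, card_univ, Fintype.card_fin]
  rw [det'_eq_coord, dif_pos hc, pv_eq, dif_pos hc,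
    idx_ext_image (θ := sortIdx _ _ _ hc) (φ := φ) ((image_sortIdx _ hc).trans himg)] at e1
  exact mul_left_cancel₀ (pow_ne_zero _ (neg_ne_zero.2 one_ne_zero)) e1

end Groth.Smt
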