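import Mathlib.RingTheory.Regular.RegularSequence
import Mathlib.RingTheory.Ideal.Quotient.Operations
import Mathlib.Tactic.LinearCombination
import Mathlib.Tactic.Abel

/-! Regular sequences on a fibre product of modules. -/

set_option autoImplicit false

universe u v

open RingTheory.Sequence Pointwise

namespace Groth.Smt

variable {R : Type u} [CommRing R]

theorem mk_eq_zero_iff {M : Type v} [AddCommGroup M] [Module R M] (r : R) (m : M) :
    (Submodule.Quotient.mk m : QuotSMulTop r M) = 0 ↔ ∃ m', r • m' = m := by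
  rw [Submodule.Quotient.mk_eq_zero, Submodule.mem_smul_pointwise_iff_exists]
  simp

/-- If `M = P ×_N Q` with `P → N` onto, then a sequence weakly regular on `P` and `Q` whose truncation
is weakly regular on `N` is weakly regular on `M`. -/
theorem isWeaklyRegular_fibreProduct :
    ∀ (rs : List R) {M P Q N : Type v} [AddCommGroup M] [Module R M] [AddCommGroup P] [Module R P]
      [AddCommGroup Q] [Module R Q] [AddCommGroup N] [Module R N]
      (f : M →ₗ[R] P) (g : M →ₗ[R] Q) (p : P →ₗ[R] N) (q : Q →ₗ[R] N),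
      (∀ m, f m = 0 → g m = 0 → m = 0) → (∀ m, p (f m) = q (g m)) →
      (∀ x y, p x = q y → ∃ m, f m = x ∧ g m = y) → Function.Surjective p →
      IsWeaklyRegular P rs → IsWeaklyRegular Q rs → IsWeaklyRegular N rs.dropLast →
      IsWeaklyRegular M rs := by
  intro rs
  induction rs with
  | nil => intros; exact IsWeaklyRegular.nil _ _
  | cons r rs ih =>
    intro M P Q N _ _ _ _ _ _ _ _ f g p q hinj hcomm hex hsurj hP hQ hN
    rw [isWeaklyRegular_cons_iff] at hP hQ ⊢
    have hr : IsSMulRegular M r := by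
      rw [isSMulRegular_iff_right_eq_zero_of_smul]
      intro m hm
      refine hinj m (hP.1.right_eq_zero_of_smul ?_) (hQ.1.right_eq_zero_of_smul ?_) <;>
        rw [← map_smul, hm, map_zero]
    refine ⟨hr, ?_⟩
    rcases rs with _ | ⟨r', rs⟩
    · exact IsWeaklyRegular.nil _ _
    rw [List.dropLast_cons₂, isWeaklyRegular_cons_iff] at hN
    refine ih (QuotSMulTop.map r f) (QuotSMulTop.map r g) (QuotSMulTop.map r p) (QuotSMulTop.map r q)
      ?_ ?_ ?_ ?_ hP.2 hQ.2 hN.2
    · intro m
      refine Submodule.Quotient.induction_on _ m fun m hf hg => ?_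
      rw [QuotSMulTop.map_apply_mk, mk_eq_zero_iff] at hf hg
      obtain ⟨x, hx⟩ := hf
      obtain ⟨y, hy⟩ := hg
      have e : p x = q y := hN.1 (show r • p x = r • q y by
        rw [← map_smul, ← map_smul, hx, hy, hcomm])
      obtain ⟨m', h1, h2⟩ := hex x y e
      refine (mk_eq_zero_iff r m).2 ⟨m', sub_eq_zero.1 (hinj _ ?_ ?_)⟩
      · rw [map_sub, map_smul, h1, hx, sub_self]
      · rw [map_sub, map_smul, h2, hy, sub_self]
    · intro m
      refine Submodule.Quotient.induction_on _ m fun m => ?_
      simp only [QuotSMulTop.map_apply_mk, hcomm]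
    · intro x
      refine Submodule.Quotient.induction_on _ x fun x y => ?_
      refine Submodule.Quotient.induction_on _ y fun y h => ?_
      rw [QuotSMulTop.map_apply_mk, QuotSMulTop.map_apply_mk, ← sub_eq_zero,
        ← Submodule.Quotient.mk_sub, mk_eq_zero_iff] at h
      obtain ⟨z, hz⟩ := h
      obtain ⟨w, rfl⟩ := hsurj z
      obtain ⟨m, h1, h2⟩ := hex (x - r • w) y (by rw [map_sub, map_smul, hz]; abel)
      refine ⟨Submodule.Quotient.mk m, ?_, by rw [QuotSMulTop.map_apply_mk, h2]⟩
      rw [QuotSMulTop.map_apply_mk, h1, Submodule.Quotient.mk_sub,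
        (mk_eq_zero_iff r (r • w)).2 ⟨w, rfl⟩, sub_zero]
    · exact QuotSMulTop.map_surjective r hsurj

theorem isWeaklyRegular_quotient_inf (I J : Ideal R) (rs : List R)
    (hI : IsWeaklyRegular (R ⧸ I) rs) (hJ : IsWeaklyRegular (R ⧸ J) rs)
    (hIJ : IsWeaklyRegular (R ⧸ (I ⊔ J)) rs.dropLast) :
    IsWeaklyRegular (R ⧸ (I ⊓ J)) rs := by
  refine isWeaklyRegular_fibreProduct rs
    (Submodule.factor (inf_le_left : I ⊓ J ≤ I)) (Submodule.factor (inf_le_right : I ⊓ J ≤ J))
    (Submodule.factor (le_sup_left : I ≤ I ⊔ J)) (Submodule.factor (le_sup_right : J ≤ I ⊔ J))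
    ?_ ?_ ?_ (Submodule.factor_surjective _) hI hJ hIJ
  · intro m
    refine Submodule.Quotient.induction_on _ m fun m h1 h2 => ?_
    replace h1 := (Submodule.Quotient.mk_eq_zero _).1 h1
    replace h2 := (Submodule.Quotient.mk_eq_zero _).1 h2
    exact (Submodule.Quotient.mk_eq_zero _).2 ⟨h1, h2⟩
  · intro m
    refine Submodule.Quotient.induction_on _ m fun m => ?_
    rfl
  · intro x
    refine Submodule.Quotient.induction_on _ x fun x y => ?_
    refine Submodule.Quotient.induction_on _ y fun y h => ?_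
    change (Submodule.Quotient.mk x : R ⧸ (I ⊔ J)) = Submodule.Quotient.mk y at h
    rw [Submodule.Quotient.eq, Submodule.mem_sup] at h
    obtain ⟨a, ha, b, hb, hab⟩ := h
    refine ⟨Submodule.Quotient.mk (x - a), (Submodule.Quotient.eq _).2 ?_,
      (Submodule.Quotient.eq _).2 ?_⟩
    · simpa using ha
    · show x - a - y ∈ J
      rwa [show x - a - y = b by linear_combination -hab]

end Groth.Smt
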