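import Groth.Agent.Smt.Cell

/-! The boundary of a Schubert variety: `J(τ) + (X τ)` is the intersection of the irrelevant ideal
and the ideals of the Schubert divisors. -/

set_option autoImplicit false

universe u

open Finset MvPolynomial W4bk4grassmannian

namespace Groth.Smt

variable {d n : ℕ} (K : Type u) [Field K] [Infinite K]

/-- The irrelevant ideal of the Plücker ring. -/
noncomputable def irr (d n : ℕ) : Ideal (PlRing K d n) :=
  RingHom.ker (MvPolynomial.constantCoeff : PlRing K d n →+* K)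

theorem irr_isPrime : (irr K d n).IsPrime := RingHom.ker_isPrime _

theorem constantCoeff_eq_evalMinors (hd : 0 < d) (f : PlRing K d n) :
    constantCoeff f = evalMinors K d n 0 f := by
  rw [evalMinors, show (fun θ : Idx d n => ((0 : Matrix (Fin n) (Fin d) K).submatrix θ.1 id).det) =
    fun _ => (0 : K) from funext fun θ => by
      haveI : Nonempty (Fin d) := ⟨⟨0, hd⟩⟩
      rw [show ((0 : Matrix (Fin n) (Fin d) K).submatrix θ.1 id) = 0 from rfl, Matrix.det_zero]]
  exact (aeval_zero' (R := K) (S₁ := K) f).symm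

theorem schubertVanishing_le_irr (hd : 0 < d) (τ : Idx d n) :
    schubertVanishing K d n τ ≤ irr K d n := by
  intro f hf
  simp only [schubertVanishing, Ideal.mem_iInf] at hf
  have h := hf 0 fun φ _ => by
    haveI : Nonempty (Fin d) := ⟨⟨0, hd⟩⟩
    rw [show ((0 : Matrix (Fin n) (Fin d) K).submatrix φ.1 id) = 0 from rfl, Matrix.det_zero]
  rw [irr, RingHom.mem_ker, constantCoeff_eq_evalMinors K hd]
  exact h

theorem schubertVanishing_antitone {φ τ : Idx d n} (h : φ ≤ τ) :
    schubertVanishing K d n τ ≤ schubertVanishing K d n φ :=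
  le_iInf fun A => le_iInf fun hA => iInf_le_of_le A
    (iInf_le_of_le (fun ψ hψ => hA ψ fun hle => hψ (hle.trans h)) le_rfl)

theorem X_mem_schubertVanishing {φ τ : Idx d n} (h : ¬ τ ≤ φ) :
    (X τ : PlRing K d n) ∈ schubertVanishing K d n φ :=
  plIdeal_le_schubertVanishing K φ (Ideal.subset_span (Or.inr ⟨τ, h, rfl⟩))

theorem sup_span_X_eq (hd : 0 < d) (hdn : d ≤ n) (τ : Idx d n) :
    schubertVanishing K d n τ ⊔ Ideal.span {X τ} =
      irr K d n ⊓ ⨅ φ ∈ divisors τ, schubertVanishing K d n φ := by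
  classical
  apply le_antisymm
  · refine sup_le (le_inf (schubertVanishing_le_irr K hd τ)
      (le_iInf fun φ => le_iInf fun hφ => schubertVanishing_antitone K hφ.1.le)) ?_
    rw [Ideal.span_le, Set.singleton_subset_iff]
    refine ⟨?_, ?_⟩
    · show constantCoeff (X τ) = (0 : K)
      exact constantCoeff_X (R := K) τ
    · rw [SetLike.mem_coe, Ideal.mem_iInf]
      intro φ
      rw [Ideal.mem_iInf]
      exact fun hφ => X_mem_schubertVanishing K hφ.1.not_ge
  · rintro f ⟨hf0, hf⟩
    obtain ⟨l, hl⟩ := exists_expand K f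
    rw [SetLike.mem_coe, Ideal.mem_iInf] at hf
    have h1 := Submodule.mem_sup_left (T := Ideal.span {(X τ : PlRing K d n)})
      (plIdealTop_le_schubertVanishing K τ hl)
    suffices hsum : (l.sum fun C c => c • sm K C) ∈ schubertVanishing K d n τ ⊔ Ideal.span {X τ} by
      simpa using Ideal.add_mem _ h1 hsum
    refine Submodule.sum_mem _ fun C hC => ?_
    rw [Finsupp.mem_support_iff] at hC
    obtain ⟨m, c, hc⟩ := C
    by_cases hle : ∀ k, c k ≤ τ
    · rcases Nat.eq_zero_or_pos m with rfl | hm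
      · exfalso
        apply hC
        have hcc : constantCoeff (l.sum fun C c => c • sm K C) = 0 := by
          have h2 : constantCoeff (f - l.sum fun C c => c • sm K C) = 0 :=
            schubertVanishing_le_irr K hd τ (plIdealTop_le_schubertVanishing K τ hl)
          rwa [map_sub, show constantCoeff f = 0 from hf0, zero_sub, neg_eq_zero] at h2
        rw [Finsupp.sum, map_sum, Finset.sum_eq_single (⟨0, c, hc⟩ : Chain d n)] at hcc
        · simpa [sm, chainMon, constantCoeff_eq] using hcc
        · rintro ⟨m', c', hc'⟩ - hne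
          have : m' ≠ 0 := by
            rintro rfl
            exact hne (by obtain rfl : c' = c := funext fun k => k.elim0; rfl)
          simp [sm, chainMon, constantCoeff_smul, map_prod, constantCoeff_X, zero_pow this]
        · intro hn
          exact absurd (Finsupp.mem_support_iff.2 hC) hn
      · rcases lt_or_eq_of_le (hle ⟨0, hm⟩) with hlt | heq
        · obtain ⟨φ, hφ, hge⟩ := exists_divisor_ge hlt
          exact absurd ((mem_schubertVanishing_iff K hd hdn hl).1 (Ideal.mem_iInf.1 (hf φ) hφ)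
            ⟨m, c, hc⟩ fun k => (hc (show (⟨0, hm⟩ : Fin m) ≤ k from Nat.zero_le _)).trans hge) hC
        · refine Submodule.smul_of_tower_mem _ _ (Submodule.mem_sup_right ?_)
          refine Ideal.span_mono ?_ (sm_mem_span_of_not K (P := fun θ => θ = τ) ⟨⟨0, hm⟩, heq⟩)
          rintro g ⟨θ, rfl, rfl⟩
          rfl
    · exact Submodule.smul_of_tower_mem _ _ (Submodule.mem_sup_left (sm_mem_schubertVanishing K hle))

theorem sup_span_X_isRadical (hd : 0 < d) (hdn : d ≤ n) (τ : Idx d n) :
    (schubertVanishing K d n τ ⊔ Ideal.span {X τ}).IsRadical := by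
  rw [sup_span_X_eq K hd hdn]
  intro x hx
  obtain ⟨k, hk⟩ := hx
  refine ⟨(irr_isPrime K).mem_of_pow_mem k hk.1, ?_⟩
  have h := hk.2
  rw [SetLike.mem_coe, Ideal.mem_iInf] at h ⊢
  intro φ
  rw [Ideal.mem_iInf]
  exact fun hφ => (schubertVanishing_isPrime K hd hdn φ).mem_of_pow_mem k (Ideal.mem_iInf.1 (h φ) hφ)

theorem span_mk_X_eq_map (τ θ : Idx d n) :
    Ideal.span {Ideal.Quotient.mk (schubertVanishing K d n τ) (X θ)} =
      (schubertVanishing K d n τ ⊔ Ideal.span {X θ}).map (Ideal.Quotient.mk _) := by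
  rw [Ideal.map_sup, Ideal.map_quotient_self, bot_sup_eq, Ideal.map_span, Set.image_singleton]

theorem mk_X_ne_zero (hd : 0 < d) (hdn : d ≤ n) {τ θ : Idx d n} (h : θ ≤ τ) :
    Ideal.Quotient.mk (schubertVanishing K d n τ) (X θ) ≠ 0 := fun he =>
  X_notMem_schubertVanishing hdn hd h (Ideal.Quotient.eq_zero_iff_mem.1 he)

theorem span_mk_X_isRadical (hd : 0 < d) (hdn : d ≤ n) (τ : Idx d n) :
    (Ideal.span {Ideal.Quotient.mk (schubertVanishing K d n τ) (X τ)}).IsRadical := by
  rw [span_mk_X_eq_map]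
  have h := sup_span_X_isRadical K hd hdn τ
  set I := schubertVanishing K d n τ ⊔ Ideal.span {(X τ : PlRing K d n)}
  intro x hx
  obtain ⟨f, rfl⟩ := Ideal.Quotient.mk_surjective x
  obtain ⟨k, hk⟩ := hx
  rw [← map_pow, Ideal.mem_quotient_iff_mem le_sup_left] at hk
  exact Ideal.mem_map_of_mem _ (h ⟨k, hk⟩)

theorem isIntegrallyClosed_schubert (hd : 0 < d) (hdn : d ≤ n) (τ : Idx d n) :
    IsIntegrallyClosed (PlRing K d n ⧸ schubertVanishing K d n τ) := by
  haveI := schubertVanishing_isPrime K hd hdn τ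
  exact isIntegrallyClosed_of_agree_away (cellEmb hd hdn τ) (cellEmb_injective hd hdn τ)
    (mk_X_ne_zero K hd hdn le_rfl) (span_mk_X_isRadical K hd hdn τ) (cellEmb_agree hd hdn τ)

end Groth.Smt
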