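import Groth.Agent.Smt.Schubert

/-! Constraints on the standard expansion of a Plücker polynomial: degrees, leading terms, and the
shape of the straightening relation of a skew pair. -/

set_option autoImplicit false

universe u

open Finset MvPolynomial W4bk4grassmannian

namespace Groth.Smt

variable {d n : ℕ} {K : Type u} [CommRing K]

theorem piv_sum (v w : Idx d n) (l : Chain d n →₀ K) :
    piv K v w (l.sum fun C c => c • sm K C) = ∑ C ∈ l.support, l C • piv K v w (sm K C) := by
  rw [Finsupp.sum, map_sum]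
  exact Finset.sum_congr rfl fun C _ => map_smul _ _ _

theorem piv_eq_of_expand (v w : Idx d n) {f : PlRing K d n} {l : Chain d n →₀ K}
    (hl : f - (l.sum fun C c => c • sm K C) ∈ plIdealTop (d := d) (n := n) K) :
    piv K v w f = piv K v w (l.sum fun C c => c • sm K C) := by
  have : piv K v w (f - l.sum fun C c => c • sm K C) = 0 := plIdealTop_le_ker K v w hl
  rwa [map_sub, sub_eq_zero] at this

theorem expand_zero_of_piv_eq_zero (hd : 0 < d) {v w : Idx d n} {f : PlRing K d n} {l : Chain d n →₀ K}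
    (hl : f - (l.sum fun C c => c • sm K C) ∈ plIdealTop (d := d) (n := n) K)
    (hf : piv K v w f = 0) {C : Chain d n} (hC : ChainIn v w C) : l C = 0 :=
  coeff_eq_zero_of_piv_eq_zero K hd l ((piv_eq_of_expand v w hl).symm.trans hf) hC

/-! ### Row weights -/

/-- A grading of the matrix ring by rows. -/
def rowWeight (d : ℕ) {n : ℕ} (g : Fin n → ℕ) : Fin n × Fin d → ℕ := fun p => g p.1

/-- The row weight of a chain. -/
def chainDeg (g : Fin n → ℕ) (C : Chain d n) : ℕ := ∑ l, ∑ t, g ((C.2.1 l).1 t)

theorem isWeightedHomogeneous_minor (v w θ : Idx d n) (g : Fin n → ℕ) :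
    IsWeightedHomogeneous (rowWeight d g) (det' (gen K v w) θ.1) (∑ t, g (θ.1 t)) := by
  rw [det', Matrix.det_apply, ← mem_weightedHomogeneousSubmodule]
  refine Submodule.sum_mem _ fun σ _ => ?_
  rw [Units.smul_def]
  refine zsmul_mem ?_ _
  rw [mem_weightedHomogeneousSubmodule, ← Equiv.sum_comp σ (fun t => g (θ.1 t))]
  refine IsWeightedHomogeneous.prod _ _ _ fun t _ => ?_
  simp only [Matrix.submatrix_apply, id, gen, Matrix.of_apply]
  split_ifs
  · exact isWeightedHomogeneous_X K (rowWeight d g) (θ.1 (σ t), t)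
  · exact isWeightedHomogeneous_zero K _ _

theorem isWeightedHomogeneous_sm (v w : Idx d n) (g : Fin n → ℕ) (C : Chain d n) :
    IsWeightedHomogeneous (rowWeight d g) (piv K v w (sm K C)) (chainDeg g C) := by
  rw [sm, chainMon, map_prod]
  refine IsWeightedHomogeneous.prod _ _ _ fun l _ => ?_
  rw [piv_X]
  exact isWeightedHomogeneous_minor v w _ g

/-- Only chains of the row weight of `f` occur in its expansion. -/
theorem chainDeg_eq_of_coeff (hd : 0 < d) {v w : Idx d n} {f : PlRing K d n} {l : Chain d n →₀ K}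
    (hl : f - (l.sum fun C c => c • sm K C) ∈ plIdealTop (d := d) (n := n) K) {g : Fin n → ℕ} {D : ℕ}
    (hf : IsWeightedHomogeneous (rowWeight d g) (piv K v w f) D) {C : Chain d n} (hC : ChainIn v w C)
    (hne : l C ≠ 0) : chainDeg g C = D := by
  classical
  by_contra hD
  apply hne
  have key : piv K v w ((l.filter fun C => chainDeg g C ≠ D).sum fun C c => c • sm K C) = 0 := by
    have h1 : (l.sum fun C c => c • sm K C) = ((l.filter fun C => chainDeg g C = D).sum fun C c => c • sm K C) +
        ((l.filter fun C => chainDeg g C ≠ D).sum fun C c => c • sm K C) := by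
      rw [← Finsupp.sum_add_index' (h := fun C (c : K) => c • sm K C) (fun _ => zero_smul K _) (fun _ _ _ => add_smul _ _ _),
        Finsupp.filter_add_filter_not]
    have h2 := piv_eq_of_expand v w hl
    rw [h1, map_add] at h2
    have h3 := congrArg (weightedHomogeneousComponent (rowWeight d g) D) h2
    rw [map_add, hf.weightedHomogeneousComponent_same] at h3
    have h4 : weightedHomogeneousComponent (rowWeight d g) D
        (piv K v w ((l.filter fun C => chainDeg g C ≠ D).sum fun C c => c • sm K C)) = 0 := by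
      rw [piv_sum, map_sum]
      refine Finset.sum_eq_zero fun E hE => ?_
      rw [Finsupp.support_filter, mem_filter] at hE
      rw [map_smul, (isWeightedHomogeneous_sm v w g E).weightedHomogeneousComponent_ne _ (Ne.symm hE.2), smul_zero]
    have h5 : weightedHomogeneousComponent (rowWeight d g) D
        (piv K v w ((l.filter fun C => chainDeg g C = D).sum fun C c => c • sm K C)) =
        piv K v w ((l.filter fun C => chainDeg g C = D).sum fun C c => c • sm K C) := by
      rw [piv_sum, map_sum]
      refine Finset.sum_congr rfl fun E hE => ?_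
      rw [Finsupp.support_filter, mem_filter] at hE
      rw [map_smul]
      congr 1
      have h := isWeightedHomogeneous_sm (K := K) v w g E
      rw [hE.2] at h
      exact h.weightedHomogeneousComponent_same
    rw [h4, h5, add_zero] at h3
    rw [h3] at h2
    exact left_eq_add.1 h2
  have := coeff_eq_zero_of_piv_eq_zero K hd (l.filter fun C => chainDeg g C ≠ D) key hC
  rwa [Finsupp.filter_apply_pos (fun C => chainDeg g C ≠ D) l hD] at this

/-! ### Leading terms -/

theorem wt_le_of_coeff (hd : 0 < d) {v w : Idx d n} {f : PlRing K d n} {l : Chain d n →₀ K}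
    (hl : f - (l.sum fun C c => c • sm K C) ∈ plIdealTop (d := d) (n := n) K)
    {e : (Fin n × Fin d) →₀ ℕ} (hf : HasLead K (piv K v w f) e) {C : Chain d n} (hC : ChainIn v w C)
    (hne : l C ≠ 0) : wt (chainExp C) ≤ wt e := by
  classical
  obtain ⟨M, hM, hmax⟩ := Finset.exists_max_image (l.support.filter (ChainIn v w))
    (fun C => wt (chainExp C)) ⟨C, mem_filter.2 ⟨Finsupp.mem_support_iff.2 hne, hC⟩⟩
  rw [mem_filter, Finsupp.mem_support_iff] at hM
  refine le_trans (hmax C (mem_filter.2 ⟨Finsupp.mem_support_iff.2 hne, hC⟩)) (hf.wt_le ?_)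
  rw [piv_eq_of_expand v w hl, piv_sum, coeff_sum, Finset.sum_eq_single M]
  · rw [coeff_smul, (hasLead_sm hM.2).1, smul_eq_mul, mul_one]; exact hM.1
  · intro D hD hDM
    rw [coeff_smul, smul_eq_mul]
    by_cases hin : ChainIn v w D
    · by_contra hc
      have := (hasLead_sm (K := K) hin).eq_of_wt (right_ne_zero_of_mul hc)
        (hmax D (mem_filter.2 ⟨hD, hin⟩))
      exact hDM (chainExp_injective hd this.symm)
    · rw [piv_sm_eq_zero K hin]; simp
  · intro hn
    exact absurd (Finsupp.mem_support_iff.2 hM.1) hn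

theorem coeff_eq_one_of_lead (hd : 0 < d) {v w : Idx d n} {f : PlRing K d n} {l : Chain d n →₀ K}
    (hl : f - (l.sum fun C c => c • sm K C) ∈ plIdealTop (d := d) (n := n) K)
    {C₀ : Chain d n} (hC₀ : ChainIn v w C₀) (hf : HasLead K (piv K v w f) (chainExp C₀)) :
    l C₀ = 1 := by
  classical
  have h := hf.1
  rw [piv_eq_of_expand v w hl, piv_sum, coeff_sum, Finset.sum_eq_single C₀] at h
  · rwa [coeff_smul, (hasLead_sm hC₀).1, smul_eq_mul, mul_one] at h
  · intro D hD hne
    rw [coeff_smul, smul_eq_mul]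
    by_cases hin : ChainIn v w D
    · by_contra hc
      have hle := wt_le_of_coeff hd hl hf hin (left_ne_zero_of_mul hc)
      have := (hasLead_sm (K := K) hin).eq_of_wt (right_ne_zero_of_mul hc) hle
      exact hne (chainExp_injective hd this.symm)
    · rw [piv_sm_eq_zero K hin]; simp
  · intro hn
    rw [Finsupp.notMem_support_iff] at hn
    rw [hn, zero_smul, coeff_zero]

/-! ### Skew pairs -/

/-- The chain of a comparable pair. -/
def pairChain (a b : Idx d n) (h : b ≤ a) : Chain d n :=
  ⟨2, ![a, b], by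
    intro i j hij
    fin_cases i <;> fin_cases j <;> first | exact le_rfl | exact h | exact absurd hij (by decide)⟩

theorem sm_pairChain (a b : Idx d n) (h : b ≤ a) : sm K (pairChain a b h) = X a * X b := by
  show ∏ k : Fin 2, X (![a, b] k) = _
  rw [Fin.prod_univ_two]; rfl

theorem chainExp_pairChain (a b : Idx d n) (h : b ≤ a) :
    chainExp (pairChain a b h) = expOf a.1 + expOf b.1 := by
  show ∑ k : Fin 2, expOf (![a, b] k).1 = _
  rw [Fin.sum_univ_two]; rfl

theorem expOf_sup_add_inf (a b : Idx d n) :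
    expOf (W4bk4grassmannian.sup a b).1 + expOf (W4bk4grassmannian.inf a b).1 = expOf a.1 + expOf b.1 := by
  ext ⟨x, t⟩
  simp only [Finsupp.add_apply, expOf_apply]
  show (if max (a.1 t) (b.1 t) = x then 1 else 0) + (if min (a.1 t) (b.1 t) = x then 1 else 0) = _
  rcases le_total (a.1 t) (b.1 t) with h | h
  · rw [max_eq_right h, min_eq_left h, add_comm]
  · rw [max_eq_left h, min_eq_right h]

theorem inIval_full (hdn : d ≤ n) (θ : Idx d n) : InIval (botIdx hdn) (topIdx hdn) θ :=
  ⟨bot_le hdn θ, le_top hdn θ⟩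

theorem idxInf_le_sup (a b : Idx d n) : W4bk4grassmannian.inf a b ≤ W4bk4grassmannian.sup a b :=
  fun _ => min_le_max

/-- The shape of the straightening relation of a pair. -/
theorem pair_expansion (hd : 0 < d) (τ φ : Idx d n) {l : Chain d n →₀ K}
    (hl : X τ * X φ - (l.sum fun C c => c • sm K C) ∈ plIdealTop (d := d) (n := n) K) :
    l (pairChain (W4bk4grassmannian.sup τ φ) (W4bk4grassmannian.inf τ φ)
      (idxInf_le_sup τ φ)) = 1 ∧
    ∀ C : Chain d n, l C ≠ 0 → C ≠ pairChain (W4bk4grassmannian.sup τ φ) (W4bk4grassmannian.inf τ φ)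
      (idxInf_le_sup τ φ) →
      ∃ (α β : Idx d n) (h : β ≤ α), C = pairChain α β h ∧ W4bk4grassmannian.sup τ φ < α ∧
        β < W4bk4grassmannian.inf τ φ ∧ key α + key β = key τ + key φ ∧
        wt (expOf α.1 + expOf β.1) < wt (expOf τ.1 + expOf φ.1) := by
  classical
  have hdn := le_of_idx τ
  set b := botIdx (n := n) hdn
  set tp := topIdx (n := n) hdn
  have hlead : HasLead K (piv K b tp (X τ * X φ)) (expOf τ.1 + expOf φ.1) := by
    rw [map_mul, piv_X, piv_X]
    exact (hasLead_minor (inIval_full hdn τ)).mul (hasLead_minor (inIval_full hdn φ))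
  set C₀ := pairChain (W4bk4grassmannian.sup τ φ) (W4bk4grassmannian.inf τ φ) (idxInf_le_sup τ φ) with hC₀
  have he₀ : chainExp C₀ = expOf τ.1 + expOf φ.1 := by rw [hC₀, chainExp_pairChain, expOf_sup_add_inf]
  have h1 : l C₀ = 1 := coeff_eq_one_of_lead hd hl (fun k => inIval_full hdn _) (he₀ ▸ hlead)
  refine ⟨h1, fun C hC hne => ?_⟩
  have hfull : ChainIn b tp C := fun k => inIval_full hdn _
  have hhom : ∀ g : Fin n → ℕ, chainDeg g C = (∑ t, g (τ.1 t)) + ∑ t, g (φ.1 t) := by
    intro g
    refine chainDeg_eq_of_coeff hd hl ?_ hfull hC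
    rw [map_mul, piv_X, piv_X]
    exact (isWeightedHomogeneous_minor _ _ τ g).mul (isWeightedHomogeneous_minor _ _ φ g)
  obtain ⟨m, c, hc⟩ := C
  have hm : m = 2 := by
    have := hhom fun _ => 1
    simp [chainDeg] at this
    rcases Nat.lt_trichotomy m 2 with h | h | h
    · nlinarith
    · exact h
    · nlinarith
  subst hm
  have hk := hhom fun a => a.val
  simp only [chainDeg, Fin.sum_univ_two] at hk
  have hba : c 1 ≤ c 0 := hc (by decide)
  have hCeq : (⟨2, c, hc⟩ : Chain d n) = pairChain (c 0) (c 1) hba := by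
    have : c = ![c 0, c 1] := by funext k; fin_cases k <;> rfl
    simp only [pairChain]
    congr 1
    exact Subtype.ext this
  have hge : ∀ θ : Idx d n, θ = τ ∨ θ = φ → θ ≤ c 0 ∧ c 1 ≤ θ := by
    intro θ hθ
    constructor
    · by_contra hnot
      refine hC (expand_zero_of_piv_eq_zero (v := b) (w := c 0) hd hl ?_ fun k => ⟨bot_le hdn _, ?_⟩)
      · rw [map_mul]
        rcases hθ with rfl | rfl
        · rw [piv_X_eq_zero K (fun h => hnot h.2), zero_mul]
        · rw [piv_X_eq_zero K (φ := θ) (fun h => hnot h.2), mul_zero]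
      · exact hc (Fin.zero_le k)
    · by_contra hnot
      refine hC (expand_zero_of_piv_eq_zero (v := c 1) (w := tp) hd hl ?_ fun k => ⟨?_, le_top hdn _⟩)
      · rw [map_mul]
        rcases hθ with rfl | rfl
        · rw [piv_X_eq_zero K (fun h => hnot h.1), zero_mul]
        · rw [piv_X_eq_zero K (φ := θ) (fun h => hnot h.1), mul_zero]
      · exact hc (Fin.le_last k)
  have hsup : W4bk4grassmannian.sup τ φ ≤ c 0 :=
    idxSup_le_iff.2 ⟨(hge τ (Or.inl rfl)).1, (hge φ (Or.inr rfl)).1⟩
  have hinf : c 1 ≤ W4bk4grassmannian.inf τ φ :=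
    le_idxInf_iff.2 ⟨(hge τ (Or.inl rfl)).2, (hge φ (Or.inr rfl)).2⟩
  have hkey : key (c 0) + key (c 1) = key τ + key φ := hk
  have hks := key_sup_add_key_inf τ φ
  have hne' : c 0 ≠ W4bk4grassmannian.sup τ φ ∧ c 1 ≠ W4bk4grassmannian.inf τ φ := by
    constructor
    all_goals
      intro he
      apply hne
      rw [hCeq, hC₀]
    · have h2 : c 1 = W4bk4grassmannian.inf τ φ := eq_of_le_of_key hinf (by rw [he] at hkey; omega)
      simp only [he, h2]
    · have h2 : W4bk4grassmannian.sup τ φ = c 0 := eq_of_le_of_key hsup (by rw [he] at hkey; omega)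
      simp only [he, ← h2]
  refine ⟨c 0, c 1, hba, hCeq, lt_of_le_of_ne hsup hne'.1.symm, lt_of_le_of_ne hinf hne'.2, hkey, ?_⟩
  rw [← chainExp_pairChain (c 0) (c 1) hba, ← hCeq]
  refine lt_of_le_of_ne (wt_le_of_coeff hd hl hlead hfull hC) fun heq => ?_
  have hcf : coeff (chainExp (⟨2, c, hc⟩ : Chain d n)) (piv K b tp (X τ * X φ)) = l ⟨2, c, hc⟩ := by
    rw [piv_eq_of_expand b tp hl, piv_sum, coeff_sum, Finset.sum_eq_single (⟨2, c, hc⟩ : Chain d n)]
    · rw [coeff_smul, (hasLead_sm hfull).1, smul_eq_mul, mul_one]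
    · intro D hD hDC
      rw [coeff_smul, smul_eq_mul]
      by_contra hcc
      have hle := wt_le_of_coeff (v := b) (w := tp) hd hl hlead (fun k => inIval_full hdn _)
        (left_ne_zero_of_mul hcc)
      have := (hasLead_sm (K := K) (v := b) (w := tp) (C := D) fun k => inIval_full hdn _).eq_of_wt
        (right_ne_zero_of_mul hcc) (heq ▸ hle)
      exact hDC (chainExp_injective hd this.symm)
    · intro hn; exact absurd (Finsupp.mem_support_iff.2 hC) hn
  have hne0 : coeff (chainExp (⟨2, c, hc⟩ : Chain d n)) (piv K b tp (X τ * X φ)) ≠ 0 := by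
    rw [hcf]; exact hC
  have := hlead.eq_of_wt hne0 heq.ge
  exact hne (chainExp_injective hd (this.trans he₀.symm))

end Groth.Smt
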