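import Mathlib.RingTheory.MvPolynomial.Ideal
import Mathlib.RingTheory.MvPolynomial.Homogeneous
import Mathlib.Algebra.Order.Antidiag.FinsuppEquiv
import Mathlib.RingTheory.Ideal.Quotient.Operations
import Mathlib.LinearAlgebra.Dimension.Constructions
import Mathlib.Algebra.BigOperators.Finprod
import Mathlib.LinearAlgebra.Dimension.Finite
import Mathlib.Tactic

/-! The Hilbert function of the Stanley–Reisner ring of an order complex. -/

set_option autoImplicit false

universe u v

open Finset MvPolynomial

namespace Groth.Smt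

variable (K : Type u) [Field K] (L : Type v) [PartialOrder L] [Fintype L]

/-- The ideal of the skew pairs. -/
noncomputable def skewIdeal : Ideal (MvPolynomial L K) :=
  Ideal.span {f : MvPolynomial L K | ∃ a b : L, ¬ a ≤ b ∧ ¬ b ≤ a ∧
    f = MvPolynomial.X a * MvPolynomial.X b}

theorem mem_skewIdeal_iff {f : MvPolynomial L K} :
    f ∈ skewIdeal K L ↔ ∀ e ∈ f.support, ¬ IsChain (fun a b : L => a ≤ b) (e.support : Set L) := by
  classical
  have e0 : {f : MvPolynomial L K | ∃ a b : L, ¬ a ≤ b ∧ ¬ b ≤ a ∧
      f = MvPolynomial.X a * MvPolynomial.X b} = (fun s => monomial s (1 : K)) ''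
      {s | ∃ a b : L, ¬ a ≤ b ∧ ¬ b ≤ a ∧ s = Finsupp.single a 1 + Finsupp.single b 1} := by
    ext g
    simp only [Set.mem_image, Set.mem_ofPred_eq]
    constructor
    · rintro ⟨a, b, h1, h2, rfl⟩
      exact ⟨_, ⟨a, b, h1, h2, rfl⟩, by simp [X, monomial_mul]⟩
    · rintro ⟨s, ⟨a, b, h1, h2, rfl⟩, rfl⟩
      exact ⟨a, b, h1, h2, by simp [X, monomial_mul]⟩
  rw [skewIdeal, e0, mem_ideal_span_monomial_image]
  refine forall₂_congr fun e _ => ?_
  constructor
  · rintro ⟨s, ⟨a, b, h1, h2, rfl⟩, hle⟩ hchain
    have hab : a ≠ b := fun h => h1 h.le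
    have ha : a ∈ e.support := by
      have := hle a
      simp [hab] at this
      rw [Finsupp.mem_support_iff]; omega
    have hb : b ∈ e.support := by
      have := hle b
      simp [hab.symm] at this
      rw [Finsupp.mem_support_iff]; omega
    exact (hchain ha hb hab).elim h1 h2
  · intro h
    rw [IsChain, Set.Pairwise] at h
    push Not at h
    obtain ⟨a, ha, b, hb, hab, h1, h2⟩ := h
    refine ⟨_, ⟨a, b, h1, h2, rfl⟩, fun x => ?_⟩
    rw [Finset.mem_coe, Finsupp.mem_support_iff] at ha hb
    simp only [Finsupp.add_apply, Finsupp.single_apply]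
    split_ifs with hx hy <;> subst_vars <;> first | omega | exact absurd rfl hab

theorem finrank_skew (m : ℕ) (hm : 1 ≤ m) :
    Module.finrank K ((MvPolynomial.homogeneousSubmodule L K m).map
        (Ideal.Quotient.mkₐ K (skewIdeal K L)).toLinearMap) =
      ∑ᶠ C : {C : Finset L // C.Nonempty ∧ IsChain (fun a b : L => a ≤ b) (↑C : Set L)},
        Nat.choose (m - 1) (C.1.card - 1) := by
  classical
  let q := (Ideal.Quotient.mkₐ K (skewIdeal K L)).toLinearMap
  let S : Finset (L →₀ ℕ) := (Finset.univ.finsuppAntidiag m).filter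
    fun e => IsChain (fun a b : L => a ≤ b) (e.support : Set L)
  have hS : ∀ e, e ∈ S ↔ e.degree = m ∧ IsChain (fun a b : L => a ≤ b) (e.support : Set L) := fun e => by
    simp [S, Finset.mem_finsuppAntidiag, Finsupp.degree_apply]
    intro _
    rw [Finset.sum_subset (subset_univ e.support) fun x _ hx => Finsupp.notMem_support_iff.1 hx]
  let v : S → MvPolynomial L K ⧸ skewIdeal K L := fun e => q (monomial e.1 1)
  have hli : LinearIndependent K v := by
    rw [Fintype.linearIndependent_iff]
    intro g hg e
    have h0 : (∑ i : S, monomial i.1 (g i)) ∈ skewIdeal K L := by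
      rw [← Ideal.Quotient.eq_zero_iff_mem, ← Ideal.Quotient.mkₐ_eq_mk (R₁ := K), ← hg, map_sum]
      refine sum_congr rfl fun i _ => ?_
      show _ = g i • q (monomial i.1 1)
      rw [← map_smul, smul_monomial, smul_eq_mul, mul_one]
      rfl
    by_contra hne
    refine (mem_skewIdeal_iff K L).1 h0 e.1 ?_ ((hS _).1 e.2).2
    rw [mem_support_iff, coeff_sum, Finset.sum_eq_single e]
    · rwa [coeff_monomial, if_pos rfl]
    · intro i _ hi; rw [coeff_monomial, if_neg fun h => hi (Subtype.ext h)]
    · simp
  have hspan : (MvPolynomial.homogeneousSubmodule L K m).map q = Submodule.span K (Set.range v) := by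
    apply le_antisymm
    · rintro z ⟨f, hf, rfl⟩
      rw [f.as_sum, map_sum]
      refine Submodule.sum_mem _ fun e he => ?_
      by_cases hc : IsChain (fun a b : L => a ≤ b) (e.support : Set L)
      · have hdeg : e.degree = m := by
          by_contra hne
          exact (mem_support_iff.1 he) (IsHomogeneous.coeff_eq_zero
            ((mem_homogeneousSubmodule m f).1 hf) hne)
        rw [show monomial e (coeff e f) = coeff e f • monomial e (1 : K) by simp [smul_monomial], map_smul]
        exact Submodule.smul_mem _ _ (Submodule.subset_span ⟨⟨e, (hS e).2 ⟨hdeg, hc⟩⟩, rfl⟩)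
      · rw [show q (monomial e (coeff e f)) = 0 from Ideal.Quotient.eq_zero_iff_mem.2
          ((mem_skewIdeal_iff K L).2 fun x hx => by
            rwa [Finset.mem_singleton.1 (support_monomial_subset hx)])]
        exact Submodule.zero_mem _
    · rw [Submodule.span_le]
      rintro _ ⟨e, rfl⟩
      exact ⟨_, (mem_homogeneousSubmodule m _).2 (isHomogeneous_monomial 1 ((hS _).1 e.2).1), rfl⟩
  rw [show (Ideal.Quotient.mkₐ K (skewIdeal K L)).toLinearMap = q from rfl, hspan,
    finrank_span_eq_card hli, Fintype.card_coe, finsum_eq_sum_of_fintype]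
  have hdisj : S = (Finset.univ.filter fun C : Finset L =>
      C.Nonempty ∧ IsChain (fun a b : L => a ≤ b) (C : Set L)).biUnion
      fun C => S.filter fun e => e.support = C := by
    ext e
    simp only [mem_biUnion, mem_filter, mem_univ, true_and]
    refine ⟨fun he => ⟨e.support, ⟨?_, ((hS e).1 he).2⟩, he, rfl⟩, fun ⟨_, _, he, _⟩ => he⟩
    rw [nonempty_iff_ne_empty]
    intro h
    have h1 := ((hS e).1 he).1
    rw [Finsupp.degree_apply, h, sum_empty] at h1
    omega
  rw [hdisj, card_biUnion (fun C _ C' _ h => Finset.disjoint_left.2 fun e he he' =>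
    h ((mem_filter.1 he).2.symm.trans (mem_filter.1 he').2)),
    sum_subtype (p := fun C : Finset L => C.Nonempty ∧ IsChain (fun a b : L => a ≤ b) (C : Set L))
      _ (fun C => by simp)]
  refine sum_congr rfl fun C _ => ?_
  obtain ⟨C, hne, hchain⟩ := C
  dsimp only
  set one : L →₀ ℕ := Finsupp.indicator C fun _ _ => 1
  have hone : ∀ x, one x = if x ∈ C then 1 else 0 := fun x => by
    simp [one, Finsupp.indicator_apply]
  have hsupp : ∀ (e : L →₀ ℕ), (∀ x, x ∉ C → e x = 0) → e.degree = ∑ x ∈ C, e x := fun e he => by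
    rw [Finsupp.degree_apply]
    refine sum_subset (fun x hx => ?_) fun x _ hx => Finsupp.notMem_support_iff.1 hx
    by_contra h
    exact Finsupp.mem_support_iff.1 hx (he x h)
  have hpos : 0 < C.card := hne.card_pos
  by_cases hk : C.card ≤ m
  swap
  · rw [Nat.choose_eq_zero_of_lt (by omega), card_eq_zero, filter_eq_empty_iff]
    intro e he hs
    have h1 := ((hS e).1 he).1
    rw [Finsupp.degree_apply, hs] at h1
    have : C.card ≤ ∑ x ∈ C, e x := by
      rw [card_eq_sum_ones]
      exact sum_le_sum fun x hx => Nat.pos_of_ne_zero (Finsupp.mem_support_iff.1 (hs ▸ hx))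
    omega
  have himg : S.filter (fun e => e.support = C) =
      (C.finsuppAntidiag (m - C.card)).image (fun e => e + one) := by
    ext e
    simp only [mem_filter, mem_image, mem_finsuppAntidiag]
    constructor
    · rintro ⟨he, hs⟩
      have hout : ∀ x, x ∉ C → e x = 0 := fun x hx => Finsupp.notMem_support_iff.1 (hs ▸ hx)
      have hin : ∀ x ∈ C, 1 ≤ e x := fun x hx => Nat.pos_of_ne_zero (Finsupp.mem_support_iff.1 (hs ▸ hx))
      refine ⟨e - one, ⟨?_, fun x hx => ?_⟩, ?_⟩
      · have h1 := hsupp e hout
        rw [((hS e).1 he).1] at h1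
        rw [Finset.sum_congr rfl (fun x hx => show (e - one) x = e x - 1 by
          rw [Finsupp.tsub_apply, hone, if_pos hx]), Finset.sum_tsub_distrib C hin, ← h1]
        simp
      · by_contra hxC
        rw [Finsupp.mem_support_iff, Finsupp.tsub_apply, hout x hxC] at hx
        simp at hx
      · ext x
        rw [Finsupp.add_apply, Finsupp.tsub_apply, hone]
        split_ifs with hx
        · have := hin x hx; omega
        · simp
    · rintro ⟨f, ⟨hf, hfs⟩, rfl⟩
      have hout : ∀ x, x ∉ C → f x = 0 := fun x hx => Finsupp.notMem_support_iff.1 fun h => hx (hfs h)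
      have hs : (f + one).support = C := by
        ext x
        rw [Finsupp.mem_support_iff, Finsupp.add_apply, hone]
        split_ifs with hx
        · simp [hx]
        · simp [hx, hout x hx]
      refine ⟨(hS _).2 ⟨?_, by rw [hs]; exact hchain⟩, hs⟩
      rw [hsupp _ (fun x hx => by simp [hone, hx, hout x hx])]
      simp only [Finsupp.add_apply, sum_add_distrib]
      rw [hf, Finset.sum_congr rfl (fun x hx => show one x = 1 by rw [hone, if_pos hx]), ← card_eq_sum_ones]
      omega
  rw [himg, card_image_of_injective _ (add_left_injective one), card_finsuppAntidiag_nat_eq_choose]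
  rw [show C.card + (m - C.card) - 1 = m - 1 by omega]
  exact Nat.choose_symm_of_eq_add (by omega)

end Groth.Smt
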