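import Groth.Agent.Smt.Boundary
import Groth.Agent.Smt.Normalize
import Mathlib.RingTheory.Adjoin.Basic

/-! The first fundamental theorem of invariant theory for `SL_d`. -/

set_option autoImplicit false

universe u

open Finset MvPolynomial W4bk4grassmannian

namespace Groth.Smt

variable {d n : ℕ} {K : Type u}

theorem eval_rightTranslate [CommRing K] (g : Matrix.SpecialLinearGroup (Fin d) K)
    (z : Fin n × Fin d → K) (f : MatRing K d n) :
    eval z (rightTranslate K d n g f) =
      eval (fun p => ((Matrix.of fun a t => z (a, t)) * (g : Matrix (Fin d) (Fin d) K)) p.1 p.2) f := by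
  have h : (aeval z : MatRing K d n →ₐ[K] K).comp (rightTranslate K d n g) =
      aeval (fun p => ((Matrix.of fun a t => z (a, t)) * (g : Matrix (Fin d) (Fin d) K)) p.1 p.2) := by
    refine algHom_ext fun p => ?_
    simp [rightTranslate, Matrix.mul_apply]
  have h2 := DFunLike.congr_fun h f
  rwa [AlgHom.comp_apply, aeval_eq_eval, aeval_eq_eval] at h2

theorem rightTranslate_minor [CommRing K] (g : Matrix.SpecialLinearGroup (Fin d) K) (a : Fin d → Fin n) :
    rightTranslate K d n g (minor K d n a) = minor K d n a := by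
  rw [minor, AlgHom.map_det]
  have e : (rightTranslate K d n g).mapMatrix
      (Matrix.of fun s t : Fin d => (X (a s, t) : MatRing K d n)) =
      (Matrix.of fun s t : Fin d => (X (a s, t) : MatRing K d n)) *
        (g : Matrix (Fin d) (Fin d) K).map C := by
    refine Matrix.ext fun s t => ?_
    simp [rightTranslate, Matrix.mul_apply]
  rw [e, Matrix.det_mul, ← RingHom.mapMatrix_apply, ← RingHom.map_det, g.2, map_one, mul_one]

theorem pluckerMap_X [CommRing K] (θ : Idx d n) : pluckerMap K d n (X θ) = minor K d n θ.1 :=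
  aeval_X _ _

theorem eval_pluckerMap [CommRing K] (z : Fin n × Fin d → K) (P : PlRing K d n) :
    eval z (pluckerMap K d n P) = evalMinors K d n (Matrix.of fun a t => z (a, t)) P := by
  have h : (aeval z : MatRing K d n →ₐ[K] K).comp (pluckerMap K d n) =
      evalMinors K d n (Matrix.of fun a t => z (a, t)) := by
    refine algHom_ext fun θ => ?_
    rw [AlgHom.comp_apply, pluckerMap_X, aeval_eq_eval, minor, RingHom.map_det, evalMinors, aeval_X]
    congr 1
    refine Matrix.ext fun s t => ?_
    simp
  have h2 := DFunLike.congr_fun h P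
  rwa [AlgHom.comp_apply, aeval_eq_eval] at h2

variable [Field K] [Infinite K]

theorem schubertVanishing_top_le_ker (hdn : d ≤ n) :
    schubertVanishing K d n (topIdx hdn) ≤ RingHom.ker (pluckerMap K d n).toRingHom := by
  intro P hP
  simp only [schubertVanishing, Ideal.mem_iInf] at hP
  refine MvPolynomial.funext fun z => ?_
  show eval z (pluckerMap K d n P) = eval z 0
  rw [eval_pluckerMap, map_zero]
  exact hP _ fun φ hφ => absurd (le_top hdn φ) hφ

theorem minor_ne_zero (θ : Idx d n) : minor K d n θ.1 ≠ 0 := by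
  intro h
  have := congrArg (eval fun p : Fin n × Fin d => if θ.1 p.2 = p.1 then (1 : K) else 0) h
  rw [minor, RingHom.map_det, map_zero] at this
  refine one_ne_zero (α := K) (Eq.trans ?_ this)
  rw [← Matrix.det_one (n := Fin d)]
  congr 1
  refine Matrix.ext fun s t => ?_
  simp [Matrix.one_apply, θ.2.injective.eq_iff, eq_comm]

theorem exists_pow_mul_eq_of_invariant (hd : 0 < d) (hdn : d ≤ n) (f : MatRing K d n)
    (hf : ∀ g : Matrix.SpecialLinearGroup (Fin d) K, rightTranslate K d n g f = f) :
    ∃ (k : ℕ) (P : PlRing K d n),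
      pluckerMap K d n P = minor K d n (topIdx hdn).1 ^ k * f := by
  classical
  set τ := topIdx hdn with hτ
  let nm : (Fin n × Fin d → K) → Fin n × Fin d → K := fun z p =>
    evalMinors K d n (Matrix.of fun a t => z (a, t)) (coord K d n (Function.update τ.1 p.2 p.1)) *
      (if p.2 = ⟨0, hd⟩ then 1 else (eval z (minor K d n τ.1))⁻¹)
  have hpoly : ∀ h : MatRing K d n, ∃ (k : ℕ) (P : PlRing K d n), ∀ z,
      eval z (minor K d n τ.1) ≠ 0 →
        evalMinors K d n (Matrix.of fun a t => z (a, t)) P =
          eval z (minor K d n τ.1) ^ k * eval (nm z) h := by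
    intro h
    induction h using MvPolynomial.induction_on with
    | C c => exact ⟨0, C c, fun z _ => by simp [evalMinors]⟩
    | add p q hp hq =>
      obtain ⟨k, P, hP⟩ := hp
      obtain ⟨l, Q, hQ⟩ := hq
      refine ⟨k + l, X τ ^ l * P + X τ ^ k * Q, fun z hz => ?_⟩
      have e : evalMinors K d n (Matrix.of fun a t => z (a, t)) (X τ) = eval z (minor K d n τ.1) := by
        rw [← eval_pluckerMap, pluckerMap_X]
      rw [map_add, map_mul, map_mul, map_pow, map_pow, e, hP z hz, hQ z hz, map_add]
      ring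
    | mul_X p o hp =>
      obtain ⟨k, P, hP⟩ := hp
      by_cases h0 : o.2 = ⟨0, hd⟩
      · refine ⟨k, P * coord K d n (Function.update τ.1 o.2 o.1), fun z hz => ?_⟩
        rw [map_mul, hP z hz, map_mul, eval_X]
        simp only [nm, if_pos h0, mul_one]
        ring
      · refine ⟨k + 1, P * coord K d n (Function.update τ.1 o.2 o.1), fun z hz => ?_⟩
        rw [map_mul, hP z hz, map_mul, eval_X]
        simp only [nm, if_neg h0]
        field_simp
        ring
  obtain ⟨k, P, hP⟩ := hpoly f
  refine ⟨k, P, mul_left_cancel₀ (minor_ne_zero (K := K) τ) (MvPolynomial.funext fun z => ?_)⟩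
  rw [map_mul, map_mul]
  by_cases hz : eval z (minor K d n τ.1) = 0
  · rw [hz, zero_mul, zero_mul]
  congr 1
  rw [eval_pluckerMap, map_mul, map_pow, hP z hz]
  congr 1
  set A : Matrix (Fin n) (Fin d) K := Matrix.of fun a t => z (a, t) with hA
  have hδ : eval z (minor K d n τ.1) = det' A τ.1 := by
    rw [← pluckerMap_X, eval_pluckerMap, evalMinors, aeval_X]; rfl
  rw [hδ] at hz
  obtain ⟨g, hg, hgn⟩ := exists_normalize A hz
  let D : Matrix (Fin d) (Fin d) K :=
    Matrix.diagonal fun t => if t = ⟨0, hd⟩ then det' A τ.1 else 1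
  have hdet : (g * D).det = 1 := by
    rw [Matrix.det_mul, hg, Matrix.det_diagonal, Finset.prod_ite_eq', if_pos (mem_univ _),
      inv_mul_cancel₀ hz]
  have hinv := congrArg (eval z) (hf ⟨g * D, hdet⟩)
  rw [eval_rightTranslate] at hinv
  rw [← hinv]
  refine congrArg (fun v => eval v f) (funext fun p => ?_)
  show evalMinors K d n A (coord K d n (Function.update τ.1 p.2 p.1)) *
    (if p.2 = ⟨0, hd⟩ then 1 else (eval z (minor K d n τ.1))⁻¹) = (A * (g * D)) p.1 p.2
  rw [← Matrix.mul_assoc, Matrix.mul_diagonal, ← det'_update (A * g) τ hgn p.2 p.1, det'_mul, hg,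
    evalMinors_eq_aeval, aeval_coord, hδ]
  by_cases h0 : p.2 = ⟨0, hd⟩
  · rw [if_pos h0, if_pos h0]; field_simp
  · rw [if_neg h0, if_neg h0]; ring

theorem mem_range_of_top_mul_mem (hd : 0 < d) (hdn : d ≤ n) (g : MatRing K d n)
    (h : minor K d n (topIdx hdn).1 * g ∈ (pluckerMap K d n).range) :
    g ∈ (pluckerMap K d n).range := by
  classical
  obtain ⟨P, hP⟩ := h
  replace hP : pluckerMap K d n P = minor K d n (topIdx hdn).1 * g := hP
  set τ := topIdx hdn with hτ
  have hzero : ∀ A : Matrix (Fin n) (Fin d) K, det' A τ.1 = 0 → evalMinors K d n A P = 0 := by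
    intro A hA
    have e := congrArg (eval fun p : Fin n × Fin d => A p.1 p.2) hP
    rw [eval_pluckerMap, map_mul, ← pluckerMap_X, eval_pluckerMap] at e
    have hA' : (Matrix.of fun a t => A a t) = A := rfl
    simp only [hA'] at e
    rw [show evalMinors K d n A (X τ) = det' A τ.1 from aeval_X _ _, hA, zero_mul] at e
    exact e
  have hmem : P ∈ schubertVanishing K d n τ ⊔ Ideal.span {X τ} := by
    rw [sup_span_X_eq K hd hdn]
    refine ⟨?_, ?_⟩
    · show constantCoeff P = 0
      rw [constantCoeff_eq_evalMinors K hd]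
      refine hzero 0 ?_
      haveI : Nonempty (Fin d) := ⟨⟨0, hd⟩⟩
      rw [det', show ((0 : Matrix (Fin n) (Fin d) K).submatrix τ.1 id) = 0 from rfl, Matrix.det_zero]
    · rw [SetLike.mem_coe, Ideal.mem_iInf]
      intro φ
      rw [Ideal.mem_iInf]
      intro hφ
      simp only [schubertVanishing, Ideal.mem_iInf]
      intro A hA
      exact hzero A (hA τ hφ.1.not_ge)
  obtain ⟨j, hj, q, hq, hjq⟩ := Submodule.mem_sup.1 hmem
  obtain ⟨Q, rfl⟩ := Ideal.mem_span_singleton.1 hq
  refine ⟨Q, mul_left_cancel₀ (minor_ne_zero (K := K) τ) ?_⟩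
  rw [← hP, ← hjq, map_add, map_mul, pluckerMap_X]
  rw [show pluckerMap K d n j = 0 from schubertVanishing_top_le_ker hdn hj, zero_add]
  rfl

theorem invariants_eq_adjoin (hd : 0 < d) (hdn : d ≤ n) (f : MatRing K d n) :
    (∀ g : Matrix.SpecialLinearGroup (Fin d) K, rightTranslate K d n g f = f) ↔
      f ∈ Algebra.adjoin K (Set.range fun θ : Idx d n => minor K d n θ.1) := by
  have hC : Algebra.adjoin K (Set.range fun θ : Idx d n => minor K d n θ.1) =
      (pluckerMap K d n).range := Algebra.adjoin_range_eq_range_aeval K _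
  constructor
  · intro hf
    obtain ⟨k, P, hP⟩ := exists_pow_mul_eq_of_invariant hd hdn f hf
    rw [hC]
    have hmem : minor K d n (topIdx hdn).1 ^ k * f ∈ (pluckerMap K d n).range := ⟨P, hP⟩
    clear hP
    induction k with
    | zero => simpa using hmem
    | succ k ih =>
      refine ih (mem_range_of_top_mul_mem hd hdn _ ?_)
      rwa [← mul_assoc, ← pow_succ']
  · intro hf g
    induction hf using Algebra.adjoin_induction with
    | mem x hx => obtain ⟨θ, rfl⟩ := hx; exact rightTranslate_minor g θ.1
    | algebraMap r => exact (rightTranslate K d n g).commutes r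
    | add x y _ _ hx hy => rw [map_add, hx, hy]
    | mul x y _ _ hx hy => rw [map_mul, hx, hy]

end Groth.Smt
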