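import Groth.Agent.Smt.MinorOrder
import Groth.Agent.Smt.Determinantal

/-! Standard bitableaux in determinantal rings. -/

set_option autoImplicit false

universe u

open Finset MvPolynomial W4bk4grassmannian

namespace Groth.Smt

variable {d r : ℕ} (K : Type u) [Field K]

/-- Reversing the rows of the matrix. -/
noncomputable def revRows : CellRing K d r →ₐ[K] CellRing K d r :=
  rename fun p => (Fin.rev p.1, p.2)

theorem revRows_revRows (f : CellRing K d r) : revRows K (revRows K f) = f := by
  simp only [revRows, rename_rename]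
  have : ((fun p : Fin r × Fin d => (Fin.rev p.1, p.2)) ∘ fun p => (Fin.rev p.1, p.2)) = id := by
    funext p; simp
  rw [this, rename_id_apply]

theorem revRows_mem (t : ℕ) {f : CellRing K d r} (hf : f ∈ CAlgX.minorIdeal (genMatrix K r d) t) :
    revRows K f ∈ CAlgX.minorIdeal (genMatrix K r d) t := by
  have : CAlgX.minorIdeal (genMatrix K r d) t ≤
      (CAlgX.minorIdeal (genMatrix K r d) t).comap (revRows (d := d) (r := r) K).toRingHom := by
    rw [CAlgX.minorIdeal, Ideal.span_le]
    rintro F ⟨⟨a, b⟩, rfl⟩
    show revRows K _ ∈ CAlgX.minorIdeal (genMatrix K r d) t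
    refine Ideal.subset_span ⟨(fun i => Fin.rev (a i), b), ?_⟩
    rw [AlgHom.map_det]
    show Matrix.det _ = Matrix.det _
    congr 1
    refine Matrix.ext fun i j => ?_
    simp [revRows, genMatrix]
  exact this hf

theorem revRows_minorOf (M : MinorIdx r d) : ∃ e : K, e ≠ 0 ∧
    revRows K (minorOf K M) = e • toCell K d r (X (minorIndex M)) := by
  obtain ⟨k, hk⟩ := minor_eq_signed_cellMinor K M
  refine ⟨(-1) ^ k, pow_ne_zero _ (neg_ne_zero.2 one_ne_zero), ?_⟩
  rw [toCell, aeval_X, Algebra.smul_def, map_pow, map_neg, map_one, ← hk, minorOf, AlgHom.map_det]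
  congr 1
  refine Matrix.ext fun i j => ?_
  simp [revRows, genMatrix]

theorem toCell_surjective : Function.Surjective (toCell K d r) := by
  intro f
  induction f using MvPolynomial.induction_on with
  | C c => exact ⟨C c, aeval_C _ c⟩
  | add p q hp hq =>
    obtain ⟨P, hP⟩ := hp
    obtain ⟨Q, hQ⟩ := hq
    exact ⟨P + Q, by rw [map_add, hP, hQ]⟩
  | mul_X p o hp =>
    obtain ⟨P, hP⟩ := hp
    exact ⟨P * coord K d (d + r) (Function.update (botIdx (Nat.le_add_right d r)).1 o.2 (Fin.natAdd d o.1)),
      by rw [map_mul, hP, toCell_coord_update]⟩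

/-- A descending sequence of minors gives a chain of indices. -/
def minorChain {k : ℕ} (c : Fin k → MinorIdx r d) (h : ∀ i j, i < j → MinorGE (c i) (c j)) :
    Chain d (d + r) :=
  ⟨k, fun l => minorIndex (c (Fin.rev l)), fun a b hab => by
    rcases eq_or_lt_of_le hab with rfl | hlt
    · exact le_rfl
    · exact (minorIndex_le_iff _ _).2 (h _ _ (Fin.rev_lt_rev.2 hlt))⟩

theorem revRows_prod {k : ℕ} (c : Fin k → MinorIdx r d) (h : ∀ i j, i < j → MinorGE (c i) (c j)) :
    ∃ e : K, e ≠ 0 ∧ revRows K (univ.prod fun i => minorOf K (c i)) =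
      e • toCell K d r (sm K (minorChain c h)) := by
  choose e he hrev using fun i => revRows_minorOf K (c i)
  refine ⟨∏ i, e i, prod_ne_zero_iff.2 fun i _ => he i, ?_⟩
  rw [map_prod, Finset.prod_congr rfl fun i _ => hrev i]
  simp only [Algebra.smul_def]
  rw [Finset.prod_mul_distrib, ← map_prod (algebraMap K (CellRing K d r)), sm, chainMon, map_prod (toCell K d r)]
  congr 1
  exact (Fintype.prod_equiv Fin.revPerm _ _ fun i => by
    simp [minorChain, Fin.revPerm]).symm

/-- Padding a chain with the least index. -/
def padChain (C : Chain d (d + r)) (j : ℕ) : Chain d (d + r) :=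
  ⟨C.1 + j, Fin.append C.2.1 (fun _ => botIdx (Nat.le_add_right d r)), by
    intro a b hab
    induction a using Fin.addCases with
    | left a =>
      induction b using Fin.addCases with
      | left b =>
        simp only [Fin.append_left]
        exact C.2.2 (by rw [Fin.le_def] at hab ⊢; simpa using hab)
      | right b =>
        simp only [Fin.append_left, Fin.append_right]
        exact bot_le _ _
    | right a =>
      induction b using Fin.addCases with
      | left b =>
        rw [Fin.le_def] at hab
        simp at hab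
        omega
      | right b => simp only [Fin.append_right]; exact le_rfl⟩

theorem sm_padChain (C : Chain d (d + r)) (j : ℕ) :
    sm K (padChain C j) = sm K C * X (botIdx (Nat.le_add_right d r)) ^ j := by
  show (∏ l : Fin (C.1 + j), X (Fin.append C.2.1 (fun _ : Fin j => botIdx (Nat.le_add_right d r)) l) : PlRing K d (d + r)) =
    (∏ l : Fin C.1, X (C.2.1 l)) * X (botIdx (Nat.le_add_right d r)) ^ j
  rw [Fin.prod_univ_add]
  simp only [Fin.append_left, Fin.append_right]
  rw [Finset.prod_const, card_univ, Fintype.card_fin]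

theorem card_filter_append {α : Type} [DecidableEq α] {k j : ℕ} (c : Fin k → α) (b : α)
    (hc : ∀ l, c l ≠ b) :
    (univ.filter fun l : Fin (k + j) => Fin.append c (fun _ => b) l ≠ b).card = k := by
  have : (univ.filter fun l : Fin (k + j) => Fin.append c (fun _ => b) l ≠ b) =
      univ.map (Fin.castAddEmb j) := by
    ext l
    simp only [mem_filter, mem_univ, true_and, mem_map]
    induction l using Fin.addCases with
    | left l => simp [hc]
    | right l =>
      simp only [Fin.append_right, ne_eq, not_true_eq_false, false_iff, not_exists]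
      intro x h
      have := congrArg Fin.val h
      simp at this
      omega
  rw [this, card_map, card_univ, Fintype.card_fin]

theorem padChain_inj {C C' : Chain d (d + r)} {j j' : ℕ}
    (hC : ∀ l, C.2.1 l ≠ botIdx (Nat.le_add_right d r))
    (hC' : ∀ l, C'.2.1 l ≠ botIdx (Nat.le_add_right d r)) (h : padChain C j = padChain C' j') :
    C = C' := by
  classical
  have hcard : ∀ (D : Chain d (d + r)) (i : ℕ), (∀ l, D.2.1 l ≠ botIdx (Nat.le_add_right d r)) →
      (univ.filter fun l => (padChain D i).2.1 l ≠ botIdx (Nat.le_add_right d r)).card = D.1 :=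
    fun D i hD => card_filter_append D.2.1 _ hD
  have h1 := hcard C j hC
  rw [h, hcard C' j' hC'] at h1
  obtain ⟨k, c, hc⟩ := C
  obtain ⟨k', c', hc'⟩ := C'
  simp only at h1
  subst h1
  obtain rfl : j = j' := by
    have := congrArg Sigma.fst h
    simp [padChain] at this
    omega
  have h2 := congrArg Subtype.val (eq_of_heq (Sigma.mk.inj_iff.1 h).2)
  have : c = c' := funext fun l => by simpa using congrFun h2 (Fin.castAdd j l)
  subst this
  rfl

variable [Infinite K] {t : ℕ} {φ : Idx d (d + r)}
  (hI : CAlgX.minorIdeal (genMatrix K r d) t =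
    Ideal.span {f | ∃ θ : Idx d (d + r), ¬ θ ≤ φ ∧ f = toCell K d r (X θ)})
  (hφ : ∀ M : MinorIdx r d, minorIndex M ≤ φ ↔ M.1 + 1 ≤ t - 1)

include hI hφ in
theorem bitableaux_basis (hd : 0 < d) :
    LinearIndependent K (fun c : (Σ k : ℕ, {c : Fin k → MinorIdx r d //
        (∀ i, (c i).1 + 1 ≤ t - 1) ∧ ∀ i j, i < j → MinorGE (c i) (c j)}) =>
        Ideal.Quotient.mk (CAlgX.minorIdeal (genMatrix K r d) t)
          (Finset.univ.prod fun i => minorOf K (c.2.1 i))) ∧
      Submodule.span K (Set.range fun c : (Σ k : ℕ, {c : Fin k → MinorIdx r d //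
        (∀ i, (c i).1 + 1 ≤ t - 1) ∧ ∀ i j, i < j → MinorGE (c i) (c j)}) =>
        Ideal.Quotient.mk (CAlgX.minorIdeal (genMatrix K r d) t)
          (Finset.univ.prod fun i => minorOf K (c.2.1 i))) = ⊤ := by
  classical
  have hdn := Nat.le_add_right d r
  set ι := botIdx hdn
  set It := CAlgX.minorIdeal (genMatrix K r d) t with hIt
  constructor
  · rw [linearIndependent_iff']
    intro s g hg c₀ hc₀
    choose e he hrev using fun c : (Σ k : ℕ, {c : Fin k → MinorIdx r d //
        (∀ i, (c i).1 + 1 ≤ t - 1) ∧ ∀ i j, i < j → MinorGE (c i) (c j)}) =>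
      revRows_prod K c.2.1 c.2.2.2
    let ch : (Σ k : ℕ, {c : Fin k → MinorIdx r d //
        (∀ i, (c i).1 + 1 ≤ t - 1) ∧ ∀ i j, i < j → MinorGE (c i) (c j)}) → Chain d (d + r) :=
      fun c => minorChain c.2.1 c.2.2.2
    obtain ⟨N, hN⟩ : ∃ N, ∀ c ∈ s, c.1 ≤ N := ⟨s.sup Sigma.fst, fun c hc => Finset.le_sup hc⟩
    let pc : (Σ k : ℕ, {c : Fin k → MinorIdx r d //
        (∀ i, (c i).1 + 1 ≤ t - 1) ∧ ∀ i j, i < j → MinorGE (c i) (c j)}) → Chain d (d + r) :=
      fun c => padChain (ch c) (N - c.1)
    have hpcinj : ∀ c c', pc c = pc c' → c = c' := by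
      rintro ⟨k, c, hc⟩ ⟨k', c', hc'⟩ h
      have h1 := padChain_inj (fun l => minorIndex_ne_bot _) (fun l => minorIndex_ne_bot _) h
      obtain ⟨hk, h2⟩ := Sigma.mk.inj_iff.1 h1
      subst hk
      have h3 := congrArg Subtype.val (eq_of_heq h2)
      obtain rfl : c = c' := funext fun i => by
        have := congrFun h3 (Fin.rev i)
        simp only [minorChain, Fin.rev_rev] at this
        exact minorIndex_injective this
      rfl
    let L : Chain d (d + r) →₀ K := ∑ c ∈ s, Finsupp.single (pc c) (g c * e c)
    set P : PlRing K d (d + r) := L.sum fun D c => c • sm K D with hP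
    have hP' : P = ∑ c ∈ s, (g c * e c) • sm K (pc c) := by
      simp only [hP, L]
      rw [← Finsupp.sum_finsetSum_index (h := fun D (c : K) => c • sm K D) (fun _ => zero_smul K _)
        (fun _ _ _ => add_smul _ _ _)]
      exact sum_congr rfl fun c _ =>
        Finsupp.sum_single_index (h := fun D (c : K) => c • sm K D) (zero_smul K _)
    have hPI : toCell K d r P ∈ It := by
      have h0 : (∑ c ∈ s, g c • (univ.prod fun i => minorOf K (c.2.1 i))) ∈ It := by
        rw [← Ideal.Quotient.eq_zero_iff_mem, map_sum, ← hg]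
        exact sum_congr rfl fun c _ => map_smul (Ideal.Quotient.mkₐ K It) _ _
      convert revRows_mem K t h0 using 1
      rw [hP', map_sum, map_sum]
      refine sum_congr rfl fun c _ => ?_
      rw [map_smul, map_smul, hrev c, smul_smul]
      congr 1
      rw [sm_padChain, map_mul, map_pow, toCell_X_bot, one_pow, mul_one]
    have hscale : ∀ (A : Matrix (Fin (d + r)) (Fin d) K), det' A ι.1 ≠ 0 →
        ∀ θ : Idx d (d + r), evalMinors K d (d + r) A (X θ) = det' A ι.1 *
          eval (fun p : Fin r × Fin d => det' A (Function.update ι.1 p.2 (Fin.natAdd d p.1)) *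
            (det' A ι.1)⁻¹) (toCell K d r (X θ)) := by
      intro A hι θ
      obtain ⟨γ, hγ, hM⟩ := exists_normalize A hι
      have hcell : (cellMatrix K d r).map (eval (fun p : Fin r × Fin d =>
          det' A (Function.update ι.1 p.2 (Fin.natAdd d p.1)) * (det' A ι.1)⁻¹)) = A * γ := by
        refine Matrix.ext fun a j => ?_
        rw [Matrix.map_apply]
        by_cases ha : a.val < d
        · have ea : a = ι.1 ⟨a.val, ha⟩ := Fin.ext rfl
          have := congrFun (congrFun hM ⟨a.val, ha⟩) j
          rw [Matrix.submatrix_apply, id, ← ea] at this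
          rw [this, cellMatrix, Matrix.of_apply, dif_pos ha, Matrix.one_apply]
          simp only [Fin.ext_iff]
          split <;> simp
        · push Not at ha
          rw [cellMatrix_apply_of_le K d r a ha, genMatrix, Matrix.of_apply, eval_X,
            ← det'_update (A * γ) ι hM j a, det'_mul, hγ]
          rw [show Fin.natAdd d ⟨a.val - d, by omega⟩ = a from Fin.ext (by simp; omega)]
      have h2 : eval (fun p : Fin r × Fin d => det' A (Function.update ι.1 p.2 (Fin.natAdd d p.1)) *
          (det' A ι.1)⁻¹) (toCell K d r (X θ)) = det' A θ.1 * (det' A ι.1)⁻¹ := by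
        have h5 := det'_mul A γ θ.1
        rw [hγ] at h5
        rw [toCell, aeval_X, ← h5, ← hcell]
        unfold det'
        rw [RingHom.map_det]
        rfl
      rw [h2, show evalMinors K d (d + r) A (X θ) = det' A θ.1 from aeval_X _ _]
      field_simp
    have hPJ : P ∈ schubertVanishing K d (d + r) φ := by
      refine ((schubertVanishing_isPrime K hd hdn φ).mem_or_mem (x := X ι) (y := P) ?_).resolve_left
        (X_notMem_schubertVanishing hdn hd (bot_le hdn φ))
      simp only [schubertVanishing, Ideal.mem_iInf]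
      intro A hA
      show evalMinors K d (d + r) A (X ι * P) = 0
      rw [map_mul, show evalMinors K d (d + r) A (X ι) = det' A ι.1 from aeval_X _ _]
      by_cases hι : det' A ι.1 = 0
      · rw [hι, zero_mul]
      set z := fun p : Fin r × Fin d =>
        det' A (Function.update ι.1 p.2 (Fin.natAdd d p.1)) * (det' A ι.1)⁻¹ with hz
      have hIz : It ≤ RingHom.ker (eval z) := by
        rw [hI, Ideal.span_le]
        rintro F ⟨θ, hθ, rfl⟩
        show eval z _ = 0
        have h3 := hscale A hι θ
        rw [show evalMinors K d (d + r) A (X θ) = det' A θ.1 from aeval_X _ _,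
          show det' A θ.1 = 0 from hA θ hθ] at h3
        exact (mul_eq_zero.1 h3.symm).resolve_left hι
      have hterm : evalMinors K d (d + r) A P = det' A ι.1 ^ N * eval z (toCell K d r P) := by
        rw [hP', map_sum, map_sum, map_sum, mul_sum]
        refine sum_congr rfl fun c hc => ?_
        rw [map_smul, map_smul, smul_eval, smul_eq_mul, mul_left_comm]
        congr 1
        rw [sm, chainMon, map_prod, map_prod, map_prod, prod_congr rfl fun l _ => hscale A hι _,
          prod_mul_distrib, prod_const, card_univ, Fintype.card_fin]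
        congr 2
        show c.1 + (N - c.1) = N
        have := hN c hc
        omega
      rw [hterm, show eval z (toCell K d r P) = 0 from hIz hPI, mul_zero, mul_zero]
    have hcoef := coeff_eq_zero_of_mem K hd hdn L hPJ (C := pc c₀) (fun l => by
      show Fin.append (ch c₀).2.1 _ l ≤ φ
      induction l using Fin.addCases with
      | left l =>
        rw [Fin.append_left]
        exact (hφ _).2 (c₀.2.2.1 _)
      | right l =>
        rw [Fin.append_right]
        exact bot_le hdn φ)
    simp only [L] at hcoef
    rw [Finsupp.finsetSum_apply, Finset.sum_eq_single c₀] at hcoef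
    · rw [Finsupp.single_eq_same] at hcoef
      exact (mul_eq_zero.1 hcoef).resolve_right (he c₀)
    · intro c _ hne
      rw [Finsupp.single_eq_of_ne]
      exact fun h => hne (hpcinj _ _ h).symm
    · exact fun h => absurd hc₀ h
  · refine top_le_iff.1 fun z _ => ?_
    obtain ⟨f, rfl⟩ := Ideal.Quotient.mk_surjective z
    obtain ⟨P, hP⟩ := toCell_surjective K (revRows K f)
    obtain ⟨l, hl⟩ := exists_expand K P
    have hrel : toCell K d r (P - l.sum fun C c => c • sm K C) = 0 := by
      have : plIdealTop (d := d) (n := d + r) K ≤ RingHom.ker (toCell K d r).toRingHom := by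
        refine Ideal.span_le.2 ?_
        rintro f ⟨i, j, s, -, rfl⟩
        exact aeval_shuffleRel _ i j s
      exact this hl
    rw [map_sub, sub_eq_zero, hP] at hrel
    have hf : f = l.sum fun C c => c • revRows K (toCell K d r (sm K C)) := by
      rw [← revRows_revRows K f, hrel, map_finsuppSum, map_finsuppSum]
      exact Finsupp.sum_congr fun C _ => by rw [map_smul, map_smul]
    rw [hf, map_finsuppSum]
    refine Submodule.sum_mem _ fun C _ => ?_
    rw [← Ideal.Quotient.mkₐ_eq_mk (R₁ := K)]
    dsimp only
    rw [map_smul]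
    refine Submodule.smul_mem _ _ ?_
    rw [Ideal.Quotient.mkₐ_eq_mk]
    by_cases hC : ∀ l, C.2.1 l ≤ φ
    · set S := univ.filter fun l => C.2.1 l ≠ ι with hS
      let ord := S.orderEmbOfFin rfl
      have hne : ∀ l, C.2.1 (ord l) ≠ ι := fun l => (mem_filter.1 (Finset.orderEmbOfFin_mem S rfl l)).2
      choose M hM using fun l => exists_minorIndex_eq (C.2.1 (ord l)) (hne l)
      have hsize : ∀ l, (M (Fin.rev l)).1 + 1 ≤ t - 1 := fun l => (hφ _).1 (by rw [hM]; exact hC _)
      have hchain : ∀ i j, i < j → MinorGE (M (Fin.rev i)) (M (Fin.rev j)) := fun i j hij => by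
        rw [← minorIndex_le_iff, hM, hM]
        exact C.2.2 (ord.monotone (Fin.rev_le_rev.2 hij.le))
      obtain ⟨e, he, hrev⟩ := revRows_prod K (fun i => M (Fin.rev i)) hchain
      have hsm : toCell K d r (sm K C) = toCell K d r (sm K (minorChain (fun i => M (Fin.rev i)) hchain)) := by
        rw [sm, chainMon, sm, chainMon, map_prod, map_prod,
          ← prod_filter_mul_prod_filter_not univ (fun l => C.2.1 l ≠ ι),
          prod_eq_one (s := univ.filter fun l => ¬ C.2.1 l ≠ ι) (fun l hl => by
            rw [mem_filter, not_not] at hl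
            rw [hl.2]
            exact toCell_X_bot K), mul_one]
        show ∏ l ∈ S, _ = _
        conv_lhs => rw [← Finset.map_orderEmbOfFin_univ S rfl, Finset.prod_map]
        refine prod_congr rfl fun l _ => ?_
        simp only [minorChain, Fin.rev_rev, hM]
        rfl
      have : revRows K (toCell K d r (sm K C)) = e⁻¹ • univ.prod fun i => minorOf K (M (Fin.rev i)) := by
        rw [hsm]
        have h4 := congrArg (revRows K) hrev
        rw [revRows_revRows, map_smul] at h4
        rw [h4, smul_smul, inv_mul_cancel₀ he, one_smul]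
      rw [this, ← Ideal.Quotient.mkₐ_eq_mk (R₁ := K), map_smul]
      exact Submodule.smul_mem _ _ (Submodule.subset_span ⟨⟨_, fun i => M (Fin.rev i), hsize, hchain⟩, rfl⟩)
    · rw [not_forall] at hC
      obtain ⟨l₀, hl₀⟩ := hC
      rw [Ideal.Quotient.eq_zero_iff_mem.2]
      · exact Submodule.zero_mem _
      refine revRows_mem K t ?_
      rw [sm, chainMon, map_prod, ← mul_prod_erase _ _ (mem_univ l₀)]
      refine Ideal.mul_mem_right _ _ ?_
      show toCell K d r (X (C.2.1 l₀)) ∈ It
      rw [hI]
      exact Ideal.subset_span ⟨_, hl₀, rfl⟩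

theorem bitableaux_basis' (hd : 0 < d) (hr : 0 < r) (ht : 1 ≤ t) (htm : t ≤ min r d + 1) :
    LinearIndependent K (fun c : (Σ k : ℕ, {c : Fin k → MinorIdx r d //
        (∀ i, (c i).1 + 1 ≤ t - 1) ∧ ∀ i j, i < j → MinorGE (c i) (c j)}) =>
        Ideal.Quotient.mk (CAlgX.minorIdeal (genMatrix K r d) t)
          (Finset.univ.prod fun i => minorOf K (c.2.1 i))) ∧
      Submodule.span K (Set.range fun c : (Σ k : ℕ, {c : Fin k → MinorIdx r d //
        (∀ i, (c i).1 + 1 ≤ t - 1) ∧ ∀ i j, i < j → MinorGE (c i) (c j)}) =>
        Ideal.Quotient.mk (CAlgX.minorIdeal (genMatrix K r d) t)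
          (Finset.univ.prod fun i => minorOf K (c.2.1 i))) = ⊤ := by
  classical
  by_cases h : t ≤ d ∧ t ≤ r
  · obtain ⟨htd, htr⟩ := h
    refine bitableaux_basis K (φ := detIdx ht htd htr) ?_ (fun M => ?_) hd
    · rw [minorIdeal_eq_span K ht htd htr]
      congr 1
      ext f
      constructor <;> rintro ⟨θ, hθ, rfl⟩ <;> exact ⟨θ, hθ, by simp [toCell]⟩
    · rw [le_detIdx_iff hd ht htd htr]
      have h1 := cnt_minorIndex_low M (x := d) le_rfl
      rw [cnt_of_ge M.2.2.1 le_rfl] at h1
      constructor
      · intro h2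
        have : d - t + 1 ≤ cnt (minorIndex M).1 d := by
          calc d - t + 1 = (Finset.Iic (⟨d - t, Nat.sub_lt hd ht⟩ : Fin d)).card := by rw [Fin.card_Iic]
            _ ≤ _ := card_le_card fun i hi => mem_filter.2 ⟨mem_univ _,
                lt_of_le_of_lt (Fin.le_def.1 ((minorIndex M).2.monotone (mem_Iic.1 hi))) h2⟩
        omega
      · intro h2
        by_contra h3
        push Not at h3
        have : cnt (minorIndex M).1 d ≤ d - t := by
          have := card_le_card (show (univ.filter fun i => ((minorIndex M).1 i).val < d) ⊆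
              Finset.Iio (⟨d - t, Nat.sub_lt hd ht⟩ : Fin d) from fun i hi => by
            rw [mem_Iio]
            by_contra hle
            have h4 := Fin.le_def.1 ((minorIndex M).2.monotone (not_lt.1 hle))
            have h5 := (mem_filter.1 hi).2
            omega)
          rwa [Fin.card_Iio] at this
        omega
  · have hempty : ∀ θ : Idx d (d + r), θ ≤ topIdx (Nat.le_add_right d r) := fun θ => le_top _ θ
    refine bitableaux_basis K (φ := topIdx (Nat.le_add_right d r)) ?_ (fun M => ?_) hd
    · have e1 : {f : CellRing K d r | ∃ θ : Idx d (d + r),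
          ¬ θ ≤ topIdx (Nat.le_add_right d r) ∧ f = toCell K d r (X θ)} = ∅ :=
        Set.eq_empty_iff_forall_notMem.2 fun f ⟨θ, hθ, _⟩ => hθ (hempty θ)
      rw [e1, Ideal.span_empty, CAlgX.minorIdeal, Ideal.span_eq_bot]
      rintro F ⟨⟨a, b⟩, rfl⟩
      rcases not_and_or.1 h with h | h
      · obtain ⟨x, y, hne, hxy⟩ := Fintype.exists_ne_map_eq_of_card_lt b (by simp; omega)
        exact Matrix.det_zero_of_column_eq hne fun j => by simp [hxy]
      · obtain ⟨x, y, hne, hxy⟩ := Fintype.exists_ne_map_eq_of_card_lt a (by simp; omega)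
        exact Matrix.det_zero_of_row_eq hne (by funext j; simp [hxy])
    · have := size_le M
      exact iff_of_true (hempty _) (by omega)

end Groth.Smt
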