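import Groth.Agent.Smt.SftGL
import Groth.Agent.Smt.Quadrics

/-! The first fundamental theorem of invariant theory for `GL_n`. -/

set_option autoImplicit false

universe u

open Finset MvPolynomial W4bk4grassmannian

namespace Groth.Smt

variable {m n q : ℕ} (K : Type u) [Field K]

/-- The last `n` rows. -/
def rowsS (hm : n ≤ m) (i : Fin n) : Fin m := ⟨m - n + i.val, by omega⟩

theorem glTranslate_pairingMap (A : GL (Fin n) K) (h : MvPolynomial (Fin m × Fin q) K) :
    glTranslate K n m q A (pairingMap K n m q h) = pairingMap K n m q h := by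
  let U : Matrix (Fin m) (Fin n) (PairRing K n m q) := Matrix.of fun i k => X (Sum.inl (i, k))
  let W : Matrix (Fin n) (Fin q) (PairRing K n m q) := Matrix.of fun k j => X (Sum.inr (k, j))
  let B : Matrix (Fin n) (Fin n) (PairRing K n m q) :=
    ((A⁻¹ : GL (Fin n) K) : Matrix (Fin n) (Fin n) K).map C
  let B' : Matrix (Fin n) (Fin n) (PairRing K n m q) := (A : Matrix (Fin n) (Fin n) K).map C
  have hBB : B * B' = 1 := by
    show ((A⁻¹ : GL (Fin n) K) : Matrix (Fin n) (Fin n) K).map C *
      (A : Matrix (Fin n) (Fin n) K).map C = 1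
    rw [← Matrix.map_mul, ← Units.val_mul, inv_mul_cancel, Units.val_one, Matrix.map_one]
    · exact map_zero C
    · exact map_one C
  have key : (glTranslate K n m q A).comp (pairingMap K n m q) = pairingMap K n m q := by
    refine algHom_ext fun p => ?_
    have e : ((U * B) * (B' * W)) p.1 p.2 = (U * W) p.1 p.2 := by
      rw [Matrix.mul_assoc, ← Matrix.mul_assoc B, hBB, Matrix.one_mul]
    have h1 : pairingMap K n m q (X p) = (U * W) p.1 p.2 := by
      simp [pairingMap, Matrix.mul_apply, U, W]
    rw [AlgHom.comp_apply, h1]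
    conv_rhs => rw [← e]
    simp [glTranslate, Matrix.mul_apply, U, W, B, B']
  exact DFunLike.congr_fun key h

theorem eval_glTranslate (A : GL (Fin n) K) (z : (Fin m × Fin n) ⊕ (Fin n × Fin q) → K)
    (f : PairRing K n m q) :
    eval z (glTranslate K n m q A f) = eval (Sum.elim
      (fun p : Fin m × Fin n => ((Matrix.of fun i k => z (Sum.inl (i, k))) *
        ((A⁻¹ : GL (Fin n) K) : Matrix (Fin n) (Fin n) K)) p.1 p.2)
      (fun p : Fin n × Fin q => ((A : Matrix (Fin n) (Fin n) K) *
        Matrix.of fun k j => z (Sum.inr (k, j))) p.1 p.2)) f := by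
  have h : (aeval z : PairRing K n m q →ₐ[K] K).comp (glTranslate K n m q A) =
      aeval (Sum.elim
        (fun p : Fin m × Fin n => ((Matrix.of fun i k => z (Sum.inl (i, k))) *
          ((A⁻¹ : GL (Fin n) K) : Matrix (Fin n) (Fin n) K)) p.1 p.2)
        (fun p : Fin n × Fin q => ((A : Matrix (Fin n) (Fin n) K) *
          Matrix.of fun k j => z (Sum.inr (k, j))) p.1 p.2)) := by
    refine algHom_ext fun p => ?_
    rcases p with p | p <;> simp [glTranslate, Matrix.mul_apply]
  have h2 := DFunLike.congr_fun h f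
  rwa [AlgHom.comp_apply, aeval_eq_eval, aeval_eq_eval] at h2

theorem eval_pairingMap (z : (Fin m × Fin n) ⊕ (Fin n × Fin q) → K)
    (h : MvPolynomial (Fin m × Fin q) K) :
    eval z (pairingMap K n m q h) = eval (fun p : Fin m × Fin q =>
      ((Matrix.of fun i k => z (Sum.inl (i, k))) * Matrix.of fun k j => z (Sum.inr (k, j))) p.1 p.2) h := by
  have e : (aeval z : PairRing K n m q →ₐ[K] K).comp (pairingMap K n m q) =
      aeval (fun p : Fin m × Fin q =>
        ((Matrix.of fun i k => z (Sum.inl (i, k))) * Matrix.of fun k j => z (Sum.inr (k, j))) p.1 p.2) := by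
    refine algHom_ext fun p => ?_
    simp [pairingMap, Matrix.mul_apply]
  have h2 := DFunLike.congr_fun e h
  rwa [AlgHom.comp_apply, aeval_eq_eval, aeval_eq_eval] at h2

variable (hm : n < m) (hq : n < q)

/-- The minor on the last `n` rows and the first `n` columns. -/
noncomputable def dY : MvPolynomial (Fin m × Fin q) K :=
  ((genMatrix K m q).submatrix (rowsS hm.le) (Fin.castLE hq.le)).det

theorem eval_dY (y : Fin m × Fin q → K) :
    eval y (dY K hm hq) = ((Matrix.of fun i j => y (i, j)).submatrix (rowsS hm.le) (Fin.castLE hq.le)).det := by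
  rw [dY, RingHom.map_det]
  congr 1
  refine Matrix.ext fun i j => ?_
  simp [genMatrix]

theorem pairingMap_dY_ne_zero : pairingMap K n m q (dY K hm hq) ≠ 0 := by
  classical
  intro h
  have := congrArg (eval (Sum.elim (fun p : Fin m × Fin n => if p.1 = rowsS hm.le p.2 then (1 : K) else 0)
    (fun p : Fin n × Fin q => if p.2 = Fin.castLE hq.le p.1 then (1 : K) else 0))) h
  rw [eval_pairingMap, map_zero, eval_dY] at this
  refine one_ne_zero (α := K) (Eq.trans ?_ this)
  rw [← Matrix.det_one (n := Fin n)]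
  congr 1
  refine Matrix.ext fun i j => ?_
  have hinj : Function.Injective (rowsS (m := m) hm.le) := fun a b hab => by
    simp only [rowsS, Fin.mk.injEq] at hab
    exact Fin.ext (by omega)
  simp [Matrix.mul_apply, Matrix.one_apply, hinj.eq_iff, (Fin.castLE_injective hq.le).eq_iff, eq_comm]

theorem exists_dY_eq_toCell :
    ∃ (k : ℕ), dY K hm hq = (-1) ^ k * toCell K q m (X (detIdx (Nat.succ_pos n) hq hm)) := by
  classical
  obtain ⟨a, hdet, hmem⟩ := exists_tuple_minor K q m n (rowsS hm.le) (Fin.castLE hq.le)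
    (Fin.castLE_injective _)
  have himg : univ.image a = univ.image (detIdx (Nat.succ_pos n) hq hm).1 := by
    ext x
    rw [hmem, mem_image]
    constructor
    · rintro (⟨i, rfl⟩ | ⟨c, hc, rfl⟩)
      · refine ⟨⟨q - n + i.val, by omega⟩, mem_univ _, Fin.ext ?_⟩
        simp only [detIdx, rowsS, Fin.val_natAdd]
        rw [if_neg (by omega)]
        simp only
        omega
      · have hcn : n ≤ c.val := by
          by_contra h
          exact hc ⟨⟨c.val, by omega⟩, Fin.ext rfl⟩
        refine ⟨⟨c.val - n, by omega⟩, mem_univ _, Fin.ext ?_⟩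
        simp only [detIdx, Fin.val_castAdd]
        rw [if_pos (by omega)]
        simp only
        omega
    · rintro ⟨s, -, rfl⟩
      simp only [detIdx]
      split_ifs with hs
      · refine Or.inr ⟨⟨n + s.val, by omega⟩, ?_, Fin.ext (by simp)⟩
        rintro ⟨i, hi⟩
        have := congrArg Fin.val hi
        simp at this
        omega
      · refine Or.inl ⟨⟨s.val - (q - n), by omega⟩, Fin.ext ?_⟩
        simp only [rowsS, Fin.val_natAdd]
        omega
  have hc : (univ.image a).card = q := by
    rw [himg, card_image_of_injective _ (detIdx _ _ _).2.injective, card_univ, Fintype.card_fin]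
  refine ⟨invCount q (q + m) a, ?_⟩
  rw [dY, ← hdet, det'_eq_coord, dif_pos hc,
    idx_ext_image (θ := sortIdx q (q + m) a hc) ((image_sortIdx a hc).trans himg), toCell, aeval_X]

variable [Infinite K]

theorem exists_pow_mul_eq_of_glInvariant (f : PairRing K n m q)
    (hf : ∀ A : GL (Fin n) K, glTranslate K n m q A f = f) :
    ∃ (k : ℕ) (h : MvPolynomial (Fin m × Fin q) K),
      pairingMap K n m q h = pairingMap K n m q (dY K hm hq) ^ k * f := by
  classical
  let adjm : (Fin m × Fin q → K) → Matrix (Fin n) (Fin n) K := fun y =>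
    ((Matrix.of fun i j => y (i, j)).submatrix (rowsS hm.le) (Fin.castLE hq.le)).adjugate
  let tgt : (Fin m × Fin q → K) → (Fin m × Fin n) ⊕ (Fin n × Fin q) → K := fun y =>
    Sum.elim (fun p : Fin m × Fin n => (∑ l, y (p.1, Fin.castLE hq.le l) * adjm y l p.2) *
        (eval y (dY K hm hq))⁻¹)
      (fun p : Fin n × Fin q => y (rowsS hm.le p.1, p.2))
  have hadj : ∀ (i : Fin m) (k : Fin n), ∃ P : MvPolynomial (Fin m × Fin q) K, ∀ y,
      eval y P = ∑ l, y (i, Fin.castLE hq.le l) * adjm y l k := by
    intro i k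
    refine ⟨∑ l, X (i, Fin.castLE hq.le l) *
      ((genMatrix K m q).submatrix (rowsS hm.le) (Fin.castLE hq.le)).adjugate l k, fun y => ?_⟩
    rw [map_sum]
    refine sum_congr rfl fun l _ => ?_
    rw [map_mul, eval_X]
    congr 1
    have := RingHom.map_adjugate (eval y) ((genMatrix K m q).submatrix (rowsS hm.le) (Fin.castLE hq.le))
    have h2 := congrFun (congrFun this l) k
    rw [RingHom.mapMatrix_apply, Matrix.map_apply] at h2
    rw [h2]
    simp only [adjm]
    refine congrArg (fun M : Matrix (Fin n) (Fin n) K => M.adjugate l k) (Matrix.ext fun a b => ?_)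
    simp [genMatrix]
  have hpoly : ∀ g : PairRing K n m q, ∃ (k : ℕ) (h : MvPolynomial (Fin m × Fin q) K), ∀ y,
      eval y (dY K hm hq) ≠ 0 → eval y h = eval y (dY K hm hq) ^ k * eval (tgt y) g := by
    intro g
    induction g using MvPolynomial.induction_on with
    | C c => exact ⟨0, C c, fun y _ => by simp⟩
    | add p r hp hr =>
      obtain ⟨k, h, hh⟩ := hp
      obtain ⟨l, h', hh'⟩ := hr
      refine ⟨k + l, dY K hm hq ^ l * h + dY K hm hq ^ k * h', fun y hy => ?_⟩
      rw [map_add, map_mul, map_mul, map_pow, map_pow, hh y hy, hh' y hy, map_add]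
      ring
    | mul_X p o hp =>
      obtain ⟨k, h, hh⟩ := hp
      rcases o with ⟨i, a⟩ | ⟨a, j⟩
      · obtain ⟨P, hP⟩ := hadj i a
        refine ⟨k + 1, h * P, fun y hy => ?_⟩
        rw [map_mul, hh y hy, hP, map_mul, eval_X]
        simp only [tgt, Sum.elim_inl]
        field_simp
        ring
      · refine ⟨k, h * X (rowsS hm.le a, j), fun y hy => ?_⟩
        rw [map_mul, hh y hy, map_mul, eval_X, eval_X]
        simp only [tgt, Sum.elim_inr]
        ring
  obtain ⟨k, h, hh⟩ := hpoly f
  refine ⟨k, h, mul_left_cancel₀ (pairingMap_dY_ne_zero K hm hq) (MvPolynomial.funext fun z => ?_)⟩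
  rw [map_mul, map_mul]
  by_cases hz : eval z (pairingMap K n m q (dY K hm hq)) = 0
  · rw [hz, zero_mul, zero_mul]
  congr 1
  rw [map_mul, map_pow, eval_pairingMap, eval_pairingMap]
  rw [eval_pairingMap] at hz
  set U : Matrix (Fin m) (Fin n) K := Matrix.of fun i k => z (Sum.inl (i, k)) with hU
  set W : Matrix (Fin n) (Fin q) K := Matrix.of fun k j => z (Sum.inr (k, j)) with hW
  set y : Fin m × Fin q → K := fun p => (U * W) p.1 p.2 with hy
  rw [hh y hz]
  congr 1
  rw [eval_dY] at hz
  have hsub : (Matrix.of fun i j => y (i, j)).submatrix (rowsS hm.le) (Fin.castLE hq.le) =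
      U.submatrix (rowsS hm.le) id * W.submatrix id (Fin.castLE hq.le) := by
    refine Matrix.ext fun a b => ?_
    simp [y, Matrix.mul_apply]
  rw [hsub, Matrix.det_mul] at hz
  have hU0 : IsUnit (U.submatrix (rowsS hm.le) id).det := isUnit_iff_ne_zero.2 (left_ne_zero_of_mul hz)
  have hW0 : IsUnit (W.submatrix id (Fin.castLE hq.le)).det := isUnit_iff_ne_zero.2 (right_ne_zero_of_mul hz)
  have hinv := congrArg (eval z) (hf (Matrix.GeneralLinearGroup.mk'' _ hU0))
  rw [eval_glTranslate] at hinv
  rw [← hinv]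
  refine congrArg (fun v => eval v f) (funext fun p => ?_)
  rcases p with ⟨i, a⟩ | ⟨a, j⟩
  · simp only [tgt, Sum.elim_inl, Matrix.coe_units_inv, adjm]
    show (∑ l, y (i, Fin.castLE hq.le l) * _) * _ = (U * (U.submatrix (rowsS hm.le) id)⁻¹) i a
    have e : U * (U.submatrix (rowsS hm.le) id)⁻¹ = U * W.submatrix id (Fin.castLE hq.le) *
        (U.submatrix (rowsS hm.le) id * W.submatrix id (Fin.castLE hq.le))⁻¹ := by
      rw [Matrix.mul_inv_rev, Matrix.mul_assoc U, ← Matrix.mul_assoc (W.submatrix id _),
        Matrix.mul_nonsing_inv _ hW0, Matrix.one_mul]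
    rw [e, ← hsub, Matrix.inv_def, Ring.inverse_eq_inv', Matrix.mul_smul, Matrix.smul_apply,
      ← eval_dY K hm hq, smul_eq_mul, mul_comm]
    congr 1
  · simp only [tgt, Sum.elim_inr]
    show y (rowsS hm.le a, j) = (U.submatrix (rowsS hm.le) id * W) a j
    simp [y, Matrix.mul_apply]

theorem mem_range_of_dY_mul_mem (g : PairRing K n m q)
    (hg : pairingMap K n m q (dY K hm hq) * g ∈ (pairingMap K n m q).range) :
    g ∈ (pairingMap K n m q).range := by
  classical
  obtain ⟨h, hh⟩ := hg
  replace hh : pairingMap K n m q h = pairingMap K n m q (dY K hm hq) * g := hh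
  have ht : 0 < n + 1 := Nat.succ_pos n
  have hd : 0 < q := by omega
  have hdn := Nat.le_add_right q m
  set φ := detIdx (d := q) (r := m) ht hq hm
  set ι := botIdx hdn
  obtain ⟨e0, he0⟩ := exists_dY_eq_toCell K hm hq
  let nrm : Matrix (Fin (q + m)) (Fin q) K → Fin m × Fin q → K := fun A p =>
    det' A (Function.update ι.1 p.2 (Fin.natAdd q p.1)) * (det' A ι.1)⁻¹
  have key : ∀ h : MvPolynomial (Fin m × Fin q) K, ∃ (k : ℕ) (P : PlRing K q (q + m)),
      toCell K q m P = h ∧ ∀ A, det' A ι.1 ≠ 0 →
        evalMinors K q (q + m) A P = det' A ι.1 ^ k * eval (nrm A) h := by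
    intro h
    induction h using MvPolynomial.induction_on with
    | C c => exact ⟨0, C c, by simp [toCell], fun A _ => by simp [evalMinors]⟩
    | add a b ha hb =>
      obtain ⟨k, P, hP, hP'⟩ := ha
      obtain ⟨l, Q, hQ, hQ'⟩ := hb
      refine ⟨k + l, X ι ^ l * P + X ι ^ k * Q, ?_, fun A hA => ?_⟩
      · simp only [map_add, map_mul, map_pow, hP, hQ, ι, toCell_X_bot, one_pow, one_mul]
      · rw [map_add, map_mul, map_mul, map_pow, map_pow, hP' A hA, hQ' A hA, map_add,
          show evalMinors K q (q + m) A (X ι) = det' A ι.1 from aeval_X _ _]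
        ring
    | mul_X p o hp =>
      obtain ⟨k, P, hP, hP'⟩ := hp
      refine ⟨k + 1, P * coord K q (q + m) (Function.update ι.1 o.2 (Fin.natAdd q o.1)), ?_, fun A hA => ?_⟩
      · rw [map_mul, hP, toCell_coord_update]
      · rw [map_mul, hP' A hA, evalMinors_eq_aeval, aeval_coord, map_mul, eval_X]
        simp only [nrm]
        field_simp
        ring
  obtain ⟨k, P, hP, hPA⟩ := key h
  have hvan : ∀ A, (∀ ψ : Idx q (q + m), ¬ ψ ≤ φ → det' A ψ.1 = 0) → det' A φ.1 = 0 →
      evalMinors K q (q + m) A (X ι * P) = 0 := by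
    intro A hA hAφ
    rw [map_mul, show evalMinors K q (q + m) A (X ι) = det' A ι.1 from aeval_X _ _]
    by_cases hι : det' A ι.1 = 0
    · rw [hι, zero_mul]
    obtain ⟨γ, hγ, hM⟩ := exists_normalize A hι
    have hcell : (cellMatrix K q m).map (eval (nrm A)) = A * γ := by
      refine Matrix.ext fun a j => ?_
      rw [Matrix.map_apply]
      by_cases ha : a.val < q
      · have ea : a = ι.1 ⟨a.val, ha⟩ := Fin.ext rfl
        have := congrFun (congrFun hM ⟨a.val, ha⟩) j
        rw [Matrix.submatrix_apply, id, ← ea] at this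
        rw [this, cellMatrix, Matrix.of_apply, dif_pos ha, Matrix.one_apply]
        simp only [Fin.ext_iff]
        split <;> simp
      · push Not at ha
        rw [cellMatrix_apply_of_le K q m a ha, genMatrix, Matrix.of_apply, eval_X,
          ← det'_update (A * γ) ι hM j a, det'_mul, hγ]
        simp only [nrm]
        rw [show Fin.natAdd q ⟨a.val - q, by omega⟩ = a from Fin.ext (by simp; omega)]
    have hev : ∀ ψ : Idx q (q + m), eval (nrm A) (toCell K q m (X ψ)) = det' A ψ.1 * (det' A ι.1)⁻¹ := by
      intro ψ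
      rw [toCell, aeval_X, det', RingHom.map_det, ← hγ, ← det'_mul, det', ← hcell]
      rfl
    set Z : Matrix (Fin m) (Fin q) K := Matrix.of fun i j => nrm A (i, j) with hZ
    have hmin : CAlgX.minorIdeal (genMatrix K m q) (n + 1) ≤ RingHom.ker (eval (nrm A)) := by
      rw [minorIdeal_eq_span K ht hq hm, Ideal.span_le]
      rintro F ⟨ψ, hψ, rfl⟩
      have := hev ψ
      rw [toCell, aeval_X, hA ψ hψ, zero_mul] at this
      exact this
    obtain ⟨U, W, hUW⟩ := exists_factor_of_minors (n := n) Z fun f g => by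
      have h0 : eval (nrm A) ((genMatrix K m q).submatrix f g).det = 0 :=
        hmin (Ideal.subset_span ⟨(f, g), rfl⟩)
      rw [RingHom.map_det] at h0
      refine Eq.trans (congrArg Matrix.det (Matrix.ext fun a b => ?_)) h0
      simp [Z, genMatrix]
    have hh2 := congrArg (eval (Sum.elim (fun p : Fin m × Fin n => U p.1 p.2)
      fun p : Fin n × Fin q => W p.1 p.2)) hh
    rw [map_mul, eval_pairingMap, eval_pairingMap] at hh2
    have eY : (fun p : Fin m × Fin q => ((Matrix.of fun i k => (Sum.elim
        (fun p : Fin m × Fin n => U p.1 p.2) (fun p : Fin n × Fin q => W p.1 p.2)) (Sum.inl (i, k))) *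
        Matrix.of fun k j => (Sum.elim (fun p : Fin m × Fin n => U p.1 p.2)
          (fun p : Fin n × Fin q => W p.1 p.2)) (Sum.inr (k, j))) p.1 p.2) = nrm A := by
      funext p
      show (U * W) p.1 p.2 = nrm A p
      rw [← hUW]
      rfl
    rw [eY] at hh2
    have hd0 : eval (nrm A) (dY K hm hq) = 0 := by
      rw [he0, map_mul, hev, hAφ, zero_mul, mul_zero]
    rw [hd0, zero_mul] at hh2
    rw [hPA A hι, hh2, mul_zero, mul_zero]
  have hmem : X ι * P ∈ schubertVanishing K q (q + m) φ ⊔ Ideal.span {X φ} := by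
    rw [sup_span_X_eq K hd hdn]
    refine ⟨?_, ?_⟩
    · show constantCoeff (X ι * P) = (0 : K)
      rw [map_mul, constantCoeff_X, zero_mul]
    · rw [SetLike.mem_coe, Ideal.mem_iInf]
      intro ψ
      rw [Ideal.mem_iInf]
      intro hψ
      simp only [schubertVanishing, Ideal.mem_iInf]
      intro A hA
      exact hvan A (fun χ hχ => hA χ fun hle => hχ (hle.trans hψ.1.le)) (hA φ hψ.1.not_ge)
  obtain ⟨j, hj, b, hb, hjb⟩ := Submodule.mem_sup.1 hmem
  obtain ⟨Q, rfl⟩ := Ideal.mem_span_singleton.1 hb
  rw [schubertVanishing_eq_plIdeal K hd hdn] at hj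
  have h0 : pairingMap K n m q (toCell K q m j) = 0 :=
    minorIdeal_le_ker_pairingMap K (toCell_mem_of_mem_plIdeal K ht hq hm hj)
  have h1 := congrArg (fun x => pairingMap K n m q (toCell K q m x)) hjb
  simp only [map_add, map_mul, toCell_X_bot, ι, one_mul, hP, h0, zero_add, hh, he0, map_pow,
    map_neg, map_one] at h1
  refine ⟨(-1) ^ e0 * toCell K q m Q, mul_left_cancel₀ (pairingMap_dY_ne_zero K hm hq) ?_⟩
  show pairingMap K n m q (dY K hm hq) * pairingMap K n m q ((-1) ^ e0 * toCell K q m Q) =
    pairingMap K n m q (dY K hm hq) * g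
  rw [he0, map_mul, map_mul, map_pow, map_neg, map_one, ← h1]
  have h2 : ((-1 : PairRing K n m q) ^ e0) * (-1) ^ e0 = 1 := by rw [← mul_pow, neg_one_mul, neg_neg, one_pow]
  linear_combination (pairingMap K n m q (toCell K q m (X φ)) * pairingMap K n m q (toCell K q m Q)) * h2

theorem glInvariants_eq_range_of_lt (hm : n < m) (hq : n < q) (f : PairRing K n m q)
    (hf : ∀ A : GL (Fin n) K, glTranslate K n m q A f = f) : f ∈ (pairingMap K n m q).range := by
  obtain ⟨k, h, hh⟩ := exists_pow_mul_eq_of_glInvariant K hm hq f hf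
  have hmem : pairingMap K n m q (dY K hm hq) ^ k * f ∈ (pairingMap K n m q).range := ⟨h, hh⟩
  clear hh
  induction k with
  | zero => simpa using hmem
  | succ k ih =>
    refine ih (mem_range_of_dY_mul_mem K hm hq _ ?_)
    rwa [← mul_assoc, ← pow_succ']

theorem glInvariants_eq_range (f : PairRing K n m q) :
    (∀ A : GL (Fin n) K, glTranslate K n m q A f = f) ↔ f ∈ (pairingMap K n m q).range := by
  refine ⟨fun hf => ?_, ?_⟩
  · let M := m + (n + 1)
    let Q := q + (n + 1)
    let emb : (Fin m × Fin n) ⊕ (Fin n × Fin q) → (Fin M × Fin n) ⊕ (Fin n × Fin Q) :=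
      Sum.map (fun p => (Fin.castAdd (n + 1) p.1, p.2)) (fun p => (p.1, Fin.castAdd (n + 1) p.2))
    let ρ : PairRing K n M Q →ₐ[K] PairRing K n m q := aeval (Sum.elim
      (fun p : Fin M × Fin n => Fin.addCases (fun i => X (Sum.inl (i, p.2))) (fun _ => 0) p.1)
      (fun p : Fin n × Fin Q => Fin.addCases (fun j => X (Sum.inr (p.1, j))) (fun _ => 0) p.2))
    let ρY : MvPolynomial (Fin M × Fin Q) K →ₐ[K] MvPolynomial (Fin m × Fin q) K :=
      aeval fun p : Fin M × Fin Q => Fin.addCases
        (fun i => Fin.addCases (fun j => X (i, j)) (fun _ => 0) p.2) (fun _ => 0) p.1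
    have hρ : ρ.comp (rename emb) = AlgHom.id K _ := by
      refine algHom_ext fun p => ?_
      rcases p with p | p <;> simp [ρ, emb]
    have hρπ : ρ.comp (pairingMap K n M Q) = (pairingMap K n m q).comp ρY := by
      refine algHom_ext fun p => ?_
      obtain ⟨a, b⟩ := p
      induction a using Fin.addCases with
      | left i =>
        induction b using Fin.addCases with
        | left j => simp [ρ, ρY, pairingMap]
        | right j => simp [ρ, ρY, pairingMap]
      | right i => simp [ρ, ρY, pairingMap]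
    have hinv : ∀ A : GL (Fin n) K, glTranslate K n M Q A (rename emb f) = rename emb f := by
      intro A
      have e : (glTranslate K n M Q A).comp (rename emb) =
          (rename emb).comp (glTranslate K n m q A) := by
        refine algHom_ext fun p => ?_
        rcases p with p | p <;> simp [glTranslate, emb]
      have := DFunLike.congr_fun e f
      rw [AlgHom.comp_apply, AlgHom.comp_apply, hf A] at this
      exact this
    obtain ⟨h, hh⟩ := glInvariants_eq_range_of_lt K (show n < M by omega) (show n < Q by omega) _ hinv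
    refine ⟨ρY h, ?_⟩
    replace hh : pairingMap K n M Q h = rename emb f := hh
    show pairingMap K n m q (ρY h) = f
    rw [← AlgHom.comp_apply, ← hρπ, AlgHom.comp_apply, hh, ← AlgHom.comp_apply, hρ, AlgHom.id_apply]
  · rintro ⟨h, rfl⟩ A
    exact glTranslate_pairingMap K A h

end Groth.Smt
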