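import Groth.Agent.Smt.Determinantal
import Mathlib.LinearAlgebra.Dimension.Free

/-! The second fundamental theorem of invariant theory for `GL_n`. -/

set_option autoImplicit false

universe u v

open Finset MvPolynomial W4bk4grassmannian

namespace Groth.Smt

theorem det_mul_eq_zero_of_lt {R : Type u} [CommRing R] {n : ℕ}
    (U : Matrix (Fin (n + 1)) (Fin n) R) (W : Matrix (Fin n) (Fin (n + 1)) R) : (U * W).det = 0 := by
  classical
  let U' : Matrix (Fin (n + 1)) (Fin (n + 1)) R := Matrix.of fun i => Fin.snoc (U i) 0
  let W' : Matrix (Fin (n + 1)) (Fin (n + 1)) R := Matrix.of (Fin.snoc (fun k => W k) 0)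
  have e : U * W = U' * W' := by
    refine Matrix.ext fun i j => ?_
    simp [Matrix.mul_apply, U', W', Fin.sum_univ_castSucc]
  rw [e, Matrix.det_mul, Matrix.det_eq_zero_of_column_eq_zero (A := U') (Fin.last n)
    (fun i => by simp [U']), zero_mul]

theorem exists_factor_of_minors {F : Type u} [Field F] {m n q : ℕ} (Z : Matrix (Fin m) (Fin q) F)
    (h : ∀ (f : Fin (n + 1) → Fin m) (g : Fin (n + 1) → Fin q), (Z.submatrix f g).det = 0) :
    ∃ (U : Matrix (Fin m) (Fin n) F) (W : Matrix (Fin n) (Fin q) F), Z = U * W := by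
  classical
  set V := Submodule.span F (Set.range Z.row) with hV
  have hk : Module.finrank F V ≤ n := by
    by_contra hgt
    push Not at hgt
    obtain ⟨b, hb, hsp, hli⟩ := exists_linearIndependent F (Set.range Z.row)
    haveI : Fintype b := ((Set.finite_range Z.row).subset hb).fintype
    have hcard : n + 1 ≤ Fintype.card b := by
      have := finrank_span_eq_card hli
      rw [Subtype.range_coe, hsp, ← hV] at this
      rw [← Nat.card_eq_fintype_card] at this ⊢
      exact this ▸ hgt
    obtain ⟨e⟩ : Nonempty (Fin (n + 1) ↪ b) :=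
      Function.Embedding.nonempty_of_card_le (by rwa [Fintype.card_fin])
    choose f hf using fun s : Fin (n + 1) => hb (e s).2
    have hrows : LinearIndependent F (Z.submatrix f id).row := by
      have : (Z.submatrix f id).row = (Subtype.val : b → Fin q → F) ∘ e := funext fun s => hf s
      rw [this]
      exact hli.comp _ e.injective
    obtain ⟨θ, hθ⟩ := exists_minor_ne_zero (Z.submatrix f id).transpose
      (by rw [Matrix.transpose_transpose]; exact hrows)
    refine hθ ?_
    rw [det', Matrix.transpose_submatrix, Matrix.submatrix_submatrix, ← Matrix.det_transpose]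
    exact h _ _
  let bV := Module.finBasis F V
  let W : Matrix (Fin n) (Fin q) F := Matrix.of fun i =>
    if hi : i.val < Module.finrank F V then (bV ⟨i, hi⟩ : Fin q → F) else 0
  have hmem : ∀ a, ∃ u : Fin n → F, ∑ i, u i • W i = Z a := by
    intro a
    refine (Submodule.mem_span_range_iff_exists_fun F).1 ?_
    have ha : Z a ∈ V := Submodule.subset_span ⟨a, rfl⟩
    rw [show Z a = ((⟨Z a, ha⟩ : V) : Fin q → F) from rfl, ← bV.sum_repr ⟨Z a, ha⟩,
      Submodule.coe_sum]
    refine Submodule.sum_mem _ fun j _ => ?_
    rw [Submodule.coe_smul]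
    refine Submodule.smul_mem _ _ (Submodule.subset_span ⟨⟨j.val, lt_of_lt_of_le j.isLt hk⟩, ?_⟩)
    show (if hi : j.val < Module.finrank F V then (bV ⟨j.val, hi⟩ : Fin q → F) else 0) = _
    rw [dif_pos j.isLt]
  choose u hu using hmem
  refine ⟨Matrix.of u, W, Matrix.ext fun a c => ?_⟩
  have := congrFun (hu a) c
  rw [Finset.sum_apply] at this
  rw [Matrix.mul_apply, ← this]
  simp [Matrix.of_apply]

variable {m n q : ℕ} (K : Type u) [Field K]

theorem minorIdeal_le_ker_pairingMap :
    CAlgX.minorIdeal (genMatrix K m q) (n + 1) ≤ RingHom.ker (pairingMap K n m q).toRingHom := by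
  rw [CAlgX.minorIdeal, Ideal.span_le]
  rintro F ⟨⟨f, g⟩, rfl⟩
  show pairingMap K n m q _ = 0
  rw [AlgHom.map_det]
  let U : Matrix (Fin (n + 1)) (Fin n) (PairRing K n m q) := Matrix.of fun i k => X (Sum.inl (f i, k))
  let W : Matrix (Fin n) (Fin (n + 1)) (PairRing K n m q) := Matrix.of fun k j => X (Sum.inr (k, g j))
  have e : (pairingMap K n m q).mapMatrix ((genMatrix K m q).submatrix f g) = U * W := by
    refine Matrix.ext fun i j => ?_
    simp [pairingMap, genMatrix, Matrix.mul_apply, U, W]
  rw [e, det_mul_eq_zero_of_lt]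

/-- The kernel of the product map, given a generic point of the determinantal variety factoring
through `n`. -/
theorem mem_of_pairingMap_eq_zero {F : Type v} [CommRing F] [Algebra K F]
    (U : Matrix (Fin m) (Fin n) F) (W : Matrix (Fin n) (Fin q) F) (h : MvPolynomial (Fin m × Fin q) K)
    (hh : pairingMap K n m q h = 0) : aeval (fun p : Fin m × Fin q => (U * W) p.1 p.2) h = 0 := by
  have e : (aeval (Sum.elim (fun p : Fin m × Fin n => U p.1 p.2) fun p : Fin n × Fin q => W p.1 p.2) :
      PairRing K n m q →ₐ[K] F).comp (pairingMap K n m q) =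
      aeval (fun p : Fin m × Fin q => (U * W) p.1 p.2) := by
    refine algHom_ext fun p => ?_
    simp [pairingMap, Matrix.mul_apply]
  rw [← e, AlgHom.comp_apply, hh, map_zero]

theorem ker_pairingMap :
    RingHom.ker (pairingMap K n m q).toRingHom = CAlgX.minorIdeal (genMatrix K m q) (n + 1) := by
  classical
  refine le_antisymm (fun h hh => ?_) (minorIdeal_le_ker_pairingMap K)
  replace hh : pairingMap K n m q h = 0 := hh
  by_cases hq : q ≤ n
  · let W : Matrix (Fin n) (Fin q) (MvPolynomial (Fin m × Fin q) K) :=
      Matrix.of fun k j => if k.val = j.val then 1 else 0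
    let U : Matrix (Fin m) (Fin n) (MvPolynomial (Fin m × Fin q) K) :=
      Matrix.of fun i k => if hk : k.val < q then X (i, ⟨k, hk⟩) else 0
    have := mem_of_pairingMap_eq_zero K U W h hh
    have e : (fun p : Fin m × Fin q => (U * W) p.1 p.2) = MvPolynomial.X := by
      funext p
      rw [Matrix.mul_apply, Finset.sum_eq_single (⟨p.2.val, lt_of_lt_of_le p.2.isLt hq⟩ : Fin n)]
      · simp [U, W]
      · intro k _ hk
        simp [W, Fin.ext_iff] at hk ⊢
        simp [hk]
      · simp
    rw [e, aeval_X_left_apply] at this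
    rw [this]
    exact Ideal.zero_mem _
  by_cases hm : m ≤ n
  · let U : Matrix (Fin m) (Fin n) (MvPolynomial (Fin m × Fin q) K) :=
      Matrix.of fun i k => if i.val = k.val then 1 else 0
    let W : Matrix (Fin n) (Fin q) (MvPolynomial (Fin m × Fin q) K) :=
      Matrix.of fun k j => if hk : k.val < m then X (⟨k, hk⟩, j) else 0
    have := mem_of_pairingMap_eq_zero K U W h hh
    have e : (fun p : Fin m × Fin q => (U * W) p.1 p.2) = MvPolynomial.X := by
      funext p
      rw [Matrix.mul_apply, Finset.sum_eq_single (⟨p.1.val, lt_of_lt_of_le p.1.isLt hm⟩ : Fin n)]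
      · simp [U, W]
      · intro k _ hk
        simp [U, Fin.ext_iff] at hk ⊢
        simp [Ne.symm hk]
      · simp
    rw [e, aeval_X_left_apply] at this
    rw [this]
    exact Ideal.zero_mem _
  push Not at hq hm
  have ht : 0 < n + 1 := Nat.succ_pos _
  have hg : genPoint (d := q) (r := m) K ht hq hm h = 0 := by
    let Z : Matrix (Fin m) (Fin q) (BandField K q m) :=
      Matrix.of fun i j => genPoint (d := q) (r := m) K ht hq hm (X (i, j))
    obtain ⟨U, W, hUW⟩ := exists_factor_of_minors (n := n) Z fun f g => by
      have hmem : ((genMatrix K m q).submatrix f g).det ∈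
          RingHom.ker (genPoint (d := q) (r := m) K ht hq hm).toRingHom := by
        rw [ker_genPoint]
        exact Ideal.subset_span ⟨(f, g), rfl⟩
      replace hmem : genPoint (d := q) (r := m) K ht hq hm _ = 0 := hmem
      rw [AlgHom.map_det] at hmem
      exact hmem
    have e : genPoint (d := q) (r := m) K ht hq hm =
        aeval (fun p : Fin m × Fin q => (U * W) p.1 p.2) := by
      refine algHom_ext fun p => ?_
      rw [aeval_X, ← hUW]
      rfl
    rw [e]
    exact mem_of_pairingMap_eq_zero K U W h hh
  exact (le_of_eq (ker_genPoint (d := q) (r := m) K ht hq hm)) hg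

end Groth.Smt
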