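import Groth.Prelude.Def_W4bk4grassmannianPl
import Mathlib.Tactic

/-! Order-theoretic facts about the index set `I(d,n)`. -/

set_option autoImplicit false

namespace Groth.Smt

open W4bk4grassmannian

variable {d n : ℕ}

/-- Sum of the entries of an index. -/
def key (θ : Idx d n) : ℕ := ∑ t, (θ.1 t).val

theorem le_val (θ : Idx d n) (t : Fin d) : t.val ≤ (θ.1 t).val := by
  obtain ⟨t, ht⟩ := t
  induction t with
  | zero => exact Nat.zero_le _
  | succ t ih =>
    have h := θ.2 (show (⟨t, by omega⟩ : Fin d) < ⟨t + 1, ht⟩ by simp)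
    have h' : (θ.1 ⟨t, by omega⟩).val < (θ.1 ⟨t + 1, ht⟩).val := h
    have := ih (by omega)
    simp only at this ⊢
    omega

theorem idx_le_iff {a b : Idx d n} : a ≤ b ↔ ∀ t, a.1 t ≤ b.1 t := Iff.rfl

theorem key_mono {a b : Idx d n} (h : a ≤ b) : key a ≤ key b :=
  Finset.sum_le_sum fun t _ => h t

theorem eq_of_le_of_key {a b : Idx d n} (h : a ≤ b) (hk : key b ≤ key a) : a = b := by
  apply Subtype.ext
  funext t
  have he : key a = key b := le_antisymm (key_mono h) hk
  have := (Finset.sum_eq_sum_iff_of_le (s := Finset.univ) (f := fun t => (a.1 t).val)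
    (g := fun t => (b.1 t).val) (fun t _ => h t)).1 he t (Finset.mem_univ t)
  exact Fin.ext this

theorem key_strictMono : StrictMono (key : Idx d n → ℕ) := by
  intro a b h
  rcases lt_or_eq_of_le (key_mono h.le) with h' | h'
  · exact h'
  · exact absurd (eq_of_le_of_key h.le h'.ge) h.ne

theorem key_eq_codeg (θ : Idx d n) : key θ = codeg θ + ∑ t : Fin d, t.val := by
  rw [key, codeg, ← Finset.sum_add_distrib]
  exact Finset.sum_congr rfl fun t _ => by have := le_val θ t; omega

theorem codeg_mono {a b : Idx d n} (h : a ≤ b) : codeg a ≤ codeg b := by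
  have := key_mono h
  rw [key_eq_codeg, key_eq_codeg] at this
  omega

theorem le_idxSup_left (a b : Idx d n) : a ≤ W4bk4grassmannian.sup a b := fun _ => le_max_left _ _

theorem le_idxSup_right (a b : Idx d n) : b ≤ W4bk4grassmannian.sup a b := fun _ => le_max_right _ _

theorem idxInf_le_left (a b : Idx d n) : W4bk4grassmannian.inf a b ≤ a := fun _ => min_le_left _ _

theorem idxInf_le_right (a b : Idx d n) : W4bk4grassmannian.inf a b ≤ b := fun _ => min_le_right _ _

theorem idxSup_le_iff {a b c : Idx d n} : W4bk4grassmannian.sup a b ≤ c ↔ a ≤ c ∧ b ≤ c :=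
  ⟨fun h => ⟨fun t => (le_max_left _ _).trans (h t), fun t => (le_max_right _ _).trans (h t)⟩,
    fun h t => max_le (h.1 t) (h.2 t)⟩

theorem le_idxInf_iff {a b c : Idx d n} : c ≤ W4bk4grassmannian.inf a b ↔ c ≤ a ∧ c ≤ b :=
  ⟨fun h => ⟨fun t => (h t).trans (min_le_left _ _), fun t => (h t).trans (min_le_right _ _)⟩,
    fun h t => le_min (h.1 t) (h.2 t)⟩

theorem key_sup_add_key_inf (a b : Idx d n) :
    key (W4bk4grassmannian.sup a b) + key (W4bk4grassmannian.inf a b) = key a + key b := by
  simp only [key, ← Finset.sum_add_distrib]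
  refine Finset.sum_congr rfl fun t _ => ?_
  show (max (a.1 t) (b.1 t)).val + (min (a.1 t) (b.1 t)).val = _
  rcases le_total (a.1 t) (b.1 t) with h | h
  · rw [max_eq_right h, min_eq_left h]; ring
  · rw [max_eq_left h, min_eq_right h]

/-- If entry `t` of `w` can be lowered by one, the lowered index. -/
def lower (w : Idx d n) (t : Fin d) (h0 : 0 < (w.1 t).val)
    (h : ∀ s, s < t → (w.1 s).val + 1 < (w.1 t).val) : Idx d n :=
  ⟨Function.update w.1 t ⟨(w.1 t).val - 1, by omega⟩, by
    intro a b hab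
    have hw : (w.1 a).val < (w.1 b).val := w.2 hab
    rw [Fin.lt_def]
    rcases eq_or_ne a t with rfl | ha
    · rw [Function.update_self, Function.update_of_ne hab.ne']
      show (w.1 a).val - 1 < _
      omega
    · rw [Function.update_of_ne ha]
      rcases eq_or_ne b t with rfl | hb
      · rw [Function.update_self]
        show _ < (w.1 b).val - 1
        have := h a hab
        omega
      · rwa [Function.update_of_ne hb]⟩

theorem lower_le (w : Idx d n) (t : Fin d) (h0 : 0 < (w.1 t).val)
    (h : ∀ s, s < t → (w.1 s).val + 1 < (w.1 t).val) : lower w t h0 h ≤ w := by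
  intro s
  show Function.update w.1 t _ s ≤ w.1 s
  rw [Function.update_apply]
  split
  · next hs => subst hs; exact Fin.le_def.2 (Nat.sub_le _ _)
  · exact le_rfl

theorem key_lower (w : Idx d n) (t : Fin d) (h0 : 0 < (w.1 t).val)
    (h : ∀ s, s < t → (w.1 s).val + 1 < (w.1 t).val) : key (lower w t h0 h) + 1 = key w := by
  unfold key
  rw [← Finset.add_sum_erase _ _ (Finset.mem_univ t), ← Finset.add_sum_erase _ _ (Finset.mem_univ t)]
  have e : ∑ s ∈ Finset.univ.erase t, ((lower w t h0 h).1 s).val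
      = ∑ s ∈ Finset.univ.erase t, (w.1 s).val :=
    Finset.sum_congr rfl fun s hs => by
      show (Function.update w.1 t _ s).val = _
      rw [Function.update_of_ne (Finset.ne_of_mem_erase hs)]
  have e2 : ((lower w t h0 h).1 t).val = (w.1 t).val - 1 := by
    show (Function.update w.1 t _ t).val = _
    rw [Function.update_self]
  rw [e, e2]
  omega

theorem lower_mem_divisors (w : Idx d n) (t : Fin d) (h0 : 0 < (w.1 t).val)
    (h : ∀ s, s < t → (w.1 s).val + 1 < (w.1 t).val) : lower w t h0 h ∈ divisors w := by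
  have hk := key_lower w t h0 h
  refine ⟨lt_of_le_of_ne (lower_le w t h0 h) fun e => by rw [e] at hk; omega, ?_⟩
  rw [key_eq_codeg, key_eq_codeg] at hk
  omega

/-- Everything strictly below `w` lies below a divisor. -/
theorem exists_divisor_ge {τ w : Idx d n} (h : τ < w) : ∃ φ ∈ divisors w, τ ≤ φ := by
  have hne : (Finset.univ.filter fun t => τ.1 t < w.1 t).Nonempty := by
    by_contra hc
    rw [Finset.not_nonempty_iff_eq_empty, Finset.filter_eq_empty_iff] at hc
    exact h.not_ge fun t => not_lt.1 (hc (Finset.mem_univ t))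
  set t := (Finset.univ.filter fun t => τ.1 t < w.1 t).min' hne with ht
  have htt : (τ.1 t).val < (w.1 t).val := by
    exact Fin.lt_def.1 (Finset.mem_filter.1 (Finset.min'_mem _ hne)).2
  have hlt : ∀ s, s < t → τ.1 s = w.1 s := by
    intro s hs
    refine le_antisymm (h.le s) (not_lt.1 fun hlt => ?_)
    exact (not_le.2 hs) (Finset.min'_le _ s (Finset.mem_filter.2 ⟨Finset.mem_univ s, hlt⟩))
  have h' : ∀ s, s < t → (w.1 s).val + 1 < (w.1 t).val := fun s hs => by
    have h1 : (τ.1 s).val < (τ.1 t).val := τ.2 hs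
    rw [hlt s hs] at h1
    omega
  refine ⟨lower w t (by omega) h', lower_mem_divisors w t (by omega) h', fun s => ?_⟩
  show τ.1 s ≤ Function.update w.1 t _ s
  rw [Function.update_apply]
  split
  · next hs => rw [Fin.le_def, hs]; show _ ≤ (w.1 t).val - 1; omega
  · exact h.le s

/-- The least index `(0, 1, …, d-1)`. -/
def botIdx (hdn : d ≤ n) : Idx d n := ⟨fun t => ⟨t.val, lt_of_lt_of_le t.isLt hdn⟩, fun _ _ h => h⟩

theorem le_of_idx (θ : Idx d n) : d ≤ n := by
  by_contra h
  have h1 : n ≤ (θ.1 ⟨n, by omega⟩).val := le_val θ ⟨n, by omega⟩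
  exact absurd (θ.1 ⟨n, by omega⟩).isLt (not_lt.2 h1)

theorem bot_le (hdn : d ≤ n) (θ : Idx d n) : botIdx hdn ≤ θ := fun t => le_val θ t

/-- The greatest index `(n-d, …, n-1)`. -/
def topIdx (hdn : d ≤ n) : Idx d n :=
  ⟨fun t => ⟨n - d + t.val, by omega⟩, fun a b h => by
    have : a.val < b.val := h
    simp only [Fin.lt_def]; omega⟩

theorem val_le (θ : Idx d n) (t : Fin d) : (θ.1 t).val + (d - t.val) ≤ n := by
  obtain ⟨k, hk⟩ : ∃ k, t.val + k + 1 = d := ⟨d - t.val - 1, by omega⟩
  induction k generalizing t with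
  | zero => have := (θ.1 t).isLt; omega
  | succ k ih =>
    have := ih ⟨t.val + 1, by omega⟩ (by simp; omega)
    have h : (θ.1 t).val < (θ.1 ⟨t.val + 1, by omega⟩).val :=
      θ.2 (by simp [Fin.lt_def])
    simp only at this
    omega

theorem le_top (hdn : d ≤ n) (θ : Idx d n) : θ ≤ topIdx hdn := fun t => by
  have := val_le θ t
  show (θ.1 t).val ≤ n - d + t.val
  omega

end Groth.Smt
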