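import Groth.Agent.Smt.SchubertCM
import Groth.Agent.LocCohBase.CM
import Groth.Agent.EGA41Two.CMPrime
import Mathlib.Algebra.Module.Submodule.Union
import Mathlib.RingTheory.Ideal.AssociatedPrime.Finiteness

/-! A cone is Cohen–Macaulay as soon as it is so at its vertex. -/

set_option autoImplicit false

universe u

open MvPolynomial IsLocalRing Groth.LocCohBase Pointwise

namespace Groth.Smt

variable {K : Type u} [Field K] [Infinite K] {N : ℕ} (I : Ideal (MvPolynomial (Fin N) K))

theorem idealOfVars_eq_ker :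
    idealOfVars (Fin N) K = RingHom.ker (constantCoeff : MvPolynomial (Fin N) K →+* K) := by
  ext f
  rw [← pow_one (idealOfVars (Fin N) K), mem_pow_idealOfVars_iff, RingHom.mem_ker, constantCoeff_eq]
  constructor
  · intro h
    by_contra hne
    exact absurd (h 0 (mem_support_iff.2 hne)) (by simp)
  · intro h x hx
    by_contra hlt
    have : x = 0 := Finsupp.degree_eq_zero_iff x |>.1 (by omega)
    subst this
    exact mem_support_iff.1 hx h

/-- The vertex. -/
noncomputable abbrev vtx : Ideal (MvPolynomial (Fin N) K ⧸ I) :=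
  (RingHom.ker (constantCoeff : MvPolynomial (Fin N) K →+* K)).map (Ideal.Quotient.mk I)

theorem ker_isMaximal :
    (RingHom.ker (constantCoeff : MvPolynomial (Fin N) K →+* K)).IsMaximal :=
  RingHom.ker_isMaximal_of_surjective _ fun c => ⟨C c, constantCoeff_C _ c⟩

variable [hm : (vtx I).IsPrime]

/-- The map to the local ring at the vertex. -/
noncomputable def toVtx : MvPolynomial (Fin N) K →+* Localization.AtPrime (vtx I) :=
  (algebraMap _ _).comp (Ideal.Quotient.mk I)

theorem le_ker_vtx : I ≤ RingHom.ker (constantCoeff : MvPolynomial (Fin N) K →+* K) := by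
  intro f hf
  by_contra hne
  refine hm.ne_top (Ideal.eq_top_of_isUnit_mem _ (x := Ideal.Quotient.mk I (C (constantCoeff f))) ?_ ?_)
  · rw [show Ideal.Quotient.mk I (C (constantCoeff f)) = Ideal.Quotient.mk I (C (constantCoeff f) - f) from
      Ideal.Quotient.eq.2 (by simpa using hf)]
    exact Ideal.mem_map_of_mem _ (by simp)
  · exact ((isUnit_iff_ne_zero.2 hne).map C).map _

/-- Instance shortcut: the nested search does not find it. -/
noncomputable local instance instCommRingVtx : CommRing (Localization.AtPrime (vtx I)) := inferInstance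

theorem map_vtx_eq :
    (RingHom.ker (constantCoeff : MvPolynomial (Fin N) K →+* K)).map (toVtx I) =
      maximalIdeal (Localization.AtPrime (vtx I)) := by
  rw [toVtx, ← Ideal.map_map]
  exact Localization.AtPrime.map_eq_maximalIdeal

theorem toVtx_mem_iff {Q : Ideal (MvPolynomial (Fin N) K)} (hIQ : I ≤ Q) {a : MvPolynomial (Fin N) K} :
    toVtx I a ∈ Q.map (toVtx I) ↔ ∃ t, constantCoeff t ≠ 0 ∧ t * a ∈ Q := by
  rw [toVtx, ← Ideal.map_map, RingHom.comp_apply,
    IsLocalization.algebraMap_mem_map_algebraMap_iff (vtx I).primeCompl]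
  constructor
  · rintro ⟨m, hm', h⟩
    obtain ⟨t, rfl⟩ := Ideal.Quotient.mk_surjective m
    rw [← map_mul, Ideal.mem_quotient_iff_mem hIQ] at h
    exact ⟨t, fun h0 => hm' (Ideal.mem_map_of_mem _ h0), h⟩
  · rintro ⟨t, ht, h⟩
    refine ⟨Ideal.Quotient.mk I t, fun hmem => ht ?_, by rw [← map_mul]; exact Ideal.mem_map_of_mem _ h⟩
    exact (Ideal.mem_quotient_iff_mem (le_ker_vtx I)).1 hmem

omit hm in
theorem exists_regular_linear {Q : Ideal (MvPolynomial (Fin N) K)}
    (hass : ∀ z : MvPolynomial (Fin N) K, z ∉ Q →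
      ∃ v, constantCoeff v = 0 ∧ v * z ∉ Q) :
    ∃ l : MvPolynomial (Fin N) K, l.IsHomogeneous 1 ∧ ∀ f, l * f ∈ Q → f ∈ Q := by
  classical
  set W := homogeneousSubmodule (Fin N) K 1
  have hfin := associatedPrimes.finite (MvPolynomial (Fin N) K) (MvPolynomial (Fin N) K ⧸ Q)
  haveI := hfin.to_subtype
  obtain ⟨l, hl⟩ := Submodule.exists_forall_notMem_of_forall_ne_top
    (fun P : associatedPrimes (MvPolynomial (Fin N) K) (MvPolynomial (Fin N) K ⧸ Q) =>
      (P.1.restrictScalars K).comap W.subtype) (fun P htop => by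
    obtain ⟨hPp, x, hx⟩ := isAssociatedPrime_iff.1 P.2
    obtain ⟨z, rfl⟩ := Ideal.Quotient.mk_surjective x
    have hmem : ∀ r, r ∈ P.1 ↔ r * z ∈ Q := fun r => by
      rw [hx, Submodule.mem_colon_singleton, Submodule.mem_bot]
      exact Ideal.Quotient.eq_zero_iff_mem (a := r * z) (I := Q)
    have hz : z ∉ Q := fun hh => hPp.ne_top ((Ideal.eq_top_iff_one _).2 ((hmem 1).2 (by rwa [one_mul])))
    obtain ⟨v, hv, hvz⟩ := hass z hz
    refine hvz ((hmem v).1 ?_)
    have hle : idealOfVars (Fin N) K ≤ P.1 := by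
      rw [idealOfVars, Ideal.span_le]
      rintro _ ⟨i, rfl⟩
      have : (⟨X i, isHomogeneous_X K i⟩ : W) ∈ (P.1.restrictScalars K).comap W.subtype := by
        rw [htop]; trivial
      exact this
    rw [idealOfVars_eq_ker] at hle
    exact hle hv)
  refine ⟨l.1, l.2, fun f hf => ?_⟩
  by_contra hfQ
  have hz : (l.1 : MvPolynomial (Fin N) K) ∈ {r : MvPolynomial (Fin N) K |
      ∃ x : MvPolynomial (Fin N) K ⧸ Q, x ≠ 0 ∧ r • x = 0} :=
    ⟨Ideal.Quotient.mk Q f, fun h0 => hfQ (Ideal.Quotient.eq_zero_iff_mem.1 h0), by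
      exact Ideal.Quotient.eq_zero_iff_mem.2 hf⟩
  rw [← biUnion_associatedPrimes_eq_zero_divisors] at hz
  obtain ⟨P, hP, hlP⟩ := Set.mem_iUnion₂.1 hz
  exact hl ⟨P, hP⟩ hlP

theorem exists_forms {d : ℕ} (hd : ringKrullDim (Localization.AtPrime (vtx I)) = (d : WithBot ℕ∞))
    (hcm : LocCoh.IsCohenMacaulayLocalRing (Localization.AtPrime (vtx I))) :
    ∀ k ≤ d, ∃ θ : ℕ → MvPolynomial (Fin N) K, (∀ j, (θ j).IsHomogeneous 1) ∧ RegUpTo θ I k ∧
      LocCoh.IsCohenMacaulayModule (Localization.AtPrime (vtx I))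
        (Localization.AtPrime (vtx I) ⧸ (I ⊔ Th θ k).map (toVtx I)) ∧
      Module.supportDim (Localization.AtPrime (vtx I))
        (Localization.AtPrime (vtx I) ⧸ (I ⊔ Th θ k).map (toVtx I)) + (k : WithBot ℕ∞) =
          (d : WithBot ℕ∞) := by
  classical
  set L := Localization.AtPrime (vtx I)
  haveI : IsNoetherianRing L := IsLocalization.isNoetherianRing (vtx I).primeCompl _ inferInstance
  intro k
  induction k with
  | zero =>
    intro _
    refine ⟨fun _ => 0, fun _ => isHomogeneous_zero _ _ _, fun j hj => absurd hj (Nat.not_lt_zero j), ?_⟩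
    have h0 : (I ⊔ Th (fun _ => (0 : MvPolynomial (Fin N) K)) 0).map (toVtx I) = ⊥ := by
      rw [Th_zero, sup_bot_eq, toVtx, ← Ideal.map_map, Ideal.map_quotient_self, Ideal.map_bot]
    let e : L ≃ₗ[L] (L ⧸ (I ⊔ Th (fun _ => (0 : MvPolynomial (Fin N) K)) 0).map (toVtx I)) :=
      (Submodule.quotEquivOfEqBot _ h0).symm
    refine ⟨Groth.EGA41Two.isCM_of_equiv e ?_, ?_⟩
    · exact hcm.supportDim_eq_depth
    · rw [← Module.supportDim_eq_of_equiv e, Module.supportDim_self_eq_ringKrullDim, hd, Nat.cast_zero,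
        add_zero]
  | succ k ih =>
    intro hk
    obtain ⟨θ, hθ, hreg, hM, hdim⟩ := ih (by omega)
    set Q := I ⊔ Th θ k with hQ
    set QL := Q.map (toVtx I) with hQL
    have hQV : Q ≤ RingHom.ker (constantCoeff : MvPolynomial (Fin N) K →+* K) := by
      refine sup_le (le_ker_vtx I) (Ideal.span_le.2 ?_)
      rintro _ ⟨j, rfl⟩
      exact (hθ j).coeff_eq_zero (by simp)
    haveI : Nontrivial (L ⧸ QL) := Ideal.Quotient.nontrivial_iff.2 fun htop => by
      have : QL ≤ maximalIdeal L := by rw [← map_vtx_eq I]; exact Ideal.map_mono hQV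
      exact (maximalIdeal.isMaximal L).ne_top (top_le_iff.1 ((le_of_eq htop.symm).trans this))
    have hdepth : (1 : ℕ∞) ≤ LocCoh.depth L (L ⧸ QL) := by
      have h := hdim
      rw [show Module.supportDim L (L ⧸ QL) = _ from hM] at h
      cases hD : LocCoh.depth L (L ⧸ QL) with
      | top => exact _root_.le_top
      | coe a =>
        rw [hD] at h
        have : a + k = d := by exact_mod_cast h
        exact_mod_cast (show 1 ≤ a by omega)
    obtain ⟨x, hxm, hxreg⟩ := exists_regular_of_one_le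
      (smul_maximalIdeal_ne_top (L ⧸ QL) (maximalIdeal.isMaximal L).ne_top) hdepth
    have hass : ∀ z : MvPolynomial (Fin N) K, z ∉ Q → ∃ v, constantCoeff v = 0 ∧ v * z ∉ Q := by
      intro z hz
      by_contra hc
      push Not at hc
      have hzero : Ideal.Quotient.mk QL (toVtx I z) ≠ 0 := fun h0 => by
        obtain ⟨t, ht, htz⟩ := (toVtx_mem_iff I le_sup_left).1 (Ideal.Quotient.eq_zero_iff_mem.1 h0)
        have h2 : C (constantCoeff t) * z ∈ Q := by
          rw [show C (constantCoeff t) * z = t * z - (t - C (constantCoeff t)) * z by ring]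
          exact Q.sub_mem htz (hc _ (by simp))
        have := Q.mul_mem_left (C (constantCoeff t)⁻¹) h2
        rw [← mul_assoc, ← map_mul, inv_mul_cancel₀ ht, map_one, one_mul] at this
        exact hz this
      refine hzero (hxreg.right_eq_zero_of_smul ?_)
      have hle : maximalIdeal L ≤ QL.colon (Ideal.span {toVtx I z}) := by
        rw [← map_vtx_eq I, Ideal.map_le_iff_le_comap]
        intro v hv
        rw [Ideal.mem_comap, Submodule.mem_colon]
        intro w hw
        obtain ⟨c, rfl⟩ := Ideal.mem_span_singleton.1 hw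
        rw [smul_eq_mul, ← mul_assoc, ← map_mul]
        exact QL.mul_mem_right _ (Ideal.mem_map_of_mem _ (hc v hv))
      have h3 := Submodule.mem_colon.1 (hle hxm) _ (Ideal.mem_span_singleton_self _)
      show Ideal.Quotient.mk QL (x * toVtx I z) = 0
      exact Ideal.Quotient.eq_zero_iff_mem.2 h3
    obtain ⟨l, hl, hlreg⟩ := exists_regular_linear hass
    let θ' : ℕ → MvPolynomial (Fin N) K := Function.update θ k l
    have hTh : ∀ j ≤ k, Th θ' j = Th θ j := by
      intro j hj
      rw [Th, Th]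
      congr 2
      funext i
      exact Function.update_of_ne (by omega) _ _
    have hTh' : I ⊔ Th θ' (k + 1) = Q ⊔ Ideal.span {l} := by
      rw [Th_succ, hTh k le_rfl, hQ, sup_assoc]
      simp [θ']
    refine ⟨θ', fun j => ?_, ?_, ?_⟩
    · by_cases hj : j = k
      · subst hj; simpa [θ'] using hl
      · simpa [θ', Function.update_of_ne hj] using hθ j
    · intro j hj f hf
      rw [hTh j (by omega)] at hf ⊢
      rcases Nat.lt_succ_iff_lt_or_eq.1 hj with hj' | rfl
      · rw [show θ' j = θ j from Function.update_of_ne (by omega) _ _] at hf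
        exact hreg j hj' f hf
      · rw [show θ' j = l from Function.update_self _ _ _] at hf
        exact hlreg f hf
    have hlm : toVtx I l ∈ maximalIdeal L := by
      rw [← map_vtx_eq I]
      exact Ideal.mem_map_of_mem _ (hl.coeff_eq_zero (by simp))
    have hlregL : IsSMulRegular (L ⧸ QL) (toVtx I l) := by
      rw [isSMulRegular_iff_right_eq_zero_of_smul]
      intro y hy
      obtain ⟨y, rfl⟩ := Ideal.Quotient.mk_surjective y
      obtain ⟨a, s, rfl⟩ := IsLocalization.exists_mk'_eq (vtx I).primeCompl y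
      obtain ⟨a, rfl⟩ := Ideal.Quotient.mk_surjective a
      replace hy : toVtx I l * IsLocalization.mk' L (Ideal.Quotient.mk I a) s ∈ QL :=
        Ideal.Quotient.eq_zero_iff_mem.1 hy
      rw [Ideal.Quotient.eq_zero_iff_mem]
      have hu := IsLocalization.map_units L s
      rw [← Ideal.mul_unit_mem_iff_mem QL hu, IsLocalization.mk'_spec]
      rw [← Ideal.mul_unit_mem_iff_mem QL hu, mul_assoc, IsLocalization.mk'_spec] at hy
      have hy' : toVtx I (l * a) ∈ QL := by rw [map_mul]; exact hy
      obtain ⟨t, ht, htla⟩ := (toVtx_mem_iff I le_sup_left).1 hy'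
      refine (toVtx_mem_iff I le_sup_left).2 ⟨t, ht, hlreg _ ?_⟩
      rwa [← mul_assoc, mul_comm l t, mul_assoc]
    let f : (L ⧸ QL) →ₗ[L] L ⧸ (I ⊔ Th θ' (k + 1)).map (toVtx I) :=
      Submodule.factor (Ideal.map_mono (by rw [hTh']; exact le_sup_left))
    have hfker : toVtx I l • (⊤ : Submodule L (L ⧸ QL)) = LinearMap.ker f := by
      ext y
      obtain ⟨y, rfl⟩ := Ideal.Quotient.mk_surjective y
      rw [LinearMap.mem_ker, Submodule.mem_smul_pointwise_iff_exists]
      show _ ↔ Ideal.Quotient.mk ((I ⊔ Th θ' (k + 1)).map (toVtx I)) y = 0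
      rw [Ideal.Quotient.eq_zero_iff_mem, hTh', Ideal.map_sup, Ideal.map_span, Set.image_singleton, ← hQL,
        Submodule.mem_sup]
      constructor
      · rintro ⟨z, -, hz⟩
        obtain ⟨z, rfl⟩ := Ideal.Quotient.mk_surjective z
        replace hz : toVtx I l * z - y ∈ QL := Ideal.Quotient.eq.1 hz
        refine ⟨y - toVtx I l * z, ?_, toVtx I l * z, Ideal.mul_mem_right _ _ (Ideal.mem_span_singleton_self _),
          by ring⟩
        rw [← neg_sub]; exact QL.neg_mem hz
      · rintro ⟨u, hu, w, hw, rfl⟩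
        obtain ⟨z, rfl⟩ := Ideal.mem_span_singleton.1 hw
        refine ⟨Ideal.Quotient.mk QL z, Submodule.mem_top, ?_⟩
        show Ideal.Quotient.mk QL (toVtx I l * z) = _
        rw [map_add, Ideal.Quotient.eq_zero_iff_mem.2 hu, zero_add]
    let e : QuotSMulTop (toVtx I l) (L ⧸ QL) ≃ₗ[L] L ⧸ (I ⊔ Th θ' (k + 1)).map (toVtx I) :=
      (Submodule.quotEquivOfEq _ _ hfker).trans (f.quotKerEquivOfSurjective (Submodule.factor_surjective _))
    refine ⟨Groth.EGA41Two.isCM_of_equiv e (isCM_quotSMulTop hM hlm hlregL), ?_⟩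
    rw [← Module.supportDim_eq_of_equiv e, Nat.cast_succ, add_comm (k : WithBot ℕ∞) 1, ← add_assoc,
      Module.supportDim_quotSMulTop_succ_eq_supportDim hlregL hlm]
    exact hdim

theorem cm_of_vtx (hI : HStable I) (hcm : LocCoh.IsCohenMacaulayLocalRing (Localization.AtPrime (vtx I))) :
    LocCoh.IsCohenMacaulayRing (MvPolynomial (Fin N) K ⧸ I) := by
  classical
  set L := Localization.AtPrime (vtx I)
  haveI : IsNoetherianRing L := IsLocalization.isNoetherianRing (vtx I).primeCompl _ inferInstance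
  obtain ⟨d, hd⟩ : ∃ d : ℕ, ringKrullDim L = (d : WithBot ℕ∞) := by
    have h := hcm.supportDim_eq_depth
    rw [Module.supportDim_self_eq_ringKrullDim] at h
    obtain ⟨n, hn⟩ := exists_depth_eq (R := L) L
    exact ⟨n, by rw [h, hn]; rfl⟩
  obtain ⟨θ, hθ, hreg, -, hdim⟩ := exists_forms I hd hcm d le_rfl
  set Q := I ⊔ Th θ d with hQ
  have h0 : ringKrullDim (L ⧸ Q.map (toVtx I)) ≤ 0 := by
    rw [← Module.supportDim_quotient_eq_ringKrullDim]
    cases hS : Module.supportDim L (L ⧸ Q.map (toVtx I)) with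
    | bot => exact _root_.bot_le
    | coe a =>
      rw [hS] at hdim
      rw [← WithBot.coe_zero, WithBot.coe_le_coe]
      cases a with
      | top => exact absurd hdim (by exact_mod_cast (ENat.top_ne_coe d))
      | coe b =>
        have : b + d = d := by exact_mod_cast hdim
        exact_mod_cast (show b ≤ 0 by omega)
  have hrad : idealOfVars (Fin N) K ≤ Q.radical := by
    rw [idealOfVars, Ideal.span_le]
    rintro _ ⟨i, rfl⟩
    have hmem : toVtx I (X i) ∈ (Q.map (toVtx I)).radical := by
      rw [Ideal.radical_eq_sInf, Submodule.mem_sInf]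
      rintro P ⟨hQP, hP⟩
      have hPm : P = maximalIdeal L := by
        by_contra hne
        haveI : (Ideal.map (Ideal.Quotient.mk (Q.map (toVtx I))) P).IsPrime :=
          Ideal.map_isPrime_of_surjective Ideal.Quotient.mk_surjective (by rwa [Ideal.mk_ker])
        haveI hmp : ((maximalIdeal L).map (Ideal.Quotient.mk (Q.map (toVtx I)))).IsPrime :=
          Ideal.map_isPrime_of_surjective Ideal.Quotient.mk_surjective
            (by rw [Ideal.mk_ker]; exact hQP.trans (le_maximalIdeal hP.ne_top))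
        have hlt : (⟨Ideal.map (Ideal.Quotient.mk (Q.map (toVtx I))) P, inferInstance⟩ :
            PrimeSpectrum (L ⧸ Q.map (toVtx I))) < ⟨_, hmp⟩ := by
          show Ideal.map (Ideal.Quotient.mk _) P < (maximalIdeal L).map (Ideal.Quotient.mk _)
          refine lt_of_le_of_ne (Ideal.map_mono (le_maximalIdeal hP.ne_top)) fun he => hne ?_
          have h5 := congrArg (Ideal.comap (Ideal.Quotient.mk (Q.map (toVtx I)))) he
          rwa [Ideal.comap_map_mk hQP, Ideal.comap_map_mk (hQP.trans (le_maximalIdeal hP.ne_top))] at h5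
        exact absurd (Order.krullDim_nonpos_iff_forall_isMax.1 h0 _ hlt.le) (not_le_of_gt hlt)
      rw [hPm, ← map_vtx_eq I]
      exact Ideal.mem_map_of_mem _ (by simp)
    obtain ⟨n, hn⟩ := hmem
    rw [← map_pow] at hn
    obtain ⟨t, ht, htn⟩ := (toVtx_mem_iff I le_sup_left).1 hn
    refine ⟨n, ?_⟩
    have hQst : HStable Q := hI.sup (hstable_Th hθ d)
    have hXn : (X i ^ n : MvPolynomial (Fin N) K).IsHomogeneous n := isHomogeneous_X_pow i n
    have h4 := hQst _ htn n
    rw [comp_mul_of_isHomogeneous hXn, if_pos le_rfl, Nat.sub_self, homogeneousComponent_zero,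
      ← constantCoeff_eq] at h4
    have := Q.mul_mem_left (C (constantCoeff t)⁻¹) h4
    rwa [← mul_assoc, ← map_mul, inv_mul_cancel₀ ht, map_one, one_mul] at this
  obtain ⟨M, hM⟩ := Ideal.exists_pow_le_of_le_radical_of_fg hrad (idealOfVars_fg _ _)
  exact (cm_and_dim_quotient hθ hI hreg hM).1

end Groth.Smt
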