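import Groth.Agent.Smt.Schubert
import Groth.Agent.Smt.NormalLemma

/-! The big cell of a Schubert variety: `(S/J(w))[1/X_w]` is a Laurent polynomial ring over a
polynomial ring in `codeg w` variables. -/

set_option autoImplicit false

universe u

open Finset MvPolynomial W4bk4grassmannian

namespace Groth.Smt

variable {d n : ℕ}

/-- The free entries of the echelon matrices of the cell of `w`. -/
abbrev CellVar (w : Idx d n) : Type :=
  {p : Fin n × Fin d // p.1 < w.1 p.2 ∧ ∀ s, w.1 s ≠ p.1}

variable (K : Type u) [CommRing K]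

/-- Polynomials in the cell coordinates and one scaling variable. -/
abbrev CellPoly (w : Idx d n) : Type u := MvPolynomial (Option (CellVar w)) K

/-- The echelon matrix of the cell. -/
noncomputable def echMat (w : Idx d n) : Matrix (Fin n) (Fin d) (CellPoly K w) :=
  Matrix.of fun a t => if w.1 t = a then 1 else
    if h : a < w.1 t ∧ ∀ s, w.1 s ≠ a then X (some ⟨(a, t), h⟩) else 0

variable (hd : 0 < d)

/-- The echelon matrix with its first column scaled. -/
noncomputable def cellMat (w : Idx d n) : Matrix (Fin n) (Fin d) (CellPoly K w) :=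
  Matrix.of fun a t => (if t = (⟨0, hd⟩ : Fin d) then X none else 1) * echMat K w a t

/-- The parametrisation of the cone over the cell. -/
noncomputable def cellHom (w : Idx d n) : PlRing K d n →ₐ[K] CellPoly K w :=
  aeval fun θ : Idx d n => det' (cellMat K hd w) θ.1

variable {K}

theorem det'_cellMat (w : Idx d n) (a : Fin d → Fin n) :
    det' (cellMat K hd w) a = X none * det' (echMat K w) a := by
  have e : (cellMat K hd w).submatrix a id = (echMat K w).submatrix a id *
      Matrix.diagonal (fun t => if t = (⟨0, hd⟩ : Fin d) then X none else 1) := by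
    ext s t
    rw [Matrix.mul_diagonal, mul_comm]
    rfl
  rw [det', e, Matrix.det_mul, Matrix.det_diagonal, Finset.prod_ite_eq', if_pos (mem_univ _), det',
    mul_comm]

theorem det'_update {R : Type u} [CommRing R] (M : Matrix (Fin n) (Fin d) R) (w : Idx d n)
    (hM : M.submatrix w.1 id = 1) (s : Fin d) (a : Fin n) :
    det' M (Function.update w.1 s a) = M a s := by
  have e : M.submatrix (Function.update w.1 s a) id =
      (1 : Matrix (Fin d) (Fin d) R).updateRow s
        (∑ k, M a k • (1 : Matrix (Fin d) (Fin d) R) k) := by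
    ext i j
    rw [Matrix.submatrix_apply, id, Matrix.updateRow_apply, Function.update_apply]
    split_ifs
    · rw [Finset.sum_apply, Finset.sum_eq_single j]
      · simp
      · intro k _ hk; simp [hk]
      · simp
    · rw [← hM]; rfl
  rw [det', e, Matrix.det_updateRow_sum, Matrix.det_one, smul_eq_mul, mul_one]

theorem echMat_submatrix (w : Idx d n) : (echMat K w).submatrix w.1 id = 1 := by
  ext s t
  rw [Matrix.submatrix_apply, id]
  unfold echMat
  rw [Matrix.of_apply, Matrix.one_apply]
  by_cases h : s = t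
  · subst h; simp
  · rw [if_neg (fun e => h (w.2.injective e).symm), if_neg h, dif_neg (fun hh => hh.2 s rfl)]

theorem cellHom_X_self (w : Idx d n) : cellHom K hd w (X w) = X none := by
  rw [cellHom, aeval_X, det'_cellMat, det', echMat_submatrix, Matrix.det_one, mul_one]

theorem exists_pow_mul (w : Idx d n) (p : CellPoly K w) :
    ∃ (k : ℕ) (a : PlRing K d n), cellHom K hd w (X w) ^ k * p = cellHom K hd w a := by
  induction p using MvPolynomial.induction_on with
  | C c => exact ⟨0, C c, by simp⟩
  | add p q hp hq =>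
    obtain ⟨k, a, ha⟩ := hp
    obtain ⟨l, b, hb⟩ := hq
    refine ⟨k + l, X w ^ l * a + X w ^ k * b, ?_⟩
    rw [map_add, map_mul, map_mul, map_pow, map_pow, ← ha, ← hb]
    ring
  | mul_X p o hp =>
    obtain ⟨k, a, ha⟩ := hp
    rcases o with _ | ⟨⟨x, t⟩, hxt⟩
    · refine ⟨k, a * X w, ?_⟩
      rw [map_mul, ← ha, cellHom_X_self]
      ring
    · refine ⟨k + 1, a * coord K d n (Function.update w.1 t x), ?_⟩
      rw [map_mul, ← ha, pow_succ]
      have : cellHom K hd w (coord K d n (Function.update w.1 t x)) =
          X none * X (some ⟨(x, t), hxt⟩) := by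
        rw [cellHom, aeval_coord, det'_cellMat, det'_update _ w (echMat_submatrix w)]
        congr 1
        simp only [echMat, Matrix.of_apply]
        rw [if_neg (hxt.2 t), dif_pos hxt]
      rw [this, cellHom_X_self]
      ring

theorem det'_eq_zero_of_not_le {R : Type u} [CommRing R] {w φ : Idx d n} (h : ¬ φ ≤ w)
    (M : Matrix (Fin n) (Fin d) R) (hM : ∀ a t, ¬ a ≤ w.1 t → M a t = 0) :
    det' M φ.1 = 0 := by
  rw [det', Matrix.det_apply]
  refine Finset.sum_eq_zero fun σ _ => ?_
  suffices ∃ t, ¬ φ.1 (σ t) ≤ w.1 t by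
    obtain ⟨t, ht⟩ := this
    rw [Finset.prod_eq_zero (mem_univ t), smul_zero]
    exact hM _ _ ht
  simp only [idx_le_iff, not_forall, not_le] at h
  obtain ⟨s, hs⟩ := h
  by_contra hc
  push Not at hc
  have hsub : (Finset.Iic s).image σ ⊆ Finset.Iio s := by
    intro y hy
    obtain ⟨t, ht, rfl⟩ := mem_image.1 hy
    rw [mem_Iio]
    by_contra hle
    have h1 : φ.1 s ≤ φ.1 (σ t) := φ.2.monotone (not_lt.1 hle)
    have h2 : w.1 t ≤ w.1 s := w.2.monotone (mem_Iic.1 ht)
    exact absurd (hc t) (not_le.2 (lt_of_le_of_lt h2 (lt_of_lt_of_le hs h1)))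
  have := card_le_card hsub
  rw [card_image_of_injective _ σ.injective, Fin.card_Iic, Fin.card_Iio] at this
  omega

theorem plIdeal_le_ker_cellHom (w : Idx d n) :
    plIdeal K w ≤ RingHom.ker (cellHom K hd w).toRingHom := by
  refine Ideal.span_le.2 ?_
  rintro f (⟨i, j, r, -, rfl⟩ | ⟨φ, hφ, rfl⟩)
  · exact aeval_shuffleRel _ i j r
  · show cellHom K hd w (X φ) = 0
    rw [cellHom, aeval_X]
    refine det'_eq_zero_of_not_le hφ _ fun a t hat => ?_
    simp only [cellMat, echMat, Matrix.of_apply]
    rw [if_neg (fun e : w.1 t = a => hat (le_of_eq e.symm)), dif_neg (fun hh => hat hh.1.le), mul_zero]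

theorem key_update_lt (w : Idx d n) (s : Fin d) (a : Fin n) (ha : w.1 s < a) :
    key w < ∑ t, (Function.update w.1 s a t).val := by
  refine Finset.sum_lt_sum (fun t _ => ?_) ⟨s, mem_univ s, ?_⟩
  · rcases eq_or_ne t s with rfl | ht
    · simp only [Function.update_self]; exact ha.le
    · simp [ht]
  · simp only [Function.update_self]; exact ha

theorem det_update_eq_zero {R : Type u} [CommRing R] (A : Matrix (Fin n) (Fin d) R) (w : Idx d n)
    (hA : ∀ φ : Idx d n, ¬ φ ≤ w → det' A φ.1 = 0) (s : Fin d) (a : Fin n) (ha : w.1 s < a) :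
    det' A (Function.update w.1 s a) = 0 := by
  rw [det'_eq_coord]
  split
  · next h =>
    rw [hA, mul_zero]
    intro hle
    have h1 := key_mono hle
    have h2 := key_update_lt w s a ha
    have hinj : Set.InjOn (Function.update w.1 s a) ↑(univ : Finset (Fin d)) :=
      Finset.card_image_iff.1 (by rw [h, card_fin])
    have h3 : key (sortIdx d n _ h) = ∑ t, (Function.update w.1 s a t).val := by
      rw [key, ← sum_image (f := fun z : Fin n => z.val) hinj]
      conv_rhs => rw [← Finset.map_orderEmbOfFin_univ _ h, Finset.sum_map]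
      rfl
    omega
  · rfl

variable {K : Type u} [Field K] [Infinite K]

theorem X_notMem_schubertVanishing (hdn : d ≤ n) {w θ : Idx d n} (hd : 0 < d) (h : θ ≤ w) :
    (X θ : PlRing K d n) ∉ schubertVanishing K d n w := by
  intro hm
  rw [← sm_pairChain_single (K := K)] at hm
  have h1 := coeff_eq_zero_of_mem K hd hdn (τ := w)
    (Finsupp.single (⟨1, fun _ => θ, fun _ _ _ => le_rfl⟩ : Chain d n) 1)
    (by rw [Finsupp.sum_single_index (h := fun C (c : K) => c • sm K C) (zero_smul K _), one_smul]
        exact hm)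
    (C := ⟨1, fun _ => θ, fun _ _ _ => le_rfl⟩) (fun _ => h)
  rw [Finsupp.single_eq_same] at h1
  exact one_ne_zero h1

theorem ker_cellHom (hd : 0 < d) (hdn : d ≤ n) (w : Idx d n) :
    RingHom.ker (cellHom K hd w).toRingHom = schubertVanishing K d n w := by
  classical
  refine le_antisymm (fun f hf => ?_)
    ((schubertVanishing_eq_plIdeal K hd hdn w).trans_le (plIdeal_le_ker_cellHom hd w))
  refine ((schubertVanishing_isPrime K hd hdn w).mem_or_mem (x := X w) (y := f) ?_).resolve_left
    (X_notMem_schubertVanishing hdn hd le_rfl)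
  simp only [schubertVanishing, Ideal.mem_iInf]
  intro A hA
  rw [RingHom.mem_ker]
  show evalMinors K d n A (X w * f) = 0
  rw [map_mul, evalMinors, aeval_X]
  by_cases hc : (A.submatrix w.1 id).det = 0
  · rw [hc, zero_mul]
  set c := (A.submatrix w.1 id).det with hc_def
  set A' := A * (A.submatrix w.1 id)⁻¹ with hA'
  have hdet : ∀ b : Fin d → Fin n, det' A' b = det' A b * c⁻¹ := by
    intro b
    rw [det', hA', show (A * (A.submatrix w.1 id)⁻¹).submatrix b id =
      A.submatrix b id * (A.submatrix w.1 id)⁻¹ from rfl, Matrix.det_mul, Matrix.det_nonsing_inv,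
      Ring.inverse_eq_inv', det', ← hc_def]
  have hone : A'.submatrix w.1 id = 1 := by
    rw [hA', show (A * (A.submatrix w.1 id)⁻¹).submatrix w.1 id =
      A.submatrix w.1 id * (A.submatrix w.1 id)⁻¹ from rfl]
    exact Matrix.mul_nonsing_inv _ (isUnit_iff_ne_zero.2 hc)
  let z : Option (CellVar w) → K := fun o => o.elim c fun p => A' p.1.1 p.1.2
  have hmap : (echMat K w).map (eval z) = A' := by
    ext a t
    simp only [Matrix.map_apply, echMat, Matrix.of_apply]
    split_ifs with h1 h2
    · rw [map_one, ← h1]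
      have := congrFun (congrFun hone t) t
      rw [Matrix.submatrix_apply, id, Matrix.one_apply_eq] at this
      rw [this]
    · rw [eval_X]; rfl
    · rw [map_zero]
      rw [not_and_or, not_lt, not_forall] at h2
      rcases h2 with h2 | ⟨s, h2⟩
      · rw [← det'_update A' w hone t a, hdet, det_update_eq_zero A w hA t a (lt_of_le_of_ne h2 h1),
          zero_mul]
      · rw [not_not] at h2
        have := congrFun (congrFun hone s) t
        rw [Matrix.submatrix_apply, id, h2, Matrix.one_apply_ne (fun e : s = t => h1 (e ▸ h2))] at this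
        exact this.symm
  have key' : ((aeval z).comp (cellHom K hd w) : PlRing K d n →ₐ[K] K) = evalMinors K d n A := by
    refine algHom_ext fun θ => ?_
    rw [AlgHom.comp_apply, cellHom, aeval_X, det'_cellMat, evalMinors, aeval_X, aeval_eq_eval,
      map_mul, eval_X]
    show c * eval z (det' (echMat K w) θ.1) = _
    have : eval z (det' (echMat K w) θ.1) = det' A' θ.1 := by
      rw [det', RingHom.map_det, det', ← hmap]
      rfl
    rw [this, hdet, ← mul_assoc, mul_comm c, mul_assoc, mul_inv_cancel₀ hc, mul_one, det']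
  have h0 : evalMinors K d n A f = 0 := by
    rw [← key', AlgHom.comp_apply]
    rw [show cellHom K hd w f = 0 from hf, map_zero]
  rw [show (aeval fun θ : Idx d n => (A.submatrix θ.1 id).det) f = 0 from h0, mul_zero]

/-- The coordinate ring of the cone over `X(w)` inside the cell polynomial ring. -/
noncomputable def cellEmb (hd : 0 < d) (hdn : d ≤ n) (w : Idx d n) :
    (PlRing K d n ⧸ schubertVanishing K d n w) →+* CellPoly K w :=
  Ideal.Quotient.lift _ (cellHom K hd w).toRingHom (fun a ha => by rwa [← ker_cellHom hd hdn w] at ha)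

theorem cellEmb_mk (hd : 0 < d) (hdn : d ≤ n) (w : Idx d n) (f : PlRing K d n) :
    cellEmb hd hdn w (Ideal.Quotient.mk _ f) = cellHom K hd w f := rfl

theorem cellEmb_injective (hd : 0 < d) (hdn : d ≤ n) (w : Idx d n) :
    Function.Injective (cellEmb (K := K) hd hdn w) := by
  rw [injective_iff_map_eq_zero]
  intro x hx
  obtain ⟨f, rfl⟩ := Ideal.Quotient.mk_surjective x
  rw [cellEmb_mk] at hx
  rw [Ideal.Quotient.eq_zero_iff_mem, ← ker_cellHom hd hdn w]
  exact hx

theorem cellEmb_agree (hd : 0 < d) (hdn : d ≤ n) (w : Idx d n) (p : CellPoly K w) :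
    ∃ k a, cellEmb hd hdn w (Ideal.Quotient.mk _ (X w)) ^ k * p = cellEmb hd hdn w a := by
  obtain ⟨k, a, ha⟩ := exists_pow_mul hd w p
  exact ⟨k, Ideal.Quotient.mk _ a, ha⟩

end Groth.Smt
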