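import Groth.Agent.Smt.DegFamily
import Groth.Agent.Smt.Expansion
import Groth.Agent.Smt.Cell

/-! Degenerations of the cones over Schubert varieties to the Hibi and Stanley–Reisner rings. -/

set_option autoImplicit false

universe u

open Finset W4bk4grassmannian

namespace Groth.Smt

variable {d n : ℕ} (K : Type u) [Field K] [Infinite K] (w : Idx d n)

/-- The generators of the coordinate ring. -/
noncomputable def schubGen (θ : Below w) : PlRing K d n ⧸ schubertVanishing K d n w :=
  Ideal.Quotient.mk _ (MvPolynomial.X θ.1)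

theorem prod_schubGen (C : (Σ m : ℕ, {c : Fin m → Below w // Antitone c})) :
    ∏ l, schubGen K w (C.2.1 l) = Ideal.Quotient.mk _
      (sm K (⟨C.1, fun l => (C.2.1 l).1, fun _ _ h => C.2.2 h⟩ : Chain d n)) := by
  rw [sm, chainMon, map_prod]
  rfl

theorem schubGen_li (hd : 0 < d) (hdn : d ≤ n) :
    LinearIndependent K fun C : (Σ m : ℕ, {c : Fin m → Below w // Antitone c}) =>
      ∏ l, schubGen K w (C.2.1 l) := by
  classical
  rw [linearIndependent_iff']
  intro s g hg C hC
  let e : (Σ m : ℕ, {c : Fin m → Below w // Antitone c}) → Chain d n :=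
    fun C => ⟨C.1, fun l => (C.2.1 l).1, fun _ _ h => C.2.2 h⟩
  have he : Function.Injective e := by
    rintro ⟨m, c, hc⟩ ⟨m', c', hc'⟩ h
    simp only [e] at h
    obtain ⟨h1, h2⟩ := Sigma.mk.inj_iff.1 h
    subst h1
    have h3 := congrArg Subtype.val (eq_of_heq h2)
    obtain rfl : c = c' := funext fun l => Subtype.ext (congrFun h3 l)
    rfl
  let L : Chain d n →₀ K := ∑ D ∈ s, Finsupp.single (e D) (g D)
  have hL : (L.sum fun D c => c • sm K D) = ∑ D ∈ s, g D • sm K (e D) := by
    simp only [L]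
    rw [← Finsupp.sum_finsetSum_index (h := fun D (c : K) => c • sm K D) (fun _ => zero_smul K _)
      (fun _ _ _ => add_smul _ _ _)]
    exact sum_congr rfl fun D _ => Finsupp.sum_single_index (h := fun E (c : K) => c • sm K E) (zero_smul K _)
  have hmem : (L.sum fun D c => c • sm K D) ∈ schubertVanishing K d n w := by
    rw [hL, ← Ideal.Quotient.eq_zero_iff_mem, map_sum, ← hg]
    refine sum_congr rfl fun D _ => ?_
    rw [prod_schubGen]
    exact map_smul (Ideal.Quotient.mkₐ K (schubertVanishing K d n w)) _ _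
  have h1 := coeff_eq_zero_of_mem K hd hdn L hmem (C := e C) (fun k => (C.2.1 k).2)
  simp only [L] at h1
  rw [Finsupp.finsetSum_apply, Finset.sum_eq_single C] at h1
  · simpa using h1
  · intro D _ hD
    rw [Finsupp.single_eq_of_ne]
    exact fun h => hD (he h).symm
  · exact fun h => absurd hC h

theorem stdSpan_schubGen :
    stdSpan K (schubGen K w) = ⊤ := by
  refine top_le_iff.1 fun z _ => ?_
  obtain ⟨f, rfl⟩ := Ideal.Quotient.mk_surjective z
  obtain ⟨l, hl⟩ := exists_expand K f
  rw [Ideal.Quotient.eq.2 (plIdealTop_le_schubertVanishing K w hl), map_finsuppSum]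
  refine Submodule.sum_mem _ fun C _ => ?_
  rw [← Ideal.Quotient.mkₐ_eq_mk (R₁ := K)]
  dsimp only
  rw [map_smul]
  refine Submodule.smul_mem _ _ ?_
  by_cases hC : ∀ k, C.2.1 k ≤ w
  · refine Submodule.subset_span ⟨⟨C.1, fun k => ⟨C.2.1 k, hC k⟩, fun _ _ h => C.2.2 h⟩, ?_⟩
    exact (prod_schubGen K w _).trans rfl
  · rw [Ideal.Quotient.mkₐ_eq_mk, Ideal.Quotient.eq_zero_iff_mem.2 (sm_mem_schubertVanishing K hC)]
    exact Submodule.zero_mem _

theorem schub_straighten (hd : 0 < d) (a b : Below w) :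
    schubGen K w a * schubGen K w b - schubGen K w (Below.sup a b) * schubGen K w (Below.inf a b) ∈
      Submodule.span K {z | ∃ α β : Below w, W4bk4grassmannian.sup a.1 b.1 < α.1 ∧
        β.1 < W4bk4grassmannian.inf a.1 b.1 ∧ key α.1 + key β.1 = key a.1 + key b.1 ∧
        wt (expOf α.1.1 + expOf β.1.1) < wt (expOf a.1.1 + expOf b.1.1) ∧
        z = schubGen K w α * schubGen K w β} := by
  classical
  obtain ⟨l, hl⟩ := exists_expand K (MvPolynomial.X a.1 * MvPolynomial.X b.1 : PlRing K d n)
  obtain ⟨h1, h2⟩ := pair_expansion hd a.1 b.1 hl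
  set C₀ := pairChain (W4bk4grassmannian.sup a.1 b.1) (W4bk4grassmannian.inf a.1 b.1)
    (idxInf_le_sup a.1 b.1)
  have e0 : schubGen K w a * schubGen K w b = Ideal.Quotient.mkₐ K (schubertVanishing K d n w)
      (l.sum fun C c => c • sm K C) := by
    show Ideal.Quotient.mk _ _ * Ideal.Quotient.mk _ _ = _
    rw [← map_mul, Ideal.Quotient.mkₐ_eq_mk, Ideal.Quotient.eq.2 (plIdealTop_le_schubertVanishing K w hl)]
  rw [e0, Finsupp.sum, map_sum, ← Finset.add_sum_erase _ _ (show C₀ ∈ l.support from
    Finsupp.mem_support_iff.2 (by rw [h1]; exact one_ne_zero)), h1, one_smul,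
    show Ideal.Quotient.mkₐ K (schubertVanishing K d n w) (sm K C₀) =
      schubGen K w (Below.sup a b) * schubGen K w (Below.inf a b) by
      rw [sm_pairChain, map_mul]; rfl, add_sub_cancel_left]
  refine Submodule.sum_mem _ fun C hC => ?_
  rw [mem_erase, Finsupp.mem_support_iff] at hC
  obtain ⟨α, β, hba, rfl, hα, hβ, hkey, hwt⟩ := h2 C hC.2 hC.1
  rw [map_smul]
  refine Submodule.smul_mem _ _ ?_
  rw [sm_pairChain, map_mul]
  by_cases hw : α ≤ w
  · exact Submodule.subset_span ⟨⟨α, hw⟩, ⟨β, hba.trans hw⟩, hα, hβ, hkey, hwt, rfl⟩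
  · rw [show Ideal.Quotient.mkₐ K (schubertVanishing K d n w) (MvPolynomial.X α) = 0 from
      Ideal.Quotient.eq_zero_iff_mem.2 (X_mem_of_not_le K hw), zero_mul]
    exact Submodule.zero_mem _
where
  X_mem_of_not_le (K : Type u) [Field K] {α : Idx d n} (h : ¬ α ≤ w) :
      (MvPolynomial.X α : PlRing K d n) ∈ schubertVanishing K d n w :=
    plIdeal_le_schubertVanishing K w (Ideal.subset_span (Or.inr ⟨α, h, rfl⟩))

theorem key_lt_of_skew {a b : Below w} (h1 : ¬ a ≤ b) (h2 : ¬ b ≤ a) :
    key a.1 < key (W4bk4grassmannian.sup a.1 b.1) ∧ key b.1 < key (W4bk4grassmannian.sup a.1 b.1) :=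
  ⟨key_strictMono (lt_of_le_of_ne (le_idxSup_left _ _) fun h => h2 (by
      have := le_idxSup_right a.1 b.1
      rw [← h] at this
      exact this)),
    key_strictMono (lt_of_le_of_ne (le_idxSup_right _ _) fun h => h1 (by
      have := le_idxSup_left a.1 b.1
      rw [← h] at this
      exact this))⟩

/-- The weight of the Hibi degeneration. -/
def hibiWt (θ : Below w) : ℕ := ∑ t, (θ.1.1 t).val * t.val

theorem wt_add_eq (a b : Below w) : wt (expOf a.1.1 + expOf b.1.1) = hibiWt w a + hibiWt w b := by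
  rw [show wt (expOf a.1.1 + expOf b.1.1) = wt (expOf a.1.1) + wt (expOf b.1.1) from map_add _ _ _,
    wt_expOf, wt_expOf]
  rfl

theorem exists_hibi_family (hd : 0 < d) (hdn : d ≤ n) :
    ∃ (R : Type u) (_ : CommRing R) (_ : Algebra K R) (_ : Algebra (Polynomial K) R)
      (_ : IsScalarTower K (Polynomial K) R),
      Module.Free (Polynomial K) R ∧
      Nonempty ((R ⧸ Ideal.span {algebraMap (Polynomial K) R Polynomial.X}) ≃ₐ[K]
        (MvPolynomial (Below w) K ⧸ hibiIdeal K w)) ∧
      ∀ c : K, c ≠ 0 →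
        Nonempty ((R ⧸ Ideal.span {algebraMap (Polynomial K) R (Polynomial.X - Polynomial.C c)}) ≃ₐ[K]
          (PlRing K d n ⧸ schubertVanishing K d n w)) := by
  classical
  have hdat : ∀ a b : Below w, ¬ a ≤ b → ¬ b ≤ a →
      StrDatum (schubGen K w) (fun θ : Below w => key θ.1) (hibiWt w) a b (1 : K)
        (Below.sup a b) (Below.inf a b) := by
    intro a b hab hba
    obtain ⟨hka, hkb⟩ := key_lt_of_skew w hab hba
    refine ⟨fun _ => ⟨hka, hkb, ?_⟩, ?_⟩
    · rw [← wt_add_eq, ← wt_add_eq]
      show wt (expOf (W4bk4grassmannian.sup a.1 b.1).1 + expOf (W4bk4grassmannian.inf a.1 b.1).1) = _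
      rw [expOf_sup_add_inf]
    · rw [one_smul]
      refine Submodule.span_mono ?_ (schub_straighten K w hd a b)
      rintro z ⟨α, β, hα, -, -, hwt, rfl⟩
      rw [wt_add_eq, wt_add_eq] at hwt
      exact ⟨α, β, hka.trans (key_strictMono hα), hkb.trans (key_strictMono hα), hwt, rfl⟩
  refine exists_degeneration (schubGen K w) (fun θ : Below w => key θ.1) (hibiWt w)
    (fun a b h => key_strictMono h) (schubGen_li K w hd hdn) (stdSpan_schubGen K w)
    {f | ∃ a b : Below w, f = MvPolynomial.X a * MvPolynomial.X b -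
      MvPolynomial.X (Below.sup a b) * MvPolynomial.X (Below.inf a b)} ?_ ?_
  · intro a b hab hba
    refine ⟨1, _, _, hdat a b hab hba, ?_⟩
    rw [one_smul]
    exact Ideal.subset_span ⟨a, b, rfl⟩
  · rintro g ⟨a, b, rfl⟩
    by_cases hab : a ≤ b
    · left
      rw [show Below.sup a b = b from Subtype.ext (Subtype.ext (funext fun t => max_eq_right (hab t))),
        show Below.inf a b = a from Subtype.ext (Subtype.ext (funext fun t => min_eq_left (hab t))),
        mul_comm, sub_self]
    by_cases hba : b ≤ a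
    · left
      rw [show Below.sup a b = a from Subtype.ext (Subtype.ext (funext fun t => max_eq_left (hba t))),
        show Below.inf a b = b from Subtype.ext (Subtype.ext (funext fun t => min_eq_right (hba t))),
        sub_self]
    · exact Or.inr ⟨a, b, 1, _, _, hdat a b hab hba, by rw [one_smul]⟩

/-- A bound for the keys. -/
def keyBd : ℕ := ∑ φ : Idx d n, key φ

/-- The weight of the Stanley–Reisner degeneration: strictly concave in the key. -/
def srWt (θ : Below w) : ℕ := keyBd (d := d) (n := n) ^ 2 - key θ.1 ^ 2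

theorem exists_sr_family (hd : 0 < d) (hdn : d ≤ n) :
    ∃ (R : Type u) (_ : CommRing R) (_ : Algebra K R) (_ : Algebra (Polynomial K) R)
      (_ : IsScalarTower K (Polynomial K) R),
      Module.Free (Polynomial K) R ∧
      Nonempty ((R ⧸ Ideal.span {algebraMap (Polynomial K) R Polynomial.X}) ≃ₐ[K]
        (MvPolynomial (Below w) K ⧸ srIdeal K w)) ∧
      ∀ c : K, c ≠ 0 →
        Nonempty ((R ⧸ Ideal.span {algebraMap (Polynomial K) R (Polynomial.X - Polynomial.C c)}) ≃ₐ[K]
          (PlRing K d n ⧸ schubertVanishing K d n w)) := by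
  classical
  have hdat : ∀ a b : Below w, ¬ a ≤ b → ¬ b ≤ a →
      StrDatum (schubGen K w) (fun θ : Below w => key θ.1) (srWt w) a b (0 : K) a b := by
    intro a b hab hba
    obtain ⟨hka, hkb⟩ := key_lt_of_skew w hab hba
    refine ⟨fun h => absurd rfl h, ?_⟩
    have hlt : ∀ α β : Below w, key (W4bk4grassmannian.sup a.1 b.1) ≤ key α.1 →
        key α.1 + key β.1 = key a.1 + key b.1 → srWt w α + srWt w β < srWt w a + srWt w b := by
      intro α β hα hk
      have hB : ∀ θ : Below w, key θ.1 ^ 2 ≤ keyBd (d := d) (n := n) ^ 2 := fun θ =>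
        Nat.pow_le_pow_left (single_le_sum (fun _ _ => Nat.zero_le _) (mem_univ θ.1)) 2
      have := hB α
      have := hB β
      have := hB a
      have := hB b
      have h2 : key a.1 ^ 2 + key b.1 ^ 2 < key α.1 ^ 2 + key β.1 ^ 2 := by nlinarith
      simp only [srWt]
      omega
    have h := schub_straighten K w hd a b
    rw [zero_smul, sub_zero,
      show schubGen K w a * schubGen K w b = (schubGen K w a * schubGen K w b -
        schubGen K w (Below.sup a b) * schubGen K w (Below.inf a b)) +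
        schubGen K w (Below.sup a b) * schubGen K w (Below.inf a b) from (sub_add_cancel _ _).symm]
    refine Submodule.add_mem _ (Submodule.span_mono ?_ h) (Submodule.subset_span ?_)
    · rintro z ⟨α, β, hα, -, hk, -, rfl⟩
      exact ⟨α, β, hka.trans (key_strictMono hα), hkb.trans (key_strictMono hα),
        hlt α β (key_strictMono hα).le hk, rfl⟩
    · exact ⟨Below.sup a b, Below.inf a b, hka, hkb,
        hlt _ _ le_rfl (key_sup_add_key_inf a.1 b.1), rfl⟩
  refine exists_degeneration (schubGen K w) (fun θ : Below w => key θ.1) (srWt w)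
    (fun a b h => key_strictMono h) (schubGen_li K w hd hdn) (stdSpan_schubGen K w)
    {f | ∃ a b : Below w, ¬ a ≤ b ∧ ¬ b ≤ a ∧ f = MvPolynomial.X a * MvPolynomial.X b} ?_ ?_
  · intro a b hab hba
    refine ⟨0, _, _, hdat a b hab hba, ?_⟩
    rw [zero_smul, sub_zero]
    exact Ideal.subset_span ⟨a, b, hab, hba, rfl⟩
  · rintro g ⟨a, b, hab, hba, rfl⟩
    exact Or.inr ⟨a, b, 0, a, b, hdat a b hab hba, by rw [zero_smul, sub_zero]⟩

end Groth.Smt
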