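import Groth.Agent.Smt.Relations
import Groth.Prelude.Def_CAlgX
import Mathlib.LinearAlgebra.Matrix.Block

/-! The minors of `[I_d ; Z]` and the determinantal ideals of `Z`. -/

set_option autoImplicit false

universe u

open Finset W4bk4grassmannian

namespace Groth.Smt

theorem det_submatrix_mem {R : Type u} [CommRing R] {m n : Type} [Fintype m] [Fintype n]
    (A : Matrix m n R) (t : ℕ) :
    ∀ s, t ≤ s → ∀ (f : Fin s → m) (g : Fin s → n),
      (A.submatrix f g).det ∈ CAlgX.minorIdeal A t := by
  intro s hs
  induction s, hs using Nat.le_induction with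
  | base => intro f g; exact Ideal.subset_span ⟨(f, g), rfl⟩
  | succ s _ ih =>
    intro f g
    rw [Matrix.det_succ_row_zero]
    refine Ideal.sum_mem _ fun j _ => Ideal.mul_mem_left _ _ ?_
    rw [Matrix.submatrix_submatrix]
    exact ih _ _

variable (K : Type u) [CommRing K] (d r : ℕ)

theorem cellMatrix_apply_of_le (a : Fin (d + r)) (h : d ≤ a.val) (j : Fin d) :
    cellMatrix K d r a j = genMatrix K r d ⟨a.val - d, by omega⟩ j := by
  rw [cellMatrix, Matrix.of_apply, dif_neg (by omega)]
  rfl

theorem det_cellMatrix_mem (t : ℕ) : ∀ (m : ℕ) (a : Fin m → Fin (d + r)) (g : Fin m → Fin d),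
    t ≤ (univ.filter fun i => d ≤ (a i).val).card →
    ((cellMatrix K d r).submatrix a g).det ∈ CAlgX.minorIdeal (genMatrix K r d) t := by
  classical
  intro m
  induction m with
  | zero =>
    intro a g h
    have ht : t = 0 := by simpa using h
    subst ht
    have := det_submatrix_mem (genMatrix K r d) 0 0 le_rfl (fun i => i.elim0) g
    rw [Matrix.det_isEmpty] at this ⊢
    exact this
  | succ m ih =>
    intro a g h
    by_cases hall : ∀ i, d ≤ (a i).val
    · have e : (cellMatrix K d r).submatrix a g = (genMatrix K r d).submatrix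
          (fun i => ⟨(a i).val - d, by have := hall i; omega⟩) g := by
        refine Matrix.ext fun i j => ?_
        exact cellMatrix_apply_of_le K d r (a i) (hall i) (g j)
      rw [e]
      refine det_submatrix_mem _ t _ ?_ _ _
      exact h.trans ((card_le_univ _).trans (by simp))
    · push Not at hall
      obtain ⟨i, hi⟩ := hall
      rw [Matrix.det_succ_row _ i]
      refine Ideal.sum_mem _ fun j _ => Ideal.mul_mem_left _ _ ?_
      rw [Matrix.submatrix_submatrix]
      refine ih _ _ (h.trans (le_of_eq ?_))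
      rw [← card_map (i.succAboveEmb), Finset.map_filter']
      refine congrArg card ?_
      ext x
      simp only [mem_filter, mem_map, mem_univ, true_and, Fin.coe_succAboveEmb]
      constructor
      · intro hx
        obtain ⟨y, rfl⟩ := Fin.exists_succAbove_eq (show x ≠ i from fun e => by subst e; omega)
        exact ⟨⟨y, rfl⟩, y, hx, rfl⟩
      · rintro ⟨-, y, hy, rfl⟩
        exact hy

/-- A tuple of rows of `[I_d ; Z]` whose minor is the minor of `Z` on `(f, g)`. -/
theorem exists_tuple_minor (t : ℕ) (f : Fin t → Fin r) (g : Fin t → Fin d) (hg : Function.Injective g) :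
    ∃ a : Fin d → Fin (d + r), det' (cellMatrix K d r) a = ((genMatrix K r d).submatrix f g).det ∧
      ∀ x, x ∈ univ.image a ↔
        (∃ i, Fin.natAdd d (f i) = x) ∨ ∃ c, c ∉ Set.range g ∧ Fin.castAdd r c = x := by
  classical
  let e : Fin t ⊕ ↥(Set.range g)ᶜ ≃ Fin d :=
    (Equiv.sumCongr (Equiv.ofInjective g hg) (Equiv.refl _)).trans (Equiv.Set.sumCompl (Set.range g))
  have he1 : ∀ i, e (Sum.inl i) = g i := fun i => by simp [e]
  have he2 : ∀ j, e (Sum.inr j) = j.1 := fun j => by simp [e]
  let a' : Fin t ⊕ ↥(Set.range g)ᶜ → Fin (d + r) :=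
    Sum.elim (fun i => Fin.natAdd d (f i)) (fun j => Fin.castAdd r j.1)
  refine ⟨fun x => a' (e.symm x), ?_, ?_⟩
  · rw [det', ← Matrix.det_submatrix_equiv_self e, Matrix.submatrix_submatrix]
    have hb : (cellMatrix K d r).submatrix ((fun x => a' (e.symm x)) ∘ e) (id ∘ e) = Matrix.fromBlocks
        ((genMatrix K r d).submatrix f g)
        ((genMatrix K r d).submatrix f (fun j : ↥(Set.range g)ᶜ => j.1)) 0 1 := by
      refine Matrix.ext fun x y => ?_
      simp only [Matrix.submatrix_apply, Function.comp_apply, id, Equiv.symm_apply_apply]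
      rcases x with x | x <;> rcases y with y | y <;>
        simp only [a', Matrix.submatrix_apply,
          Sum.elim_inl, Sum.elim_inr, he1, he2, Matrix.fromBlocks_apply₁₁, Matrix.fromBlocks_apply₁₂,
          Matrix.fromBlocks_apply₂₁, Matrix.fromBlocks_apply₂₂]
      · rw [cellMatrix_apply_of_le K d r _ (by simp)]
        simp
      · rw [cellMatrix_apply_of_le K d r _ (by simp)]
        simp
      · rw [cellMatrix, Matrix.of_apply, dif_pos (by simp), Fin.val_castAdd,
          if_neg (fun h => x.2 ⟨y, (Fin.ext h).symm⟩)]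
        rfl
      · rw [cellMatrix, Matrix.of_apply, dif_pos (by simp), Matrix.one_apply]
        simp only [Fin.val_castAdd, Fin.val_inj, Subtype.coe_inj]
    rw [hb, Matrix.det_fromBlocks_zero₂₁, Matrix.det_one, mul_one]
  · intro x
    rw [mem_image]
    constructor
    · rintro ⟨y, -, rfl⟩
      rcases h : e.symm y with i | j
      · exact Or.inl ⟨i, by simp [a', h]⟩
      · exact Or.inr ⟨j.1, j.2, by simp [a', h]⟩
    · rintro (⟨i, rfl⟩ | ⟨c, hc, rfl⟩)
      · exact ⟨e (Sum.inl i), mem_univ _, by simp [a']⟩
      · exact ⟨e (Sum.inr ⟨c, hc⟩), mem_univ _, by simp [a']⟩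

/-- The minor of `Z` on `(f, g)` is up to sign a maximal minor of `[I_d ; Z]`. -/
theorem minor_mem_cellMinor_span (t : ℕ) (hd : 0 < d) (ht : 0 < t) (htd : t ≤ d)
    (f : Fin t → Fin r) (g : Fin t → Fin d) :
    ((genMatrix K r d).submatrix f g).det ∈ Ideal.span {F : CellRing K d r | ∃ θ : Idx d (d + r),
      d ≤ (θ.1 ⟨d - t, Nat.sub_lt hd ht⟩).val ∧ F = cellMinor K d r θ} := by
  classical
  by_cases hf : Function.Injective f
  swap
  · rw [Function.Injective] at hf
    push Not at hf
    obtain ⟨x, y, hxy, hne⟩ := hf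
    rw [Matrix.det_zero_of_row_eq hne (by funext j; simp [hxy])]
    exact Ideal.zero_mem _
  by_cases hg : Function.Injective g
  swap
  · rw [Function.Injective] at hg
    push Not at hg
    obtain ⟨x, y, hxy, hne⟩ := hg
    rw [Matrix.det_zero_of_column_eq hne (fun j => by simp [hxy])]
    exact Ideal.zero_mem _
  obtain ⟨a, hdet, hmem⟩ := exists_tuple_minor K d r t f g hg
  rw [← hdet, det'_eq_coord]
  split
  · next h =>
    refine Ideal.mul_mem_left _ _ (Ideal.subset_span ⟨sortIdx d (d + r) a h, ?_, rfl⟩)
    by_contra hlt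
    push Not at hlt
    set θ := sortIdx d (d + r) a h with hθ
    have hrange : univ.image θ.1 = univ.image a := by
      ext x
      have := Set.ext_iff.1 (Finset.range_orderEmbOfFin (univ.image a) h) x
      simpa [hθ, sortIdx] using this
    have hsub : univ.image (fun i : Fin t => Fin.natAdd d (f i)) ⊆
        (univ.filter fun s : Fin d => d - t < s.val).image θ.1 := by
      intro x hx
      obtain ⟨i, -, rfl⟩ := mem_image.1 hx
      have : Fin.natAdd d (f i) ∈ univ.image θ.1 := by
        rw [hrange]
        exact (hmem _).2 (Or.inl ⟨i, rfl⟩)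
      obtain ⟨s, -, hs⟩ := mem_image.1 this
      refine mem_image.2 ⟨s, mem_filter.2 ⟨mem_univ _, ?_⟩, hs⟩
      by_contra hs'
      have h1 := θ.2.monotone (show s ≤ ⟨d - t, Nat.sub_lt hd ht⟩ from not_lt.1 hs')
      rw [hs, Fin.le_def, Fin.val_natAdd] at h1
      omega
    have h1 := card_le_card hsub
    rw [card_image_of_injective _ (fun x y hxy => hf ((Fin.natAdd_injective _ _) hxy)), card_univ,
      Fintype.card_fin] at h1
    have h2 := h1.trans card_image_le
    have h3 : (univ.filter fun s : Fin d => d - t < s.val) = Finset.Ioi ⟨d - t, Nat.sub_lt hd ht⟩ := by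
      ext s; simp [Fin.lt_def]
    rw [h3, Fin.card_Ioi] at h2
    simp only at h2
    omega
  · exact Ideal.zero_mem _

end Groth.Smt
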