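import Groth.Agent.Smt.UfdLemma
import Mathlib.RingTheory.GradedAlgebra.HomogeneousLocalization
import Mathlib.RingTheory.Polynomial.UniqueFactorization

/-! Unique factorisation lifts from the homogeneous localisation at a prime of degree one. -/

set_option autoImplicit false

universe u v

open Polynomial DirectSum HomogeneousLocalization

namespace Groth.Smt

variable {K : Type u} [Field K] {R : Type v} [CommRing R] [IsDomain R] [Algebra K R]
  (𝒜 : ℕ → Submodule K R) [GradedAlgebra 𝒜] (s : R) (hs : s ∈ 𝒜 1)

/-- The fraction `a / s ^ i` for `a` of degree `i`. -/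
noncomputable def degFrac (i : ℕ) (a : 𝒜 i) : Away 𝒜 s :=
  Away.mk 𝒜 hs i a.1 (by simp)

theorem val_degFrac (i : ℕ) (a : 𝒜 i) :
    (degFrac 𝒜 s hs i a).val = Localization.mk (a : R) (⟨s ^ i, i, rfl⟩ : Submonoid.powers s) :=
  Away.val_mk _ _ _ _ _

/-- `a ↦ (a / s ^ i) T ^ i` in degree `i`. -/
noncomputable def degMono (i : ℕ) : 𝒜 i →+ Polynomial (Away 𝒜 s) where
  toFun a := monomial i (degFrac 𝒜 s hs i a)
  map_zero' := by
    rw [show degFrac 𝒜 s hs i 0 = 0 from val_injective _ (by simp [val_degFrac, Localization.mk_zero]),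
      monomial_zero_right]
  map_add' a b := by
    rw [← map_add]
    congr 1
    apply val_injective
    rw [val_add, val_degFrac, val_degFrac, val_degFrac, Localization.add_mk_self]
    rfl

/-- The decomposition into homogeneous parts as polynomials over the degree zero localisation. -/
noncomputable def degHom : R →+* Polynomial (Away 𝒜 s) :=
  (DirectSum.toSemiring (degMono 𝒜 s hs)
    (by
      show monomial 0 _ = _
      rw [show degFrac 𝒜 s hs 0 _ = 1 from val_injective _ (by
        rw [val_degFrac, val_one, ← Localization.mk_one]; congr 1; exact Subtype.ext (pow_zero s))]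
      exact monomial_zero_one)
    (fun {i j} a b => by
      show monomial (i + j) _ = monomial i _ * monomial j _
      rw [monomial_mul_monomial]
      congr 1
      apply val_injective
      rw [val_mul, val_degFrac, val_degFrac, val_degFrac, Localization.mk_mul]
      congr 1
      exact Subtype.ext (pow_add s i j))).comp
    (DirectSum.decomposeRingEquiv 𝒜).toRingHom

theorem degHom_of_mem {i : ℕ} {a : R} (ha : a ∈ 𝒜 i) :
    degHom 𝒜 s hs a = monomial i (degFrac 𝒜 s hs i ⟨a, ha⟩) := by
  rw [degHom, RingHom.comp_apply]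
  rw [show (DirectSum.decomposeRingEquiv 𝒜).toRingHom a = DirectSum.of _ i ⟨a, ha⟩ from
    DirectSum.decompose_of_mem 𝒜 ha, DirectSum.toSemiring_of]
  rfl

theorem coeff_degHom (i : ℕ) (a : R) :
    (degHom 𝒜 s hs a).coeff i = degFrac 𝒜 s hs i (DirectSum.decompose 𝒜 a i) := by
  classical
  induction a using DirectSum.Decomposition.inductionOn 𝒜 with
  | zero => simp [eq_comm, show degFrac 𝒜 s hs i 0 = 0 from
      val_injective _ (by simp [val_degFrac, Localization.mk_zero])]
  | @homogeneous j m =>
    rw [degHom_of_mem 𝒜 s hs m.2, coeff_monomial, DirectSum.decompose_coe]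
    by_cases h : j = i
    · subst h; simp
    · rw [if_neg h, DirectSum.of_eq_of_ne _ _ _ (Ne.symm h)]
      apply val_injective
      simp [val_degFrac, Localization.mk_zero]
  | add x y hx hy =>
    rw [map_add, coeff_add, hx, hy, DirectSum.decompose_add]
    apply val_injective
    rw [val_add, val_degFrac, val_degFrac, val_degFrac, Localization.add_mk_self]
    rfl

include hs in
theorem ufd_of_away [IsNoetherianRing R] (hp : Prime s)
    [UniqueFactorizationMonoid (Away 𝒜 s)] : UniqueFactorizationMonoid R := by
  classical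
  haveI : IsDomain (Localization.Away s) :=
    IsLocalization.isDomain_localization (powers_le_nonZeroDivisors_of_noZeroDivisors hp.ne_zero)
  haveI : IsDomain (Away 𝒜 s) :=
    Function.Injective.isDomain (algebraMap (Away 𝒜 s) (Localization.Away s)) (val_injective _)
  have hinj : Function.Injective (degHom 𝒜 s hs) := by
    intro a b h
    apply (DirectSum.decompose 𝒜).injective
    ext i
    have := congrArg (fun q => (Polynomial.coeff q i).val) h
    simp only [coeff_degHom, val_degFrac] at this
    rw [Localization.mk_eq_mk', IsLocalization.mk'_eq_iff_eq] at this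
    exact mul_left_cancel₀ (pow_ne_zero i hp.ne_zero)
      (IsLocalization.injective _ (powers_le_nonZeroDivisors_of_noZeroDivisors hp.ne_zero) this)
  have hs' : degHom 𝒜 s hs s = X := by
    rw [degHom_of_mem 𝒜 s hs hs]
    have : degFrac 𝒜 s hs 1 ⟨s, hs⟩ = 1 := val_injective _ (by
      rw [val_degFrac, val_one, ← Localization.mk_self (⟨s ^ 1, 1, rfl⟩ : Submonoid.powers s)]
      simp)
    rw [this, monomial_one_one_eq_X]
  refine ufd_of_agree_away (degHom 𝒜 s hs) hinj hp fun q => ?_
  induction q using Polynomial.induction_on' with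
  | add q r hq hr =>
    obtain ⟨k, a, ha⟩ := hq
    obtain ⟨l, b, hb⟩ := hr
    refine ⟨k + l, s ^ l * a + s ^ k * b, ?_⟩
    rw [map_add, map_mul, map_mul, map_pow, map_pow, ← ha, ← hb]
    ring
  | monomial i z =>
    obtain ⟨m, b, hb, rfl⟩ := Away.mk_surjective 𝒜 hs z
    have hb' : b ∈ 𝒜 m := by simpa using hb
    have hm : b * s ^ i ∈ 𝒜 (m + i) := by
      simpa using SetLike.mul_mem_graded hb' (SetLike.pow_mem_graded i hs)
    refine ⟨m, b * s ^ i, ?_⟩
    rw [degHom_of_mem 𝒜 s hs hm, hs', X_pow_mul_monomial, add_comm i m]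
    congr 1
    apply val_injective
    rw [val_degFrac, Away.val_mk, Localization.mk_eq_mk_iff, Localization.r_iff_exists]
    exact ⟨1, by simp [pow_add]; ring⟩

end Groth.Smt
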