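import Groth.Agent.Smt.Straighten
import Mathlib.RingTheory.Polynomial.Basic
import Mathlib.LinearAlgebra.Basis.Basic
import Mathlib.RingTheory.Adjoin.Basic
import Mathlib.RingTheory.Ideal.Quotient.Operations

/-! Flat degenerations of an algebra with a standard monomial basis. -/

set_option autoImplicit false

universe u w

open Finset Polynomial

namespace Groth.Smt

variable {K : Type u} [Field K] {A : Type u} [CommRing A] [Algebra K A]
  {P : Type w} [Fintype P] [PartialOrder P] (x : P → A) (k W : P → ℕ)

/-- A straightening datum: leading part `ε x_{a'} x_{b'}`, the rest of smaller weight. -/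
def StrDatum (a b : P) (ε : K) (a' b' : P) : Prop :=
  (ε ≠ 0 → k a < k a' ∧ k b < k a' ∧ W a' + W b' = W a + W b) ∧
    x a * x b - ε • (x a' * x b') ∈ Submodule.span K
      {z | ∃ α β, k a < k α ∧ k b < k α ∧ W α + W β < W a + W b ∧ z = x α * x β}

attribute [local instance] Polynomial.algebra

/-- The generators of the family. -/
noncomputable def famGen (a : P) : Polynomial A := Polynomial.monomial (W a) (x a)

theorem coeff_mul_monomial_ite {R : Type u} [CommRing R] (p : Polynomial R) (i j : ℕ) (r : R) :
    (p * Polynomial.monomial i r).coeff j = if i ≤ j then p.coeff (j - i) * r else 0 := by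
  rw [← Polynomial.C_mul_X_pow_eq_monomial, ← mul_assoc, Polynomial.coeff_mul_X_pow']
  simp only [Polynomial.coeff_mul_C]

/-- Weighted products of generators. -/
theorem prod_famGen {ι : Type*} (s : Finset ι) (c : ι → P) :
    ∏ l ∈ s, famGen x W (c l) = Polynomial.monomial (∑ l ∈ s, W (c l)) (∏ l ∈ s, x (c l)) := by
  classical
  induction s using Finset.induction_on with
  | empty => simp
  | insert i s hi ih =>
    rw [prod_insert hi, sum_insert hi, prod_insert hi, ih, famGen, monomial_mul_monomial]

theorem exists_degeneration (hk : StrictMono k)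
    (hli : LinearIndependent K fun c : (Σ m : ℕ, {c : Fin m → P // Antitone c}) => ∏ l, x (c.2.1 l))
    (hspan : stdSpan K x = ⊤) (G : Set (MvPolynomial P K))
    (h1 : ∀ a b : P, ¬ a ≤ b → ¬ b ≤ a → ∃ (ε : K) (a' b' : P), StrDatum x k W a b ε a' b' ∧
      (MvPolynomial.X a : MvPolynomial P K) * MvPolynomial.X b - ε • ((MvPolynomial.X a' : MvPolynomial P K) * MvPolynomial.X b') ∈ Ideal.span G)
    (h2 : ∀ g ∈ G, g = 0 ∨ ∃ (a b : P) (ε : K) (a' b' : P), StrDatum x k W a b ε a' b' ∧
      g = (MvPolynomial.X a : MvPolynomial P K) * MvPolynomial.X b - ε • ((MvPolynomial.X a' : MvPolynomial P K) * MvPolynomial.X b')) :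
    ∃ (R : Type u) (_ : CommRing R) (_ : Algebra K R) (_ : Algebra (Polynomial K) R)
      (_ : IsScalarTower K (Polynomial K) R),
      Module.Free (Polynomial K) R ∧
      Nonempty ((R ⧸ Ideal.span {algebraMap (Polynomial K) R Polynomial.X}) ≃ₐ[K]
        (MvPolynomial P K ⧸ Ideal.span G)) ∧
      ∀ c : K, c ≠ 0 →
        Nonempty ((R ⧸ Ideal.span {algebraMap (Polynomial K) R (Polynomial.X - Polynomial.C c)}) ≃ₐ[K] A) := by
  classical
  haveI : IsScalarTower K (Polynomial K) (Polynomial A) := IsScalarTower.of_algebraMap_eq fun r => by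
    rw [Polynomial.algebraMap_apply, Polynomial.algebraMap_apply]
    simp
  let S : Subalgebra (Polynomial K) (Polynomial A) :=
    Algebra.adjoin (Polynomial K) (Set.range (famGen x W))
  let y : P → S := fun a => ⟨famGen x W a, Algebra.subset_adjoin ⟨a, rfl⟩⟩
  let v : (Σ m : ℕ, {c : Fin m → P // Antitone c}) → S := fun c => ∏ l, y (c.2.1 l)
  have hv : ∀ c, (v c : Polynomial A) =
      Polynomial.monomial (∑ l, W (c.2.1 l)) (∏ l, x (c.2.1 l)) := fun c => by
    rw [← prod_famGen]
    simp [v, y]
  have hsm : ∀ (p : Polynomial K) (i : ℕ) (z : A), p • Polynomial.monomial i z =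
      p.map (algebraMap K A) * Polynomial.monomial i z := fun p i z => by
    rw [Algebra.smul_def, Polynomial.algebraMap_def, Polynomial.coe_mapRingHom]
  have hXs : ∀ (e i : ℕ) (z : A), (Polynomial.X : Polynomial K) ^ e • Polynomial.monomial i z =
      Polynomial.monomial (e + i) z := fun e i z => by
    rw [hsm, Polynomial.map_pow, Polynomial.map_X, Polynomial.X_pow_mul_monomial, add_comm]
  have hliv : LinearIndependent (Polynomial K) v := by
    rw [linearIndependent_iff']
    intro s p hp c hc
    ext j
    have h0 := congrArg (fun q : S => (q : Polynomial A).coeff (j + ∑ l, W (c.2.1 l))) hp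
    simp only [AddSubmonoidClass.coe_finset_sum, Subalgebra.coe_smul, hv, finset_sum_coeff, hsm,
      coeff_mul_monomial_ite, Polynomial.coeff_map, ZeroMemClass.coe_zero, coeff_zero] at h0
    have h3 := linearIndependent_iff'.1 hli s
      (fun e => if (∑ l, W (e.2.1 l)) ≤ j + ∑ l, W (c.2.1 l) then
        (p e).coeff (j + (∑ l, W (c.2.1 l)) - ∑ l, W (e.2.1 l)) else 0) ?_ c hc
    · simpa using h3
    · rw [← h0]
      refine sum_congr rfl fun e _ => ?_
      split_ifs
      · rw [Algebra.smul_def]
      · rw [zero_smul]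
  have hstr : ∀ (a b : P) (ε : K) (a' b' : P), StrDatum x k W a b ε a' b' →
      ∃ r : S, r ∈ Submodule.span (Polynomial K) {z | ∃ α β, k a < k α ∧ k b < k α ∧ z = y α * y β} ∧
        y a * y b - Polynomial.C ε • (y a' * y b') = (Polynomial.X : Polynomial K) • r := by
    intro a b ε a' b' hd
    let E : Submodule K A :=
      { carrier := {z | ∃ r : S, r ∈ Submodule.span (Polynomial K)
            {z | ∃ α β, k a < k α ∧ k b < k α ∧ z = y α * y β} ∧
          Polynomial.monomial (W a + W b) z = (((Polynomial.X : Polynomial K) • r : S) : Polynomial A)}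
        zero_mem' := ⟨0, Submodule.zero_mem _, by simp⟩
        add_mem' := by
          rintro z z' ⟨r, hr, he⟩ ⟨r', hr', he'⟩
          exact ⟨r + r', Submodule.add_mem _ hr hr', by rw [map_add, he, he', smul_add]; rfl⟩
        smul_mem' := by
          rintro c z ⟨r, hr, he⟩
          refine ⟨Polynomial.C c • r, Submodule.smul_mem _ _ hr, ?_⟩
          rw [smul_comm (Polynomial.X : Polynomial K) (Polynomial.C c) r, Subalgebra.coe_smul, ← he, hsm,
            Polynomial.map_C, Polynomial.C_mul_monomial, Algebra.smul_def] }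
    have hE : Submodule.span K
        {z | ∃ α β, k a < k α ∧ k b < k α ∧ W α + W β < W a + W b ∧ z = x α * x β} ≤ E := by
      rw [Submodule.span_le]
      rintro z ⟨α, β, hα, hβ, hW, rfl⟩
      refine ⟨(Polynomial.X : Polynomial K) ^ (W a + W b - (W α + W β) - 1) • (y α * y β),
        Submodule.smul_mem _ _ (Submodule.subset_span ⟨α, β, hα, hβ, rfl⟩), ?_⟩
      rw [smul_smul, ← pow_succ', Subalgebra.coe_smul, MulMemClass.coe_mul]
      show _ = _ • (famGen x W α * famGen x W β)
      rw [famGen, famGen, monomial_mul_monomial, hXs]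
      congr 1
      congr 1
      omega
    obtain ⟨r, hr, he⟩ := hE hd.2
    refine ⟨r, hr, Subtype.ext ?_⟩
    rw [← he, AddSubgroupClass.coe_sub, Subalgebra.coe_smul, MulMemClass.coe_mul, MulMemClass.coe_mul]
    show famGen x W a * famGen x W b - _ • (famGen x W a' * famGen x W b') = _
    simp only [famGen, monomial_mul_monomial]
    rw [hsm, Polynomial.map_C, Polynomial.C_mul_monomial, map_sub, Algebra.smul_def]
    by_cases hε : ε = 0
    · simp [hε]
    · rw [(hd.1 hε).2.2]
  have hspanv : ⊤ ≤ Submodule.span (Polynomial K) (Set.range v) := by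
    intro r _
    obtain ⟨f, hf⟩ : ∃ f : MvPolynomial P (Polynomial K), MvPolynomial.aeval y f = r := by
      obtain ⟨f, hf⟩ : (r : Polynomial A) ∈ (MvPolynomial.aeval (famGen x W) :
          MvPolynomial P (Polynomial K) →ₐ[Polynomial K] Polynomial A).range := by
        rw [← Algebra.adjoin_range_eq_range_aeval]
        exact r.2
      refine ⟨f, Subtype.ext ?_⟩
      rw [← hf]
      exact DFunLike.congr_fun (show S.val.comp (MvPolynomial.aeval y) = MvPolynomial.aeval (famGen x W)
        from MvPolynomial.algHom_ext fun p => by simp [y]) f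
    rw [← hf]
    refine stdSpan_adjoin y k hk (fun a b hab hba hkk => ?_) f
    obtain ⟨ε, a', b', hd, -⟩ := h1 a b hab hba
    obtain ⟨r, hr, he⟩ := hstr a b ε a' b' hd
    rw [sub_eq_iff_eq_add] at he
    rw [he]
    refine Submodule.add_mem _ (Submodule.smul_mem _ _ ?_) ?_
    · refine Submodule.span_mono ?_ hr
      rintro z ⟨α, β, hα, -, rfl⟩
      exact ⟨α, β, hα, rfl⟩
    · by_cases hε : ε = 0
      · simp [hε]
      · exact Submodule.smul_mem _ _ (Submodule.subset_span ⟨a', b', (hd.1 hε).1, rfl⟩)
  let bS := Module.Basis.mk hliv hspanv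
  have hrepr : ∀ r : S, ∃ l : (Σ m : ℕ, {c : Fin m → P // Antitone c}) →₀ Polynomial K,
      (l.sum fun c p => p • v c) = r := fun r =>
    Finsupp.mem_span_range_iff_exists_finsupp.1 (hspanv (Submodule.mem_top (x := r)))
  refine ⟨S, inferInstance, inferInstance, inferInstance, inferInstance, Module.Free.of_basis bS, ?_, ?_⟩
  · set I := Ideal.span {algebraMap (Polynomial K) S Polynomial.X} with hI
    let π : MvPolynomial P K →ₐ[K] S ⧸ I := MvPolynomial.aeval fun a => Ideal.Quotient.mk I (y a)
    have hπv : ∀ c : (Σ m : ℕ, {c : Fin m → P // Antitone c}),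
        π (∏ l, MvPolynomial.X (c.2.1 l)) = Ideal.Quotient.mk I (v c) := fun c => by
      simp [π, v, map_prod]
    have hCsm : ∀ (e : K) (r : S), Polynomial.C e • r = e • r := fun e r => by
      rw [← Polynomial.algebraMap_eq, algebraMap_smul]
    have hmkC : ∀ (p : Polynomial K) (r : S),
        Ideal.Quotient.mk I (p • r) = (p.coeff 0) • Ideal.Quotient.mk I r := by
      intro p r
      have : p • r - Polynomial.C (p.coeff 0) • r ∈ I := by
        rw [← sub_smul]
        obtain ⟨q, hq⟩ := Polynomial.X_dvd_iff.2 (show (p - Polynomial.C (p.coeff 0)).coeff 0 = 0 by simp)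
        rw [hq, Algebra.smul_def, map_mul, mul_assoc]
        exact Ideal.mul_mem_right _ _ (Ideal.mem_span_singleton_self _)
      rw [Ideal.Quotient.eq.2 this, hCsm]
      exact map_smul (Ideal.Quotient.mkₐ K I) _ r
    have hGker : Ideal.span G ≤ RingHom.ker π.toRingHom := by
      rw [Ideal.span_le]
      intro g hg
      show π g = 0
      rcases h2 g hg with rfl | ⟨a, b, ε, a', b', hd, rfl⟩
      · exact map_zero π
      · obtain ⟨r, -, he⟩ := hstr a b ε a' b' hd
        simp only [map_sub, map_smul, map_mul, π, MvPolynomial.aeval_X]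
        rw [← map_mul, ← map_mul, ← Ideal.Quotient.mkₐ_eq_mk (R₁ := K), ← map_smul, ← map_sub,
          ← hCsm, he, Ideal.Quotient.mkₐ_eq_mk, hmkC, Polynomial.coeff_X_zero, zero_smul]
    have hsurj : Function.Surjective π := by
      intro z
      obtain ⟨r, rfl⟩ := Ideal.Quotient.mk_surjective z
      obtain ⟨l, rfl⟩ := hrepr r
      refine ⟨l.sum fun c p => (p.coeff 0) • ∏ l, MvPolynomial.X (c.2.1 l), ?_⟩
      rw [map_finsuppSum, map_finsuppSum]
      exact Finsupp.sum_congr fun c _ => by rw [map_smul, hπv, hmkC]
    have hker : RingHom.ker π.toRingHom ≤ Ideal.span G := by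
      intro f hf
      let q := Ideal.Quotient.mkₐ K (Ideal.span G)
      have hq : MvPolynomial.aeval (fun a => q (MvPolynomial.X a)) f = q f :=
        DFunLike.congr_fun (show MvPolynomial.aeval (fun a => q (MvPolynomial.X a)) = q from
          MvPolynomial.algHom_ext fun a => MvPolynomial.aeval_X _ a) f
      have hs := stdSpan_adjoin (K := K) (fun a => q (MvPolynomial.X a)) k hk (fun a b hab hba hkk => by
        obtain ⟨ε, a', b', hd, hmem⟩ := h1 a b hab hba
        rw [← map_mul, show q (MvPolynomial.X a * MvPolynomial.X b) =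
          q (ε • (MvPolynomial.X a' * MvPolynomial.X b')) from Ideal.Quotient.eq.2 hmem, map_smul, map_mul]
        by_cases hε : ε = 0
        · simp [hε]
        · exact Submodule.smul_mem _ _ (Submodule.subset_span ⟨a', b', (hd.1 hε).1, rfl⟩)) f
      rw [hq] at hs
      obtain ⟨l, hl⟩ := Finsupp.mem_span_range_iff_exists_finsupp.1 hs
      set g := l.sum fun c e => e • ∏ i, (MvPolynomial.X (c.2.1 i) : MvPolynomial P K) with hg
      have hfg : f - g ∈ Ideal.span G := by
        rw [← Ideal.Quotient.eq_zero_iff_mem]
        show q (f - g) = 0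
        rw [map_sub, sub_eq_zero, ← hl, hg, map_finsuppSum]
        exact Finsupp.sum_congr fun c _ => by rw [map_smul, map_prod]
      have hg0 : π g = 0 := by
        have := hGker hfg
        rw [RingHom.mem_ker] at this
        change π (f - g) = 0 at this
        rwa [map_sub, show π f = 0 from hf, zero_sub, neg_eq_zero] at this
      have hl0 : l = 0 := by
        rw [hg, map_finsuppSum] at hg0
        have h3 : Ideal.Quotient.mk I (l.sum fun c e => Polynomial.C e • v c) = 0 := by
          rw [map_finsuppSum, ← hg0]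
          exact Finsupp.sum_congr fun c _ => by rw [map_smul π, hπv, hmkC, Polynomial.coeff_C_zero]
        rw [Ideal.Quotient.eq_zero_iff_mem, hI, Ideal.mem_span_singleton] at h3
        obtain ⟨r, hr⟩ := h3
        obtain ⟨l', rfl⟩ := hrepr r
        have h4 : (Finsupp.mapRange Polynomial.C (map_zero _) l) = (Polynomial.X : Polynomial K) • l' := by
          apply linearIndependent_iff_injective_finsuppLinearCombination.1 hliv
          rw [map_smul, Finsupp.linearCombination_apply, Finsupp.linearCombination_apply,
            Finsupp.sum_mapRange_index (h := fun c (p : Polynomial K) => p • v c) (fun c => zero_smul _ _), hr, Algebra.smul_def]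
        ext c
        have h5 := congrArg (fun p : Polynomial K => p.coeff 0) (DFunLike.congr_fun h4 c)
        simpa using h5
      have : g = 0 := by rw [hg, hl0, Finsupp.sum_zero_index]
      rwa [this, sub_zero] at hfg
    exact ⟨((Ideal.quotientEquivAlgOfEq K (le_antisymm hGker hker)).trans
      (Ideal.quotientKerAlgEquivOfSurjective hsurj)).symm⟩
  · intro c hc
    let ev : S →ₐ[K] A :=
      ((Polynomial.aeval (algebraMap K A c) : Polynomial A →ₐ[A] A).restrictScalars K).comp
        (S.val.restrictScalars K)
    have hev : ∀ (p : Polynomial K) (e : (Σ m : ℕ, {c : Fin m → P // Antitone c})),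
        ev (p • v e) = (p.eval c * c ^ (∑ l, W (e.2.1 l))) • ∏ l, x (e.2.1 l) := by
      intro p e
      show Polynomial.aeval (algebraMap K A c) ((p • v e : S) : Polynomial A) = _
      rw [Subalgebra.coe_smul, hv, hsm, map_mul, Polynomial.aeval_monomial,
        Polynomial.aeval_map_algebraMap, Polynomial.aeval_algebraMap_apply_eq_algebraMap_eval,
        Algebra.algebraMap_self, RingHom.id_apply, Algebra.smul_def, map_mul, map_pow]
      ring
    have hsurj : Function.Surjective ev := by
      intro z
      obtain ⟨l, hl⟩ := Finsupp.mem_span_range_iff_exists_finsupp.1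
        (show z ∈ stdSpan K x by rw [hspan]; trivial)
      refine ⟨l.sum fun e a => Polynomial.C (a * (c ^ (∑ i, W (e.2.1 i)))⁻¹) • v e, ?_⟩
      rw [map_finsuppSum, ← hl]
      exact Finsupp.sum_congr fun e _ => by
        rw [hev, Polynomial.eval_C, mul_assoc, inv_mul_cancel₀ (pow_ne_zero _ hc), mul_one]
    have hker : RingHom.ker ev.toRingHom =
        Ideal.span {algebraMap (Polynomial K) S (Polynomial.X - Polynomial.C c)} := by
      apply le_antisymm
      · intro r hr
        replace hr : ev r = 0 := hr
        obtain ⟨l, rfl⟩ := hrepr r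
        rw [map_finsuppSum] at hr
        simp only [hev] at hr
        rw [Finsupp.sum] at hr ⊢
        have h3 := linearIndependent_iff'.1 hli l.support _ hr
        refine Ideal.sum_mem _ fun e he => ?_
        obtain ⟨q, hq⟩ := Polynomial.dvd_iff_isRoot.2
          (show (l e).IsRoot c from (mul_eq_zero.1 (h3 e he)).resolve_right (pow_ne_zero _ hc))
        rw [hq, Algebra.smul_def, map_mul, mul_assoc]
        exact Ideal.mul_mem_right _ _ (Ideal.mem_span_singleton_self _)
      · rw [Ideal.span_le, Set.singleton_subset_iff]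
        show Polynomial.aeval (algebraMap K A c)
          ((algebraMap (Polynomial K) S (Polynomial.X - Polynomial.C c) : S) : Polynomial A) = 0
        rw [Subalgebra.coe_algebraMap, Polynomial.algebraMap_def, Polynomial.coe_mapRingHom,
          Polynomial.map_sub, Polynomial.map_X, Polynomial.map_C, map_sub, Polynomial.aeval_X,
          Polynomial.aeval_C, Algebra.algebraMap_self, RingHom.id_apply, sub_self]
    exact ⟨(Ideal.quotientEquivAlgOfEq K hker.symm).trans (Ideal.quotientKerAlgEquivOfSurjective hsurj)⟩

end Groth.Smt
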