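import Mathlib.RingTheory.MvPolynomial.Homogeneous
import Mathlib.RingTheory.MvPolynomial.Ideal
import Mathlib.RingTheory.Finiteness.Ideal
import Mathlib.Data.Finsupp.Weight
import Mathlib.LinearAlgebra.LinearIndependent.Lemmas
import Mathlib.Tactic

/-! Homogeneous regular sequences of linear forms on quotients of a polynomial ring, and freeness
over the subalgebra they generate. -/

set_option autoImplicit false

universe u v

open MvPolynomial Finset

namespace Groth.Smt

variable {σ : Type v} {K : Type u} [CommRing K]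

/-- The ideal contains the homogeneous components of its members. -/
def HStable (I : Ideal (MvPolynomial σ K)) : Prop :=
  ∀ f ∈ I, ∀ D, homogeneousComponent D f ∈ I

theorem comp_mul_of_isHomogeneous {g : MvPolynomial σ K} {e : ℕ} (hg : g.IsHomogeneous e)
    (a : MvPolynomial σ K) (D : ℕ) :
    homogeneousComponent D (a * g) = if e ≤ D then homogeneousComponent (D - e) a * g else 0 := by
  classical
  conv_lhs => rw [← sum_homogeneousComponent a, Finset.sum_mul, map_sum]
  rw [Finset.sum_congr rfl fun i _ => homogeneousComponent_of_mem (m := D)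
    ((homogeneousComponent_isHomogeneous i a).mul hg)]
  split_ifs with h
  · rw [Finset.sum_eq_single (D - e)]
    · rw [if_pos (by omega)]
    · intro i _ hi; rw [if_neg (by omega)]
    · intro hn
      rw [if_pos (by omega), homogeneousComponent_eq_zero _ _ (by simp at hn; omega), zero_mul]
  · exact Finset.sum_eq_zero fun i _ => if_neg (by omega)

theorem comp_mul_add {g : MvPolynomial σ K} {e : ℕ} (hg : g.IsHomogeneous e)
    (a : MvPolynomial σ K) (D : ℕ) :
    homogeneousComponent (D + e) (a * g) = homogeneousComponent D a * g := by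
  rw [comp_mul_of_isHomogeneous hg, if_pos (Nat.le_add_left _ _), Nat.add_sub_cancel]

theorem hstable_span {s : Set (MvPolynomial σ K)} (hs : ∀ g ∈ s, ∃ e, g.IsHomogeneous e) :
    HStable (Ideal.span s) := by
  intro f hf
  suffices ∀ (a : MvPolynomial σ K) (D : ℕ), homogeneousComponent D (a * f) ∈ Ideal.span s by
    intro D; simpa using this 1 D
  induction hf using Submodule.span_induction with
  | mem g hg =>
    intro a D
    obtain ⟨e, he⟩ := hs g hg
    rw [comp_mul_of_isHomogeneous he]
    split
    · exact Ideal.mul_mem_left _ _ (Ideal.subset_span hg)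
    · exact Submodule.zero_mem _
  | zero => intro a D; simp
  | add x y _ _ hx hy => intro a D; rw [mul_add, map_add]; exact add_mem (hx a D) (hy a D)
  | smul b x _ hx => intro a D; rw [smul_eq_mul, ← mul_assoc]; exact hx (a * b) D

theorem HStable.sup {I J : Ideal (MvPolynomial σ K)} (hI : HStable I) (hJ : HStable J) :
    HStable (I ⊔ J) := by
  intro f hf D
  obtain ⟨a, ha, b, hb, rfl⟩ := Submodule.mem_sup.1 hf
  rw [map_add]
  exact Submodule.add_mem_sup (hI a ha D) (hJ b hb D)

theorem HStable.inf {I J : Ideal (MvPolynomial σ K)} (hI : HStable I) (hJ : HStable J) :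
    HStable (I ⊓ J) := fun f hf D => ⟨hI f hf.1 D, hJ f hf.2 D⟩

theorem mem_sup_of_le {I J T : Ideal (MvPolynomial σ K)} {f : MvPolynomial σ K} (h : I ≤ J)
    (hf : f ∈ I ⊔ T) : f ∈ J ⊔ T :=
  (sup_le_sup_right h T : I ⊔ T ≤ J ⊔ T) hf

variable (θ : ℕ → MvPolynomial σ K)

/-- The ideal generated by the first `k` forms. -/
noncomputable def Th (k : ℕ) : Ideal (MvPolynomial σ K) :=
  Ideal.span (Set.range fun j : Fin k => θ j)

theorem Th_zero : Th θ 0 = ⊥ := by
  rw [Th, Ideal.span_eq_bot]
  rintro _ ⟨j, rfl⟩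
  exact j.elim0

theorem Th_succ (k : ℕ) : Th θ (k + 1) = Th θ k ⊔ Ideal.span {θ k} := by
  rw [Th, Th, ← Ideal.span_union]
  congr 1
  ext x
  simp only [Set.mem_range, Set.mem_union, Set.mem_singleton_iff]
  constructor
  · rintro ⟨j, rfl⟩
    rcases Nat.lt_succ_iff_lt_or_eq.1 j.isLt with h | h
    · exact Or.inl ⟨⟨j, h⟩, rfl⟩
    · exact Or.inr (by rw [h])
  · rintro (⟨j, rfl⟩ | rfl)
    · exact ⟨j.castSucc, rfl⟩
    · exact ⟨Fin.last k, rfl⟩

theorem Th_mono {k l : ℕ} (h : k ≤ l) : Th θ k ≤ Th θ l :=
  Ideal.span_mono fun _ ⟨j, hj⟩ => ⟨⟨j, lt_of_lt_of_le j.isLt h⟩, hj⟩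

theorem mem_Th_succ {k : ℕ} {f : MvPolynomial σ K} {I : Ideal (MvPolynomial σ K)} :
    f ∈ I ⊔ Th θ (k + 1) ↔ ∃ u ∈ I ⊔ Th θ k, ∃ g, f = u + θ k * g := by
  rw [Th_succ, ← sup_assoc, Submodule.mem_sup]
  constructor
  · rintro ⟨u, hu, v, hv, rfl⟩
    obtain ⟨g, rfl⟩ := Ideal.mem_span_singleton.1 hv
    exact ⟨u, hu, g, rfl⟩
  · rintro ⟨u, hu, g, rfl⟩
    exact ⟨u, hu, _, Ideal.mul_mem_right _ _ (Ideal.mem_span_singleton_self _), rfl⟩

/-- The first `m` forms are a regular sequence on the quotient by `I` (colon form). -/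
def RegUpTo (I : Ideal (MvPolynomial σ K)) (m : ℕ) : Prop :=
  ∀ k < m, ∀ f, θ k * f ∈ I ⊔ Th θ k → f ∈ I ⊔ Th θ k

variable {θ}

theorem inf_sup_Th {I J : Ideal (MvPolynomial σ K)} {m : ℕ} (h : RegUpTo θ (I ⊔ J) m) :
    ∀ k ≤ m, ∀ f, f ∈ I ⊔ Th θ k → f ∈ J ⊔ Th θ k → f ∈ (I ⊓ J) ⊔ Th θ k := by
  intro k
  induction k with
  | zero =>
    intro _ f hI hJ
    rw [Th_zero, sup_bot_eq] at hI hJ ⊢
    exact ⟨hI, hJ⟩
  | succ k ih =>
    intro hk f hI hJ
    obtain ⟨u, hu, g, rfl⟩ := (mem_Th_succ θ).1 hI
    obtain ⟨v, hv, g', he⟩ := (mem_Th_succ θ).1 hJ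
    have h1 : θ k * (g - g') ∈ (I ⊔ J) ⊔ Th θ k := by
      rw [show θ k * (g - g') = v - u by linear_combination he]
      exact Ideal.sub_mem _ (mem_sup_of_le le_sup_right hv) (mem_sup_of_le le_sup_left hu)
    have h2 := h k (by omega) _ h1
    rw [show (I ⊔ J) ⊔ Th θ k = I ⊔ (J ⊔ Th θ k) from sup_assoc _ _ _] at h2
    obtain ⟨i, hi, w, hw, hiw⟩ := Submodule.mem_sup.1 h2
    rw [mem_Th_succ]
    refine ⟨u + θ k * i, ?_, g - i, by ring⟩
    refine ih (by omega) _ (Ideal.add_mem _ hu (Submodule.mem_sup_left (Ideal.mul_mem_left _ _ hi))) ?_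
    rw [show u + θ k * i = v - θ k * w by linear_combination he + θ k * hiw]
    exact Ideal.sub_mem _ hv (Ideal.mul_mem_left _ _ hw)

/-- The regular sequence lemma for the intersection of two ideals. -/
theorem RegUpTo.inf {I J : Ideal (MvPolynomial σ K)} {m : ℕ} (hI : RegUpTo θ I (m + 1))
    (hJ : RegUpTo θ J (m + 1)) (hIJ : RegUpTo θ (I ⊔ J) m) : RegUpTo θ (I ⊓ J) (m + 1) := by
  intro k hk f hf
  exact inf_sup_Th hIJ k (by omega) f
    (hI k hk f (mem_sup_of_le inf_le_left hf)) (hJ k hk f (mem_sup_of_le inf_le_right hf))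

theorem inf_irr_le {I J : Ideal (MvPolynomial σ K)} {m M N : ℕ} {P : Ideal (MvPolynomial σ K)}
    (hI : P ^ M ≤ I ⊔ Th θ m) (hJ : P ^ N ≤ J ⊔ Th θ m) : P ^ (M + N) ≤ (I ⊓ J) ⊔ Th θ m := by
  rw [pow_add]
  refine le_trans (Ideal.mul_mono hI hJ) ?_
  rw [Ideal.sup_mul, Ideal.mul_sup, Ideal.mul_sup]
  refine sup_le (sup_le ?_ ?_) (sup_le ?_ ?_)
  · exact le_sup_of_le_left Ideal.mul_le_inf
  · exact le_sup_of_le_right Ideal.mul_le_right
  · exact le_sup_of_le_right Ideal.mul_le_left
  · exact le_sup_of_le_right Ideal.mul_le_left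

theorem hstable_Th (hθ : ∀ k, (θ k).IsHomogeneous 1) (k : ℕ) : HStable (Th θ k) :=
  hstable_span (by rintro _ ⟨j, rfl⟩; exact ⟨1, hθ j⟩)

/-- Adding a last form: a prime ideal `J` and a form `x ∉ J` congruent to `θ L` modulo `J`. -/
theorem regUpTo_succ (hθ : ∀ k, (θ k).IsHomogeneous 1) {J : Ideal (MvPolynomial σ K)}
    (hJp : J.IsPrime) (hJ : HStable J) {x : MvPolynomial σ K} (hx : x.IsHomogeneous 1) (hxJ : x ∉ J)
    {L : ℕ} (hL : θ L - x ∈ J) (h : RegUpTo θ (J ⊔ Ideal.span {x}) L) : RegUpTo θ J (L + 1) := by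
  have hstab : ∀ k, HStable (J ⊔ Th θ k) := fun k => hJ.sup (hstable_Th hθ k)
  have step : ∀ k < L, (∀ g, x * g ∈ J ⊔ Th θ k → g ∈ J ⊔ Th θ k) →
      ∀ f, θ k * f ∈ J ⊔ Th θ k → f ∈ J ⊔ Th θ k := by
    intro k hk hR
    have hom : ∀ D, ∀ f : MvPolynomial σ K, f.IsHomogeneous D → θ k * f ∈ J ⊔ Th θ k →
        f ∈ J ⊔ Th θ k := by
      intro D
      induction D using Nat.strong_induction_on with
      | _ D ih =>
      intro f hf hθf
      have h2 := h k hk f (mem_sup_of_le le_sup_left hθf)
      rw [show (J ⊔ Ideal.span {x}) ⊔ Th θ k = (J ⊔ Th θ k) ⊔ Ideal.span {x} from sup_right_comm _ _ _] at h2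
      obtain ⟨u, hu, w, hw, he⟩ := Submodule.mem_sup.1 h2
      obtain ⟨g, rfl⟩ := Ideal.mem_span_singleton.1 hw
      have hc : homogeneousComponent D u + homogeneousComponent D (x * g) = f := by
        rw [← map_add, he, homogeneousComponent_eq_self hf]
      rw [mul_comm x g, comp_mul_of_isHomogeneous hx] at hc
      split_ifs at hc with hD
      · rw [← hc]
        refine Ideal.add_mem _ (hstab k u hu D) (Ideal.mul_mem_right _ _ ?_)
        refine ih (D - 1) (by omega) _ (homogeneousComponent_isHomogeneous _ _) (hR _ ?_)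
        rw [show x * (θ k * homogeneousComponent (D - 1) g) = θ k * f - θ k * homogeneousComponent D u by
          rw [← hc]; ring]
        exact Ideal.sub_mem _ hθf (Ideal.mul_mem_left _ _ (hstab k u hu D))
      · rw [← hc, add_zero]; exact hstab k u hu D
    intro f hf
    rw [← sum_homogeneousComponent f]
    refine Ideal.sum_mem _ fun D _ => hom D _ (homogeneousComponent_isHomogeneous _ _) ?_
    have := hstab k _ hf (D + 1)
    rwa [mul_comm, comp_mul_add (hθ k), mul_comm] at this
  have hR : ∀ k ≤ L, ∀ g, x * g ∈ J ⊔ Th θ k → g ∈ J ⊔ Th θ k := by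
    intro k
    induction k with
    | zero =>
      intro _ g hg
      rw [Th_zero, sup_bot_eq] at hg ⊢
      exact (hJp.mem_or_mem hg).resolve_left hxJ
    | succ k ih =>
      intro hk g hg
      obtain ⟨u, hu, h', he⟩ := (mem_Th_succ θ).1 hg
      have h1 : θ k * h' ∈ (J ⊔ Ideal.span {x}) ⊔ Th θ k := by
        rw [show θ k * h' = x * g - u by rw [he]; ring]
        exact Ideal.sub_mem _ (Submodule.mem_sup_left (Submodule.mem_sup_right
          (Ideal.mul_mem_right _ _ (Ideal.mem_span_singleton_self x))))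
          (mem_sup_of_le le_sup_left hu)
      have h2 := h k (by omega) _ h1
      rw [show (J ⊔ Ideal.span {x}) ⊔ Th θ k = (J ⊔ Th θ k) ⊔ Ideal.span {x} from sup_right_comm _ _ _] at h2
      obtain ⟨v, hv, w, hw, hvw⟩ := Submodule.mem_sup.1 h2
      obtain ⟨h'', rfl⟩ := Ideal.mem_span_singleton.1 hw
      rw [mem_Th_succ]
      refine ⟨g - θ k * h'', ih (by omega) _ ?_, h'', by ring⟩
      rw [show x * (g - θ k * h'') = u + θ k * v by linear_combination he - θ k * hvw]
      exact Ideal.add_mem _ hu (Ideal.mul_mem_left _ _ hv)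
  intro k hk f hf
  rcases Nat.lt_succ_iff_lt_or_eq.1 hk with hk' | rfl
  · exact step k hk' (hR k hk'.le) f hf
  · refine hR k le_rfl f ?_
    rw [show x * f = θ k * f - (θ k - x) * f by ring]
    exact Ideal.sub_mem _ hf (Submodule.mem_sup_left (Ideal.mul_mem_right _ _ hL))

section free

variable {F : Type u} [Field F] {θ : ℕ → MvPolynomial σ F}

/-- The map from the polynomial ring on the forms. -/
noncomputable def thHom (θ : ℕ → MvPolynomial σ F) (m : ℕ) :
    MvPolynomial (Fin m) F →ₐ[F] MvPolynomial σ F :=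
  MvPolynomial.aeval fun j => θ j

/-- The ideal of the first `k` variables. -/
noncomputable def varsLT (m k : ℕ) : Ideal (MvPolynomial (Fin m) F) :=
  Ideal.span (MvPolynomial.X '' {j : Fin m | j.val < k})

theorem thHom_mem_Th {m k : ℕ} {p : MvPolynomial (Fin m) F} (hp : p ∈ varsLT m k) :
    thHom θ m p ∈ Th θ k := by
  have : varsLT (F := F) m k ≤ (Th θ k).comap (thHom θ m).toRingHom := by
    refine Ideal.span_le.2 ?_
    rintro _ ⟨j, hj, rfl⟩
    show thHom θ m (MvPolynomial.X j) ∈ Th θ k
    rw [thHom, MvPolynomial.aeval_X]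
    exact Ideal.subset_span ⟨⟨j, hj⟩, rfl⟩
  exact this hp

theorem mem_varsLT_of_forall {m k : ℕ} (hk : k < m) {p : MvPolynomial (Fin m) F}
    (h : ∀ D : ℕ, p ∈ varsLT m k ⊔ Ideal.span {MvPolynomial.X ⟨k, hk⟩ ^ D}) : p ∈ varsLT m k := by
  classical
  rw [varsLT, mem_ideal_span_X_image]
  intro e he
  by_contra hno
  push Not at hno
  obtain ⟨u, hu, w, hw, huw⟩ := Submodule.mem_sup.1 (h (e ⟨k, hk⟩ + 1))
  have hu0 : coeff e u = 0 := by
    by_contra hne
    obtain ⟨i, hi, hei⟩ := mem_ideal_span_X_image.1 hu e (mem_support_iff.2 hne)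
    exact hei (hno i hi)
  have hw0 : coeff e w = 0 := by
    obtain ⟨g, rfl⟩ := Ideal.mem_span_singleton.1 hw
    rw [X_pow_eq_monomial, coeff_monomial_mul', if_neg]
    intro hle
    have := hle ⟨k, hk⟩
    rw [Finsupp.single_eq_same] at this
    omega
  rw [mem_support_iff, ← huw, coeff_add, hu0, hw0, add_zero] at he
  exact he rfl

variable [Finite σ]

/-- A regular sequence of linear forms whose radical is the irrelevant ideal makes the quotient
finite free over the polynomial ring on the forms. -/
theorem exists_free_basis (hθ : ∀ k, (θ k).IsHomogeneous 1) {I : Ideal (MvPolynomial σ F)}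
    (hI : HStable I) {m N : ℕ} (hreg : RegUpTo θ I m) (hN : idealOfVars σ F ^ N ≤ I ⊔ Th θ m) :
    ∃ E : Finset (σ →₀ ℕ),
      (∀ f : MvPolynomial σ F, ∃ p : E → MvPolynomial (Fin m) F,
        f - ∑ e : E, thHom θ m (p e) * monomial e.1 1 ∈ I) ∧
      ∀ p : E → MvPolynomial (Fin m) F, ∑ e : E, thHom θ m (p e) * monomial e.1 1 ∈ I → p = 0 := by
  classical
  let Q := MvPolynomial σ F ⧸ (I ⊔ Th θ m)
  let q : MvPolynomial σ F →ₐ[F] Q := Ideal.Quotient.mkₐ F _
  obtain ⟨b, hb, hspan, hli⟩ :=
    exists_linearIndependent F (Set.range fun e : σ →₀ ℕ => q (monomial e 1))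
  choose pick hpick using fun x : b => hb x.2
  have hzero : ∀ e : σ →₀ ℕ, N ≤ e.degree → q (monomial e 1) = 0 := by
    intro e he
    refine Ideal.Quotient.eq_zero_iff_mem.2 (hN ?_)
    rw [mem_pow_idealOfVars_iff]
    intro x hx
    rw [Finset.mem_singleton.1 (support_monomial_subset hx)]
    exact he
  have hfin : (Set.range pick).Finite := by
    refine (Finsupp.finite_of_degree_lt (σ := σ) N).subset ?_
    rintro _ ⟨x, rfl⟩
    by_contra hlt
    exact hli.ne_zero x (by rw [← hpick x]; exact hzero _ (not_lt.1 hlt))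
  refine ⟨hfin.toFinset, ?_⟩
  have hmemE : ∀ x, pick x ∈ hfin.toFinset := fun x => hfin.mem_toFinset.2 ⟨x, rfl⟩
  let bx : hfin.toFinset → b := fun e => (hfin.mem_toFinset.1 e.2).choose
  have hbx : ∀ e, pick (bx e) = e.1 := fun e => (hfin.mem_toFinset.1 e.2).choose_spec
  have hbxinj : Function.Injective bx := fun e e' h => Subtype.ext (by rw [← hbx e, ← hbx e', h])
  have hliE : LinearIndependent F fun e : hfin.toFinset => q (monomial e.1 1) := by
    have e' : (fun e : hfin.toFinset => q (monomial e.1 1)) = (Subtype.val : b → Q) ∘ bx := by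
      funext e
      show q (monomial e.1 1) = ((bx e : b) : Q)
      rw [← hbx e]
      exact hpick (bx e)
    rw [e']
    exact hli.comp bx hbxinj
  have hspanE : ∀ f, q f ∈ Submodule.span F (Set.range fun e : hfin.toFinset => q (monomial e.1 1)) := by
    intro f
    induction f using MvPolynomial.induction_on' with
    | monomial u a =>
      rw [show monomial u a = a • monomial u (1 : F) by rw [smul_monomial, smul_eq_mul, mul_one], map_smul]
      refine Submodule.smul_mem _ _ ?_
      have h1 : q (monomial u 1) ∈ Submodule.span F b := by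
        rw [hspan]; exact Submodule.subset_span ⟨u, rfl⟩
      refine Submodule.span_mono ?_ h1
      intro x hx
      exact ⟨⟨pick ⟨x, hx⟩, hmemE _⟩, hpick ⟨x, hx⟩⟩
    | add f g hf hg => rw [map_add]; exact add_mem hf hg
  constructor
  · -- spanning, by degree
    have hom : ∀ D, ∀ f : MvPolynomial σ F, f.IsHomogeneous D → ∃ p : hfin.toFinset → MvPolynomial (Fin m) F,
        f - ∑ e, thHom θ m (p e) * monomial e.1 1 ∈ I := by
      intro D
      induction D using Nat.strong_induction_on with
      | _ D ih =>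
      intro f hf
      obtain ⟨c, hc⟩ := (Submodule.mem_span_range_iff_exists_fun F).1 (hspanE f)
      have h1 : f - ∑ e : hfin.toFinset, c e • monomial e.1 (1 : F) ∈ I ⊔ Th θ m := by
        rw [← Ideal.Quotient.eq_zero_iff_mem]
        show q (f - _) = 0
        rw [map_sub, map_sum, sub_eq_zero, ← hc]
        exact Finset.sum_congr rfl fun e _ => (map_smul _ _ _).symm
      obtain ⟨i, hi, w, hw, hiw⟩ := Submodule.mem_sup.1 h1
      obtain ⟨g, hg⟩ := (Submodule.mem_span_range_iff_exists_fun (MvPolynomial σ F)).1 hw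
      have hrec : ∀ j : Fin m, 1 ≤ D → ∃ p : hfin.toFinset → MvPolynomial (Fin m) F,
          homogeneousComponent (D - 1) (g j) - ∑ e, thHom θ m (p e) * monomial e.1 1 ∈ I :=
        fun j hD => ih (D - 1) (by omega) _ (homogeneousComponent_isHomogeneous _ _)
      choose! pj hpj using hrec
      refine ⟨fun e => C (if e.1.degree = D then c e else 0) +
        (if 1 ≤ D then ∑ j : Fin m, MvPolynomial.X j * pj j e else 0), ?_⟩
      have hfc : f = homogeneousComponent D (∑ e : hfin.toFinset, c e • monomial e.1 (1 : F)) +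
          homogeneousComponent D i + ∑ j : Fin m, homogeneousComponent D (g j * θ j) := by
        rw [← map_sum, ← map_add, ← map_add]
        simp only [smul_eq_mul] at hg
        rw [hg, add_assoc, hiw, add_sub_cancel, homogeneousComponent_eq_self hf]
      have e1 : homogeneousComponent D (∑ e : hfin.toFinset, c e • monomial e.1 (1 : F)) =
          ∑ e : hfin.toFinset, thHom θ m (C (if e.1.degree = D then c e else 0)) * monomial e.1 1 := by
        rw [map_sum]
        refine Finset.sum_congr rfl fun e _ => ?_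
        rw [map_smul, homogeneousComponent_of_mem (isHomogeneous_monomial (1 : F) rfl), thHom,
          MvPolynomial.aeval_C, ← Algebra.smul_def, eq_comm]
        rcases eq_or_ne e.1.degree D with hD | hD
        · simp [hD]
        · simp [hD, hD.symm]
      rw [hfc, e1]
      simp only [map_add, add_mul, Finset.sum_add_distrib]
      rw [add_sub_add_comm, add_sub_cancel_left]
      refine Ideal.add_mem _ (by simpa using hI i hi D) ?_
      split_ifs with hD
      · rw [show (∑ e : hfin.toFinset, thHom θ m (∑ j : Fin m, MvPolynomial.X j * pj j e) * monomial e.1 1) =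
            ∑ j : Fin m, θ j * ∑ e : hfin.toFinset, thHom θ m (pj j e) * monomial e.1 1 by
          simp only [map_sum, map_mul, Finset.sum_mul, Finset.mul_sum]
          rw [Finset.sum_comm]
          refine Finset.sum_congr rfl fun j _ => Finset.sum_congr rfl fun e _ => ?_
          rw [thHom, MvPolynomial.aeval_X, mul_assoc], ← Finset.sum_sub_distrib]
        refine Ideal.sum_mem _ fun j _ => ?_
        rw [comp_mul_of_isHomogeneous (hθ j), if_pos hD, mul_comm _ (θ ↑j), ← mul_sub]
        exact Ideal.mul_mem_left _ _ (hpj j hD)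
      · have : ∀ j : Fin m, homogeneousComponent D (g j * θ j) = 0 := fun j => by
          rw [comp_mul_of_isHomogeneous (hθ j), if_neg hD]
        simp [this]
    intro f
    choose p hp using fun D => hom D _ (homogeneousComponent_isHomogeneous D f)
    refine ⟨fun e => ∑ D ∈ Finset.range (f.totalDegree + 1), p D e, ?_⟩
    simp only [map_sum, Finset.sum_mul]
    rw [Finset.sum_comm]
    nth_rewrite 1 [← sum_homogeneousComponent f]
    rw [← Finset.sum_sub_distrib]
    refine Ideal.sum_mem _ fun D _ => ?_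
    exact hp D
  · -- independence, by downward induction
    have key : ∀ t, ∀ k, k + t = m → ∀ p : hfin.toFinset → MvPolynomial (Fin m) F,
        (∑ e, thHom θ m (p e) * monomial e.1 1) ∈ I ⊔ Th θ k → ∀ e, p e ∈ varsLT m k := by
      intro t
      induction t with
      | zero =>
        intro k hk p hp e
        rw [Nat.add_zero] at hk
        subst hk
        have hdiff : ∀ e, p e - C (constantCoeff (p e)) ∈ varsLT (F := F) k k := by
          intro e
          rw [varsLT, mem_ideal_span_X_image]
          intro x hx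
          by_contra hno
          push Not at hno
          have : x = 0 := Finsupp.ext fun j => hno j j.isLt
          subst this
          rw [mem_support_iff, coeff_sub, coeff_zero_C, ← constantCoeff_eq] at hx
          exact hx (sub_self _)
        have h1 : ∑ e, constantCoeff (p e) • q (monomial e.1 1) = 0 := by
          rw [Finset.sum_congr rfl fun e (_ : e ∈ _) => (map_smul q (constantCoeff (p e)) _).symm, ← map_sum]
          refine Ideal.Quotient.eq_zero_iff_mem.2 ?_
          rw [show (∑ e : hfin.toFinset, constantCoeff (p e) • monomial e.1 (1 : F)) =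
            (∑ e : hfin.toFinset, thHom θ k (p e) * monomial e.1 1) -
              ∑ e : hfin.toFinset, thHom θ k (p e - C (constantCoeff (p e))) * monomial e.1 1 by
            rw [← Finset.sum_sub_distrib]
            refine Finset.sum_congr rfl fun e _ => ?_
            rw [map_sub, sub_mul, sub_sub_cancel, thHom, MvPolynomial.aeval_C, Algebra.smul_def]]
          exact Ideal.sub_mem _ hp (Ideal.sum_mem _ fun e _ =>
            Ideal.mul_mem_right _ _ (Submodule.mem_sup_right (thHom_mem_Th (hdiff e))))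
        have h2 := Fintype.linearIndependent_iff.1 hliE _ h1 e
        have := hdiff e
        rwa [h2, map_zero, sub_zero] at this
      | succ t ih =>
        intro k hk p hp e
        have hkm : k < m := by omega
        refine mem_varsLT_of_forall hkm fun D => ?_
        suffices ∀ D, ∀ p : hfin.toFinset → MvPolynomial (Fin m) F,
            (∑ e, thHom θ m (p e) * monomial e.1 1) ∈ I ⊔ Th θ k →
            ∀ e, p e ∈ varsLT m k ⊔ Ideal.span {MvPolynomial.X ⟨k, hkm⟩ ^ D} from this D p hp e
        intro D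
        induction D with
        | zero =>
          intro p _ e
          rw [pow_zero, Ideal.span_singleton_one]
          exact Submodule.mem_sup_right Submodule.mem_top
        | succ D ihD =>
          intro p hp
          have h1 := ih (k + 1) (by omega) p ((sup_le_sup_left (Th_mono θ (Nat.le_succ k)) I : I ⊔ Th θ k ≤ I ⊔ Th θ (k + 1)) hp)
          have hsplit : ∀ e, ∃ a ∈ varsLT (F := F) m k, ∃ s, p e = a + MvPolynomial.X ⟨k, hkm⟩ * s := by
            intro e
            have : varsLT (F := F) m (k + 1) ≤ varsLT m k ⊔ Ideal.span {MvPolynomial.X ⟨k, hkm⟩} := by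
              refine Ideal.span_le.2 ?_
              rintro _ ⟨j, hj, rfl⟩
              rcases Nat.lt_succ_iff_lt_or_eq.1 hj with h | h
              · exact Submodule.mem_sup_left (Ideal.subset_span ⟨j, h, rfl⟩)
              · obtain rfl : j = ⟨k, hkm⟩ := Fin.ext h
                exact Submodule.mem_sup_right (Ideal.mem_span_singleton_self _)
            obtain ⟨a, ha, w, hw, haw⟩ := Submodule.mem_sup.1 (this (h1 e))
            obtain ⟨s, rfl⟩ := Ideal.mem_span_singleton.1 hw
            exact ⟨a, ha, s, haw.symm⟩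
          choose a ha s hs using hsplit
          have h2 : θ k * ∑ e, thHom θ m (s e) * monomial e.1 1 ∈ I ⊔ Th θ k := by
            rw [show θ k * ∑ e : hfin.toFinset, thHom θ m (s e) * monomial e.1 1 =
              (∑ e : hfin.toFinset, thHom θ m (p e) * monomial e.1 1) -
                ∑ e : hfin.toFinset, thHom θ m (a e) * monomial e.1 1 by
              rw [← Finset.sum_sub_distrib, Finset.mul_sum]
              refine Finset.sum_congr rfl fun e _ => ?_
              rw [hs e, map_add, map_mul, show thHom θ m (MvPolynomial.X ⟨k, hkm⟩) = θ k from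
                MvPolynomial.aeval_X _ _]
              ring]
            exact Ideal.sub_mem _ hp (Ideal.sum_mem _ fun e _ =>
              Ideal.mul_mem_right _ _ (Submodule.mem_sup_right (thHom_mem_Th (ha e))))
          intro e
          obtain ⟨a', ha', w, hw, haw⟩ := Submodule.mem_sup.1 (ihD s (hreg k hkm _ h2) e)
          obtain ⟨g, rfl⟩ := Ideal.mem_span_singleton.1 hw
          rw [hs e, ← haw, mul_add, ← add_assoc, ← mul_assoc, ← pow_succ']
          exact Submodule.add_mem_sup (Ideal.add_mem _ (ha e) (Ideal.mul_mem_left _ _ ha'))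
            (Ideal.mul_mem_right _ _ (Ideal.mem_span_singleton_self _))
    intro p hp
    funext e
    have h := key m 0 (Nat.zero_add m) p (by rw [Th_zero, sup_bot_eq]; exact hp) e
    simpa [varsLT] using h

end free

end Groth.Smt
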