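import Groth.Agent.Smt.CellMinors
import Groth.Agent.Smt.Quadrics

/-! Minors of a matrix as Plücker indices of the opposite big cell, and their order. -/

set_option autoImplicit false

universe u

open Finset W4bk4grassmannian

namespace Groth.Smt

/-- The number of entries smaller than `x`. -/
def cnt {p N : ℕ} (a : Fin p → Fin N) (x : ℕ) : ℕ := (univ.filter fun j => (a j).val < x).card

theorem cnt_le {p N : ℕ} (a : Fin p → Fin N) (x : ℕ) : cnt a x ≤ p :=
  (card_filter_le _ _).trans (by simp)

theorem cnt_of_ge {p N : ℕ} (a : Fin p → Fin N) {x : ℕ} (h : N ≤ x) : cnt a x = p := by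
  rw [cnt, filter_true_of_mem fun j _ => lt_of_lt_of_le (a j).isLt h]
  simp

theorem cnt_eq_card_image {p N : ℕ} (a : Fin p → Fin N) (ha : Function.Injective a) (x : ℕ) :
    cnt a x = ((univ.image a).filter fun y => y.val < x).card := by
  rw [cnt, filter_image, card_image_of_injective _ ha]

theorem cnt_le_iff {p p' N : ℕ} (a : Fin p → Fin N) (a' : Fin p' → Fin N) (ha : StrictMono a)
    (ha' : StrictMono a') :
    (∀ x ≤ N, cnt a x ≤ cnt a' x) ↔
      p ≤ p' ∧ ∀ (j : Fin p) (j' : Fin p'), j.val = j'.val → a' j' ≤ a j := by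
  classical
  constructor
  · intro h
    refine ⟨?_, fun j j' hj => ?_⟩
    · have := h N le_rfl
      rwa [cnt_of_ge a le_rfl, cnt_of_ge a' le_rfl] at this
    · by_contra hlt
      have h1 : j.val + 1 ≤ cnt a ((a j).val + 1) := by
        calc j.val + 1 = (Finset.Iic j).card := (Fin.card_Iic j).symm
          _ ≤ _ := card_le_card fun i hi => mem_filter.2 ⟨mem_univ _,
              Nat.lt_succ_of_le (ha.monotone (mem_Iic.1 hi))⟩
      have h2 : cnt a' ((a j).val + 1) ≤ j'.val := by
        rw [← Fin.card_Iio j']
        refine card_le_card fun i hi => mem_Iio.2 ?_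
        by_contra hle
        have h3 := ha'.monotone (not_lt.1 hle)
        have h4 := (mem_filter.1 hi).2
        rw [Fin.le_def] at h3
        rw [not_le, Fin.lt_def] at hlt
        omega
      have h3 := h ((a j).val + 1) (a j).isLt
      omega
  · rintro ⟨hp, h⟩ x -
    calc cnt a x = ((univ.filter fun j => (a j).val < x).map (Fin.castLEEmb hp)).card :=
          (card_map _).symm
      _ ≤ _ := card_le_card fun i hi => by
          obtain ⟨j, hj, rfl⟩ := mem_map.1 hi
          rw [mem_filter] at hj ⊢
          exact ⟨mem_univ _, lt_of_le_of_lt (Fin.le_def.1 (h j _ (by simp))) hj.2⟩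

theorem idx_le_iff_cnt {d n : ℕ} (θ θ' : Idx d n) :
    θ ≤ θ' ↔ ∀ x ≤ n, cnt θ'.1 x ≤ cnt θ.1 x := by
  rw [cnt_le_iff _ _ θ'.2 θ.2]
  constructor
  · exact fun h => ⟨le_rfl, fun j j' hj => Fin.ext hj ▸ h j⟩
  · exact fun h t => h.2 t t rfl

variable {d r : ℕ}

/-- The rows of `[I_d ; Z]` giving the minor `[A | B]` of `Z` after reversing the rows. -/
def minorSet (M : MinorIdx r d) : Finset (Fin (d + r)) :=
  univ.image (fun i => Fin.natAdd d (Fin.rev (M.2.1.1 i))) ∪
    (univ \ univ.image M.2.2.1).image (Fin.castAdd r)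

theorem disjoint_minorSet (M : MinorIdx r d) :
    Disjoint (univ.image (fun i => Fin.natAdd d (Fin.rev (M.2.1.1 i))))
      ((univ \ univ.image M.2.2.1).image (Fin.castAdd r)) := by
  rw [Finset.disjoint_left]
  intro y hy hy'
  obtain ⟨i, -, rfl⟩ := mem_image.1 hy
  obtain ⟨c, -, hc⟩ := mem_image.1 hy'
  have := congrArg Fin.val hc
  simp at this
  omega

theorem size_le (M : MinorIdx r d) : M.1 + 1 ≤ d ∧ M.1 + 1 ≤ r :=
  ⟨by simpa using Fintype.card_le_of_injective _ M.2.2.2.injective,
    by simpa using Fintype.card_le_of_injective _ M.2.1.2.injective⟩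

theorem rowInj (M : MinorIdx r d) : Function.Injective fun i => Fin.natAdd d (Fin.rev (M.2.1.1 i)) :=
  (Fin.natAdd_injective _ _).comp (Fin.rev_injective.comp M.2.1.2.injective)

theorem card_minorSet (M : MinorIdx r d) : (minorSet M).card = d := by
  rw [minorSet, card_union_of_disjoint (disjoint_minorSet M), card_image_of_injective _ (rowInj M),
    card_image_of_injective _ (Fin.castAdd_injective _ _), card_sdiff_of_subset (subset_univ _),
    card_image_of_injective _ M.2.2.2.injective]
  simp only [card_univ, Fintype.card_fin]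
  have := (size_le M).1
  omega

/-- The index of a minor. -/
def minorIndex (M : MinorIdx r d) : Idx d (d + r) :=
  ⟨fun t => (minorSet M).orderEmbOfFin (card_minorSet M) t,
    ((minorSet M).orderEmbOfFin (card_minorSet M)).strictMono⟩

theorem image_minorIndex (M : MinorIdx r d) : univ.image (minorIndex M).1 = minorSet M := by
  ext x
  have := Set.ext_iff.1 (Finset.range_orderEmbOfFin (minorSet M) (card_minorSet M)) x
  simpa [minorIndex] using this

theorem cnt_minorIndex_low (M : MinorIdx r d) {x : ℕ} (hx : x ≤ d) :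
    cnt (minorIndex M).1 x + cnt M.2.2.1 x = x := by
  classical
  rw [cnt_eq_card_image _ (minorIndex M).2.injective, image_minorIndex, minorSet, filter_union]
  have e1 : (univ.image (fun i => Fin.natAdd d (Fin.rev (M.2.1.1 i)))).filter (fun y => y.val < x) = ∅ := by
    rw [filter_eq_empty_iff]
    intro y hy
    obtain ⟨i, -, rfl⟩ := mem_image.1 hy
    simp only [Fin.val_natAdd]
    omega
  rw [e1, empty_union, filter_image, card_image_of_injective _ (Fin.castAdd_injective _ _),
    cnt_eq_card_image _ M.2.2.2.injective]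
  simp only [Fin.val_castAdd]
  rw [← card_union_of_disjoint (disjoint_filter_filter (sdiff_disjoint)), ← filter_union,
    sdiff_union_of_subset (subset_univ _)]
  have : (univ.filter fun y : Fin d => y.val < x) = (Finset.range x).attachFin (fun y hy => lt_of_lt_of_le (mem_range.1 hy) hx) := by
    ext y; simp [mem_attachFin]
  rw [this, card_attachFin, card_range]

theorem cnt_minorIndex_high (M : MinorIdx r d) {k : ℕ} (hk : k ≤ r) :
    cnt (minorIndex M).1 (d + k) + cnt M.2.1.1 (r - k) = d := by
  classical
  rw [cnt_eq_card_image _ (minorIndex M).2.injective, image_minorIndex, minorSet, filter_union,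
    card_union_of_disjoint (disjoint_filter_filter (disjoint_minorSet M)), filter_image,
    card_image_of_injective _ (rowInj M)]
  have e2 : ((univ \ univ.image M.2.2.1).image (Fin.castAdd r)).filter (fun y => y.val < d + k) =
      (univ \ univ.image M.2.2.1).image (Fin.castAdd r) := by
    rw [filter_eq_self]
    intro y hy
    obtain ⟨c, -, rfl⟩ := mem_image.1 hy
    simp only [Fin.val_castAdd]
    omega
  rw [e2, card_image_of_injective _ (Fin.castAdd_injective _ _), card_sdiff_of_subset (subset_univ _),
    card_image_of_injective _ M.2.2.2.injective, card_univ, card_univ, Fintype.card_fin, Fintype.card_fin,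
    cnt]
  have h := card_filter_add_card_filter_not (s := (univ : Finset (Fin (M.1 + 1))))
    (fun i => (Fin.natAdd d (Fin.rev (M.2.1.1 i))).val < d + k)
  have e3 : (univ.filter fun i => ¬ (Fin.natAdd d (Fin.rev (M.2.1.1 i))).val < d + k) =
      univ.filter fun i => (M.2.1.1 i).val < r - k := by
    refine filter_congr fun i _ => ?_
    simp only [Fin.val_natAdd, Fin.val_rev]
    have := (M.2.1.1 i).isLt
    omega
  rw [e3, card_univ, Fintype.card_fin] at h
  have := (size_le M).1
  omega

theorem minorIndex_le_iff (M M' : MinorIdx r d) :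
    minorIndex M ≤ minorIndex M' ↔ MinorGE M M' := by
  have hA := cnt_le_iff M.2.1.1 M'.2.1.1 M.2.1.2 M'.2.1.2
  have hB := cnt_le_iff M.2.2.1 M'.2.2.1 M.2.2.2 M'.2.2.2
  rw [idx_le_iff_cnt]
  constructor
  · intro h
    have h1 := hA.1 fun x hx => by
      have h0 := h (d + (r - x)) (by omega)
      have h1 := cnt_minorIndex_high M (k := r - x) (by omega)
      have h2 := cnt_minorIndex_high M' (k := r - x) (by omega)
      rw [show r - (r - x) = x by omega] at h1 h2
      omega
    have h2 := hB.1 fun x hx => by
      have h0 := h x (by omega)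
      have h1 := cnt_minorIndex_low M hx
      have h2 := cnt_minorIndex_low M' hx
      omega
    exact ⟨by omega, fun j j' hj => ⟨h1.2 j j' hj, h2.2 j j' hj⟩⟩
  · rintro ⟨hs, h⟩ x hx
    rcases le_or_gt x d with hxd | hxd
    · have h0 := hB.2 ⟨by omega, fun j j' hj => (h j j' hj).2⟩ x hxd
      have h1 := cnt_minorIndex_low M hxd
      have h2 := cnt_minorIndex_low M' hxd
      omega
    · obtain ⟨k, rfl⟩ : ∃ k, x = d + k := ⟨x - d, by omega⟩
      have h0 := hA.2 ⟨by omega, fun j j' hj => (h j j' hj).1⟩ (r - k) (by omega)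
      have h1 := cnt_minorIndex_high M (k := k) (by omega)
      have h2 := cnt_minorIndex_high M' (k := k) (by omega)
      omega

theorem minorIndex_injective : Function.Injective (minorIndex : MinorIdx r d → Idx d (d + r)) := by
  intro M M' h
  obtain ⟨h1, hle⟩ := (minorIndex_le_iff M M').1 h.le
  obtain ⟨h2, hge⟩ := (minorIndex_le_iff M' M).1 h.ge
  obtain ⟨s, A, B⟩ := M
  obtain ⟨s', A', B'⟩ := M'
  obtain rfl : s = s' := le_antisymm h1 h2
  have eA : A = A' := Subtype.ext (funext fun j => le_antisymm ((hge j j rfl).1) ((hle j j rfl).1))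
  have eB : B = B' := Subtype.ext (funext fun j => le_antisymm ((hge j j rfl).2) ((hle j j rfl).2))
  rw [eA, eB]

theorem minorIndex_ne_bot (M : MinorIdx r d) : minorIndex M ≠ botIdx (Nat.le_add_right d r) := by
  intro h
  have h1 : cnt (minorIndex M).1 d = d := by
    rw [h, cnt, filter_true_of_mem fun j _ => j.isLt]
    simp
  have h2 := cnt_minorIndex_low M (x := d) le_rfl
  rw [cnt_of_ge M.2.2.1 le_rfl] at h2
  omega

theorem exists_minorIndex_eq (θ : Idx d (d + r)) (hθ : θ ≠ botIdx (Nat.le_add_right d r)) :
    ∃ M : MinorIdx r d, minorIndex M = θ := by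
  classical
  let A : Finset (Fin r) := univ.filter fun a => Fin.natAdd d (Fin.rev a) ∈ univ.image θ.1
  let B : Finset (Fin d) := univ.filter fun b => Fin.castAdd r b ∉ univ.image θ.1
  have himg : univ.image θ.1 = A.image (fun a => Fin.natAdd d (Fin.rev a)) ∪ (univ \ B).image (Fin.castAdd r) := by
    ext y
    constructor
    · intro hy
      induction y using Fin.addCases with
      | left c =>
        refine mem_union_right _ (mem_image_of_mem _ ?_)
        simp only [B, mem_sdiff, mem_univ, true_and, mem_filter, not_not]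
        exact hy
      | right a =>
        refine mem_union_left _ (mem_image.2 ⟨Fin.rev a, ?_, by rw [Fin.rev_rev]⟩)
        simp only [A, mem_filter, mem_univ, true_and, Fin.rev_rev]
        exact hy
    · intro hy
      rcases mem_union.1 hy with hy | hy
      · obtain ⟨a, ha, rfl⟩ := mem_image.1 hy
        exact (mem_filter.1 ha).2
      · obtain ⟨c, hc, rfl⟩ := mem_image.1 hy
        simpa [B] using hc
  have hinjA : Function.Injective fun a : Fin r => Fin.natAdd d (Fin.rev a) :=
    (Fin.natAdd_injective _ _).comp Fin.rev_injective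
  have hcard : B.card = A.card := by
    have h := congrArg card himg
    rw [card_image_of_injective _ θ.2.injective, card_univ, Fintype.card_fin,
      card_union_of_disjoint, card_image_of_injective _ hinjA,
      card_image_of_injective _ (Fin.castAdd_injective _ _), card_sdiff_of_subset (subset_univ _),
      card_univ, Fintype.card_fin] at h
    · have : B.card ≤ d := (card_le_univ B).trans (by simp)
      omega
    · rw [Finset.disjoint_left]
      intro y hy hy'
      obtain ⟨a, -, rfl⟩ := mem_image.1 hy
      obtain ⟨c, -, hc⟩ := mem_image.1 hy'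
      have := congrArg Fin.val hc
      simp at this
      omega
  obtain ⟨p, hp⟩ : ∃ p, A.card = p + 1 := by
    refine Nat.exists_eq_succ_of_ne_zero fun h0 => hθ ?_
    have hB : B = ∅ := card_eq_zero.1 (hcard.trans h0)
    refine idx_ext_image ?_
    rw [himg, card_eq_zero.1 h0, hB, image_empty, empty_union, sdiff_empty]
    ext y
    simp only [mem_image, mem_univ, true_and, botIdx]
    exact ⟨fun ⟨c, hc⟩ => ⟨c, hc ▸ rfl⟩, fun ⟨c, hc⟩ => ⟨c, hc ▸ rfl⟩⟩
  let M : MinorIdx r d := ⟨p, ⟨fun i => A.orderEmbOfFin hp i, (A.orderEmbOfFin hp).strictMono⟩,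
    ⟨fun i => B.orderEmbOfFin (hcard.trans hp) i, (B.orderEmbOfFin _).strictMono⟩⟩
  refine ⟨M, idx_ext_image ?_⟩
  rw [image_minorIndex, himg, minorSet]
  congr 1
  · conv_rhs => rw [← Finset.image_orderEmbOfFin_univ A hp, image_image]
    rfl
  · have eB : univ.image M.2.2.1 = B := Finset.image_orderEmbOfFin_univ B (hcard.trans hp)
    rw [eB]

variable (K : Type u) [CommRing K]

theorem minor_eq_signed_cellMinor (M : MinorIdx r d) :
    ∃ k : ℕ, ((genMatrix K r d).submatrix (fun i => Fin.rev (M.2.1.1 i)) M.2.2.1).det =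
      (-1) ^ k * det' (cellMatrix K d r) (minorIndex M).1 := by
  classical
  obtain ⟨a, hdet, hmem⟩ := exists_tuple_minor K d r (M.1 + 1) (fun i => Fin.rev (M.2.1.1 i)) M.2.2.1
    M.2.2.2.injective
  have himg : univ.image a = univ.image (minorIndex M).1 := by
    ext y
    rw [hmem, image_minorIndex, minorSet, mem_union, mem_image, mem_image]
    simp
  have hc : (univ.image a).card = d := by
    rw [himg, card_image_of_injective _ (minorIndex M).2.injective, card_univ, Fintype.card_fin]
  refine ⟨invCount d (d + r) a, ?_⟩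
  rw [← hdet, det'_eq_coord, dif_pos hc,
    idx_ext_image (θ := sortIdx d (d + r) a hc) ((image_sortIdx a hc).trans himg)]

end Groth.Smt
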