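import Groth.Agent.Smt.Order
import Mathlib.LinearAlgebra.Alternating.Basic
import Mathlib.LinearAlgebra.Matrix.Determinant.Basic
import Mathlib.GroupTheory.Perm.Fin
import Mathlib.LinearAlgebra.Dimension.Free

/-! The Plücker (shuffle) relations hold between the maximal minors of any matrix. -/

set_option autoImplicit false

universe u

open Finset W4bk4grassmannian

namespace Groth.Smt

variable {d n : ℕ}

theorem sign_eq_neg_one_pow_inversions {m : ℕ} (σ : Equiv.Perm (Fin m)) :
    Equiv.Perm.sign σ =
      (-1) ^ (univ.filter fun p : Fin m × Fin m => p.1 < p.2 ∧ σ p.2 < σ p.1).card := by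
  rw [σ.sign_eq_prod_prod_Ioi, ← Finset.prod_const, Finset.prod_filter, ← univ_product_univ,
    Finset.prod_product]
  refine Finset.prod_congr rfl fun i _ => ?_
  rw [← Finset.filter_lt_eq_Ioi, Finset.prod_filter]
  refine Finset.prod_congr rfl fun j _ => ?_
  by_cases hij : i < j
  · have hne : σ i ≠ σ j := σ.injective.ne hij.ne
    by_cases hs : σ i < σ j
    · simp [hij, hs, hs.le]
    · simp [hij, hs, lt_of_le_of_ne (not_lt.1 hs) hne.symm]
  · simp [hij]

/-- The minor of a matrix on an arbitrary tuple of rows. -/
def det' {R : Type u} [CommRing R] (M : Matrix (Fin n) (Fin d) R) (a : Fin d → Fin n) : R :=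
  (M.submatrix a id).det

theorem det'_eq_coord {R : Type u} [CommRing R] (M : Matrix (Fin n) (Fin d) R) (a : Fin d → Fin n) :
    det' M a = if h : (univ.image a).card = d
      then (-1 : R) ^ invCount d n a * det' M (sortIdx d n a h).1 else 0 := by
  split
  · next h =>
    have hinj : Function.Injective a := by
      rw [← Set.injOn_univ, ← Finset.coe_univ]
      exact Finset.card_image_iff.1 (by rw [h, card_fin])
    set e := (univ.image a).orderIsoOfFin h with he
    have hmem : ∀ t, a t ∈ univ.image a := fun t => mem_image_of_mem _ (mem_univ t)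
    have hbij : Function.Bijective fun t => e.symm ⟨a t, hmem t⟩ :=
      Finite.injective_iff_bijective.1 fun s t hst => hinj
        (congrArg Subtype.val (e.symm.injective hst))
    set σ := Equiv.ofBijective _ hbij with hσ
    have key : a = fun t => (sortIdx d n a h).1 (σ t) := by
      funext t
      show a t = (univ.image a).orderEmbOfFin h (σ t)
      rw [← Finset.coe_orderIsoOfFin_apply]
      simp [hσ, he]
    have hs : invCount d n a =
        (univ.filter fun p : Fin d × Fin d => p.1 < p.2 ∧ σ p.2 < σ p.1).card := by
      unfold invCount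
      congr 1
      refine filter_congr fun p _ => and_congr_right fun _ => ?_
      conv_lhs => rw [key]
      exact (sortIdx d n a h).2.lt_iff_lt
    have hM : M.submatrix a id = (M.submatrix (sortIdx d n a h).1 id).submatrix σ id := by
      ext s t
      show M (a s) t = M _ t
      rw [congrFun key s]
    rw [det', hM, Matrix.det_permute, sign_eq_neg_one_pow_inversions, hs]
    simp [det']
  · next h =>
    have : ¬ Function.Injective a := fun hi => h (by rw [card_image_of_injective _ hi, card_fin])
    simp only [Function.Injective, not_forall] at this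
    obtain ⟨s, t, hst, hne⟩ := this
    exact Matrix.det_zero_of_row_eq hne (by ext; simp [hst])

section shuffle

variable (r : Fin d)

/-- The first tuple of a shuffled pair. -/
def Ifun {α : Type*} (i : Fin d → α) (u : Fin (d + 1) → α) : Fin d → α :=
  fun t => if t.val ≤ r.val then u t.castSucc else i t

/-- The second tuple of a shuffled pair. -/
def Jfun {α : Type*} (j : Fin d → α) (u : Fin (d + 1) → α) : Fin d → α :=
  fun t => if t.val < r.val then j t else u t.succ

variable {R : Type u} [CommRing R]

/-- The product of the two determinants, as a multilinear map in the moving vectors. -/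
noncomputable def Fmap (i j : Fin d → Fin d → R) :
    MultilinearMap R (fun _ : Fin (d + 1) => Fin d → R) R :=
  MultilinearMap.mk' (fun u => Matrix.det (Matrix.of (Ifun r i u)) * Matrix.det (Matrix.of (Jfun r j u)))
    (fun u k x y => by
      by_cases hk : k.val ≤ r.val
      · have e : ∀ z, Ifun r i (Function.update u k z) =
            Function.update (Ifun r i u) ⟨k.val, by omega⟩ z := by
          intro z; funext t
          simp only [Ifun, Function.update_apply, Fin.ext_iff, Fin.val_castSucc]
          split_ifs <;> first | rfl | omega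
        have e' : ∀ z, Jfun r j (Function.update u k z) = Jfun r j u := by
          intro z; funext t
          simp only [Jfun, Function.update_apply, Fin.ext_iff, Fin.val_succ]
          split_ifs <;> first | rfl | omega
        simp only [e, e']
        rw [← add_mul]
        congr 1
        exact Matrix.det_updateRow_add _ _ _ _
      · have e : ∀ z, Jfun r j (Function.update u k z) =
            Function.update (Jfun r j u) ⟨k.val - 1, by omega⟩ z := by
          intro z; funext t
          simp only [Jfun, Function.update_apply, Fin.ext_iff, Fin.val_succ]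
          split_ifs <;> first | rfl | omega
        have e' : ∀ z, Ifun r i (Function.update u k z) = Ifun r i u := by
          intro z; funext t
          simp only [Ifun, Function.update_apply, Fin.ext_iff, Fin.val_castSucc]
          split_ifs <;> first | rfl | omega
        simp only [e, e']
        rw [← mul_add]
        congr 1
        exact Matrix.det_updateRow_add _ _ _ _)
    (fun u k c x => by
      by_cases hk : k.val ≤ r.val
      · have e : ∀ z, Ifun r i (Function.update u k z) =
            Function.update (Ifun r i u) ⟨k.val, by omega⟩ z := by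
          intro z; funext t
          simp only [Ifun, Function.update_apply, Fin.ext_iff, Fin.val_castSucc]
          split_ifs <;> first | rfl | omega
        have e' : ∀ z, Jfun r j (Function.update u k z) = Jfun r j u := by
          intro z; funext t
          simp only [Jfun, Function.update_apply, Fin.ext_iff, Fin.val_succ]
          split_ifs <;> first | rfl | omega
        simp only [e, e', smul_eq_mul]
        rw [← mul_assoc]
        congr 1
        exact Matrix.det_updateRow_smul _ _ _ _
      · have e : ∀ z, Jfun r j (Function.update u k z) =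
            Function.update (Jfun r j u) ⟨k.val - 1, by omega⟩ z := by
          intro z; funext t
          simp only [Jfun, Function.update_apply, Fin.ext_iff, Fin.val_succ]
          split_ifs <;> first | rfl | omega
        have e' : ∀ z, Ifun r i (Function.update u k z) = Ifun r i u := by
          intro z; funext t
          simp only [Ifun, Function.update_apply, Fin.ext_iff, Fin.val_castSucc]
          split_ifs <;> first | rfl | omega
        simp only [e, e', smul_eq_mul]
        rw [mul_left_comm]
        congr 1
        exact Matrix.det_updateRow_smul _ _ _ _)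

/-- `k` is among the first `r + 1` positions. -/
abbrev IsFront (k : Fin (d + 1)) : Prop := k.val ≤ r.val

theorem Fmap_perm (i j : Fin d → Fin d → R) (π : Equiv.Perm (Fin (d + 1)))
    (h : ∀ k, IsFront r (π k) ↔ IsFront r k) (u : Fin (d + 1) → Fin d → R) :
    Fmap r i j (fun k => u (π k)) = ((Equiv.Perm.sign π : ℤ) : R) * Fmap r i j u := by
  classical
  let f1 : {k : Fin (d + 1) // IsFront r k} ≃ {t : Fin d // t.val ≤ r.val} :=
    { toFun := fun k => ⟨⟨k.1.val, by have := k.2; have := r.isLt; simp only [IsFront] at *; omega⟩, k.2⟩
      invFun := fun t => ⟨t.1.castSucc, t.2⟩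
      left_inv := fun k => by ext; simp
      right_inv := fun t => by ext; simp }
  let f2 : {k : Fin (d + 1) // ¬ IsFront r k} ≃ {t : Fin d // r.val ≤ t.val} :=
    { toFun := fun k => ⟨⟨k.1.val - 1, by have := k.1.isLt; have := k.2; simp only [IsFront] at *; omega⟩,
        by have := k.2; simp only [IsFront] at *; show r.val ≤ k.1.val - 1; omega⟩
      invFun := fun t => ⟨t.1.succ, by have := t.2; simp [IsFront]; omega⟩
      left_inv := fun k => by
        have := k.2
        ext
        simp only [IsFront, Fin.val_succ] at *
        omega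
      right_inv := fun t => by ext; simp }
  let e := π.subtypePerm h
  let e' := π.subtypePerm (p := fun k => ¬ IsFront r k) fun k => not_congr (h k)
  have hπ : Equiv.Perm.subtypeCongr e e' = π := by
    ext k
    by_cases hk : IsFront r k
    · rw [Equiv.Perm.subtypeCongr.left_apply _ _ hk]; rfl
    · rw [Equiv.Perm.subtypeCongr.right_apply _ _ hk]; rfl
  let π1 : Equiv.Perm (Fin d) := Equiv.Perm.ofSubtype (f1.permCongr e)
  let π2 : Equiv.Perm (Fin d) := Equiv.Perm.ofSubtype (f2.permCongr e')
  have hI : Ifun r i (fun k => u (π k)) = fun t => Ifun r i u (π1 t) := by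
    funext t
    by_cases ht : t.val ≤ r.val
    · have : π1 t = (f1.permCongr e ⟨t, ht⟩).1 := Equiv.Perm.ofSubtype_apply_of_mem (p := fun t : Fin d => t.val ≤ r.val) (f1.permCongr e) ht
      rw [this]
      have h2 : (π t.castSucc).val ≤ r.val := (h _).2 ht
      simp only [Ifun, ht, if_pos]
      rw [if_pos (f1.permCongr e ⟨t, ht⟩).2]
      congr 1
    · have : π1 t = t := Equiv.Perm.ofSubtype_apply_of_not_mem _ ht
      rw [this]; simp [Ifun, ht]
  have hJ : Jfun r j (fun k => u (π k)) = fun t => Jfun r j u (π2 t) := by
    funext t
    by_cases ht : r.val ≤ t.val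
    · have : π2 t = (f2.permCongr e' ⟨t, ht⟩).1 := Equiv.Perm.ofSubtype_apply_of_mem (p := fun t : Fin d => r.val ≤ t.val) (f2.permCongr e') ht
      rw [this]
      simp only [Jfun]
      rw [if_neg (not_lt.2 ht), if_neg (not_lt.2 (f2.permCongr e' ⟨t, ht⟩).2)]
      congr 1
      ext
      have h2 : ¬ (π t.succ).val ≤ r.val := fun hc => by
        have := (h t.succ).1 hc
        simp [IsFront] at this
        omega
      show (π t.succ).val = (π t.succ).val - 1 + 1
      omega
    · have : π2 t = t := Equiv.Perm.ofSubtype_apply_of_not_mem _ ht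
      rw [this]; simp [Jfun, not_le.1 ht]
  have s1 : Equiv.Perm.sign π1 = Equiv.Perm.sign e := by
    simp only [π1, Equiv.Perm.sign_ofSubtype, Equiv.Perm.sign_permCongr]
  have s2 : Equiv.Perm.sign π2 = Equiv.Perm.sign e' := by
    simp only [π2, Equiv.Perm.sign_ofSubtype, Equiv.Perm.sign_permCongr]
  show Matrix.det (Matrix.of (Ifun r i _)) * Matrix.det (Matrix.of (Jfun r j _))
    = _ * (Matrix.det (Matrix.of (Ifun r i u)) * Matrix.det (Matrix.of (Jfun r j u)))
  rw [hI, hJ,
    show (Matrix.of fun t => Ifun r i u (π1 t)) = (Matrix.of (Ifun r i u)).submatrix π1 id from rfl,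
    show (Matrix.of fun t => Jfun r j u (π2 t)) = (Matrix.of (Jfun r j u)).submatrix π2 id from rfl,
    Matrix.det_permute, Matrix.det_permute, s1, s2, ← hπ, Equiv.Perm.sign_subtypeCongr]
  push_cast
  ring

variable {r}

/-- The permutation listing `A` increasingly first, then its complement increasingly. -/
noncomputable def tau (A : Finset (Fin (d + 1))) (hA : A.card = r.val + 1) : Equiv.Perm (Fin (d + 1)) :=
  have hC : Aᶜ.card = d - r.val := by rw [Finset.card_compl, hA, Fintype.card_fin]; omega
  Equiv.ofBijective
    (fun k => if h : k.val ≤ r.val then A.orderEmbOfFin hA ⟨k.val, by omega⟩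
      else Aᶜ.orderEmbOfFin hC ⟨k.val - (r.val + 1), by have := k.isLt; omega⟩)
    (Finite.injective_iff_bijective.1 fun s t hst => by
      split_ifs at hst with hs ht ht
      · have := congrArg Fin.val ((A.orderEmbOfFin hA).injective hst)
        exact Fin.ext this
      · exact absurd (hst ▸ Finset.orderEmbOfFin_mem A hA _)
          (Finset.mem_compl.1 (Finset.orderEmbOfFin_mem Aᶜ hC _))
      · exact absurd (hst ▸ Finset.orderEmbOfFin_mem A hA _)
          (Finset.mem_compl.1 (Finset.orderEmbOfFin_mem Aᶜ hC _))
      · have := congrArg Fin.val ((Aᶜ.orderEmbOfFin hC).injective hst)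
        simp only at this
        exact Fin.ext (by omega))

theorem tau_mem_iff (A : Finset (Fin (d + 1))) (hA : A.card = r.val + 1) (k : Fin (d + 1)) :
    tau A hA k ∈ A ↔ IsFront r k := by
  unfold tau
  rw [Equiv.ofBijective_apply]
  split_ifs with h
  · simp only [IsFront, h, iff_true]; exact Finset.orderEmbOfFin_mem _ _ _
  · simp only [IsFront, h, iff_false]
    exact Finset.mem_compl.1 (Finset.orderEmbOfFin_mem _ _ _)

theorem shuffleI_eq (i j : Idx d n) (A : Finset (Fin (d + 1))) (hA : A.card = r.val + 1) :
    shuffleI i j r A hA = Ifun r i.1 (fun k => movingRows i j r (tau A hA k)) := by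
  funext t
  unfold shuffleI Ifun tau
  by_cases ht : t.val ≤ r.val
  · simp [Equiv.ofBijective_apply, ht]
  · simp [ht]

theorem shuffleJ_eq (i j : Idx d n) (A : Finset (Fin (d + 1))) (hA : A.card = r.val + 1) :
    shuffleJ i j r A hA = Jfun r j.1 (fun k => movingRows i j r (tau A hA k)) := by
  funext t
  unfold shuffleJ Jfun tau
  by_cases ht : t.val < r.val
  · simp [ht]
  · have : ¬ t.val + 1 ≤ r.val := by omega
    simp only [ht, dif_neg, not_false_iff, if_false, Equiv.ofBijective_apply, Fin.val_succ, this]
    congr 2
    exact Fin.ext (by simp)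

theorem sign_tau (A : Finset (Fin (d + 1))) (hA : A.card = r.val + 1) :
    Equiv.Perm.sign (tau A hA) = (-1) ^ shuffleSign r A := by
  rw [sign_eq_neg_one_pow_inversions]
  congr 1
  set τ := tau A hA with hτ
  have hmonoA : ∀ p q, IsFront r q → p < q → τ p < τ q := by
    intro p q hq hpq
    have hp : p.val ≤ r.val := le_trans hpq.le hq
    simp only [hτ, tau, Equiv.ofBijective_apply, hp, dif_pos, show q.val ≤ r.val from hq]
    exact (A.orderEmbOfFin hA).strictMono hpq
  have hmonoC : ∀ p q, ¬ IsFront r p → p < q → τ p < τ q := by
    intro p q hp hpq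
    have hq : ¬ q.val ≤ r.val := fun h => hp (le_trans hpq.le h)
    simp only [hτ, tau, Equiv.ofBijective_apply, dif_neg hq, dif_neg (show ¬ p.val ≤ r.val from hp)]
    refine (Finset.orderEmbOfFin _ _).strictMono ?_
    simp only [IsFront] at hp
    have : p.val < q.val := hpq
    rw [Fin.lt_def]
    show p.val - (r.val + 1) < q.val - (r.val + 1)
    omega
  have hfib : ∀ p : Fin (d + 1), (univ.filter fun q => p < q ∧ τ q < τ p).card =
      if IsFront r p then (τ p).val - p.val else 0 := by
    intro p
    split_ifs with hp
    · have h1 : (univ.filter fun q => τ q < τ p).card = (τ p).val := by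
        rw [← Fin.card_Iio (τ p)]
        exact Finset.card_equiv τ (by simp)
      have h2 : (univ.filter fun q => τ q < τ p) =
          (univ.filter fun q => p < q ∧ τ q < τ p) ∪ Finset.Iio p := by
        ext q
        simp only [mem_filter, mem_univ, true_and, mem_union, mem_Iio]
        constructor
        · intro h
          rcases lt_trichotomy p q with hpq | hpq | hpq
          · exact Or.inl ⟨hpq, h⟩
          · subst hpq; exact absurd h (lt_irrefl _)
          · exact Or.inr hpq
        · rintro (h | h)
          · exact h.2
          · exact hmonoA q p hp h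
      rw [h2, card_union_of_disjoint (by
        rw [disjoint_left]
        intro q hq hq'
        simp only [mem_filter, mem_Iio] at hq hq'
        exact lt_asymm hq.2.1 hq'), Fin.card_Iio] at h1
      omega
    · rw [card_eq_zero, filter_eq_empty_iff]
      rintro q - ⟨hpq, h⟩
      exact lt_asymm h (hmonoC p q hp hpq)
  have hsum : (univ.filter fun p : Fin (d + 1) × Fin (d + 1) => p.1 < p.2 ∧ τ p.2 < τ p.1).card
      = ∑ p : Fin (d + 1), (univ.filter fun q => p < q ∧ τ q < τ p).card := by
    simp only [card_filter, ← univ_product_univ]
    rw [Finset.sum_product]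
  rw [hsum, Finset.sum_congr rfl fun p _ => hfib p, ← Finset.sum_filter]
  have hle : ∀ p ∈ univ.filter (fun p : Fin (d + 1) => IsFront r p), p.val ≤ (τ p).val := by
    intro p hp
    have hp' := (mem_filter.1 hp).2
    have h1 : (Finset.Iio p).card ≤ (univ.filter fun q => τ q < τ p).card :=
      card_le_card fun q hq => by simp [hmonoA q p hp' (mem_Iio.1 hq)]
    have h2 : (univ.filter fun q => τ q < τ p).card = (τ p).val := by
      rw [← Fin.card_Iio (τ p)]
      exact Finset.card_equiv τ (by simp)
    rw [Fin.card_Iio] at h1
    omega
  rw [Finset.sum_tsub_distrib _ hle]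
  unfold shuffleSign
  congr 1
  · refine Finset.sum_bij (fun p _ => τ p) (fun p hp => ?_) (fun _ _ _ _ h => τ.injective h)
      (fun a ha => ⟨τ.symm a, ?_, by simp⟩) (fun p _ => rfl)
    · exact (tau_mem_iff A hA p).2 (mem_filter.1 hp).2
    · rw [mem_filter]
      exact ⟨mem_univ _, (tau_mem_iff A hA _).1 (by rw [← hτ, Equiv.apply_symm_apply]; exact ha)⟩
  · have : (∑ p ∈ univ.filter (fun p : Fin (d + 1) => IsFront r p), p.val)
        = ∑ m ∈ Finset.range (r.val + 1), m :=
      Finset.sum_bij (fun p _ => p.val)
        (fun p hp => Finset.mem_range.2 (Nat.lt_succ_of_le (mem_filter.1 hp).2))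
        (fun _ _ _ _ h => Fin.ext h)
        (fun m hm => ⟨⟨m, by have := Finset.mem_range.1 hm; omega⟩,
          mem_filter.2 ⟨mem_univ _, Nat.le_of_lt_succ (Finset.mem_range.1 hm)⟩, rfl⟩)
        (fun _ _ => rfl)
    rw [this, Finset.sum_range_id, Nat.add_sub_cancel, Nat.mul_comm]

theorem shuffle_det_eq_zero_of_charZero [IsDomain R] [CharZero R] (M : Matrix (Fin n) (Fin d) R)
    (i j : Idx d n) (r : Fin d) :
    ∑ A : Finset (Fin (d + 1)), (if hA : A.card = r.val + 1 then
      (-1 : R) ^ shuffleSign r A * det' M (shuffleI i j r A hA) * det' M (shuffleJ i j r A hA)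
      else 0) = 0 := by
  classical
  set v : Fin (d + 1) → Fin d → R := fun k => M (movingRows i j r k) with hv
  set F := Fmap r (fun t => M (i.1 t)) (fun t => M (j.1 t)) with hF
  have hnot : ¬ LinearIndependent R v := fun h => by
    have := h.fintype_card_le_finrank
    simp [Module.finrank_fin_fun] at this
  have h0 := AlternatingMap.map_linearDependent (MultilinearMap.alternatization F) v hnot
  rw [MultilinearMap.alternatization_apply] at h0
  let img : Equiv.Perm (Fin (d + 1)) → Finset (Fin (d + 1)) := fun σ =>
    (univ.filter (IsFront r)).image σ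
  have hfront : (univ.filter (IsFront r (d := d))).card = r.val + 1 := by
    rw [← Finset.card_range (r.val + 1)]
    exact Finset.card_bij (fun p _ => p.val)
      (fun p hp => Finset.mem_range.2 (Nat.lt_succ_of_le (mem_filter.1 hp).2))
      (fun _ _ _ _ h => Fin.ext h)
      (fun m hm => ⟨⟨m, by have := Finset.mem_range.1 hm; omega⟩,
        mem_filter.2 ⟨mem_univ _, Nat.le_of_lt_succ (Finset.mem_range.1 hm)⟩, rfl⟩)
  set S := univ.filter fun π : Equiv.Perm (Fin (d + 1)) => ∀ k, IsFront r (π k) ↔ IsFront r k
    with hS
  have hfibre : ∀ A : Finset (Fin (d + 1)),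
      ∑ σ ∈ univ.filter (fun σ => img σ = A), Equiv.Perm.sign σ • F.domDomCongr σ v =
      (S.card : R) * (if hA : A.card = r.val + 1 then
        (-1 : R) ^ shuffleSign r A * det' M (shuffleI i j r A hA) * det' M (shuffleJ i j r A hA)
        else 0) := by
    intro A
    split_ifs with hA
    · have hval : ∀ π ∈ S, Equiv.Perm.sign (tau A hA * π) • F.domDomCongr (tau A hA * π) v =
          (-1 : R) ^ shuffleSign r A * det' M (shuffleI i j r A hA) * det' M (shuffleJ i j r A hA) := by
        intro π hπ
        rw [hS, mem_filter] at hπ
        rw [MultilinearMap.domDomCongr_apply]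
        have e1 : F (fun k => v ((tau A hA * π) k)) =
            ((Equiv.Perm.sign π : ℤ) : R) * F (fun k => v (tau A hA k)) :=
          Fmap_perm r _ _ π hπ.2 (fun k => v (tau A hA k))
        have e2 : F (fun k => v (tau A hA k)) =
            det' M (shuffleI i j r A hA) * det' M (shuffleJ i j r A hA) := by
          show Matrix.det (Matrix.of (Ifun r (fun t => M (i.1 t)) (fun k => v (tau A hA k)))) *
            Matrix.det (Matrix.of (Jfun r (fun t => M (j.1 t)) (fun k => v (tau A hA k)))) = _
          rw [shuffleI_eq, shuffleJ_eq, det', det']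
          congr 2
          · ext t s; simp only [Ifun, Matrix.of_apply, Matrix.submatrix_apply, id]; split_ifs <;> rfl
          · ext t s; simp only [Jfun, Matrix.of_apply, Matrix.submatrix_apply, id]; split_ifs <;> rfl
        rw [e1, e2, map_mul, sign_tau, Units.smul_def, zsmul_eq_mul]
        push_cast
        have hsq : ((Equiv.Perm.sign π : ℤ) : R) * ((Equiv.Perm.sign π : ℤ) : R) = 1 := by
          rw [← Int.cast_mul, ← Units.val_mul, Int.units_mul_self, Units.val_one, Int.cast_one]
        linear_combination ((-1 : R) ^ shuffleSign r A * det' M (shuffleI i j r A hA) *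
          det' M (shuffleJ i j r A hA)) * hsq
      have : univ.filter (fun σ => img σ = A) = S.map (mulLeftEmbedding (tau A hA)) := by
        ext σ
        simp only [mem_filter, mem_univ, true_and, mem_map, mulLeftEmbedding_apply, hS]
        constructor
        · intro hσ
          refine ⟨(tau A hA)⁻¹ * σ, fun k => ?_, by simp⟩
          rw [← tau_mem_iff A hA, Equiv.Perm.mul_apply, Equiv.Perm.inv_def, Equiv.apply_symm_apply, ← hσ]
          simp [img, IsFront]
        · rintro ⟨π, hπ, rfl⟩
          ext a
          simp only [img, mem_image, mem_filter, mem_univ, true_and, Equiv.Perm.mul_apply]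
          constructor
          · rintro ⟨k, hk, rfl⟩
            exact (tau_mem_iff A hA _).2 ((hπ k).2 hk)
          · intro ha
            refine ⟨π.symm ((tau A hA).symm a), ?_, by simp⟩
            rw [← hπ, Equiv.apply_symm_apply, ← tau_mem_iff A hA, Equiv.apply_symm_apply]
            exact ha
      rw [this, Finset.sum_map]
      simp only [mulLeftEmbedding_apply]
      rw [Finset.sum_congr rfl (fun π hπ => hval π hπ), Finset.sum_const,
        nsmul_eq_mul]
    · rw [mul_zero, Finset.filter_eq_empty_iff.2, Finset.sum_empty]
      intro σ _ hσ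
      apply hA
      rw [← hσ, card_image_of_injective _ σ.injective, hfront]
  rw [← Finset.sum_fiberwise univ img, Finset.sum_congr rfl (fun A _ => hfibre A),
    ← Finset.mul_sum] at h0
  refine (mul_eq_zero.1 h0).resolve_left ?_
  have : 1 ∈ S := by simp [hS]
  exact Nat.cast_ne_zero.2 (Finset.card_ne_zero_of_mem this)

/-- The shuffle relations hold for the minors of any matrix over any commutative ring. -/
theorem shuffle_det_eq_zero (M : Matrix (Fin n) (Fin d) R) (i j : Idx d n) (r : Fin d) :
    ∑ A : Finset (Fin (d + 1)), (if hA : A.card = r.val + 1 then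
      (-1 : R) ^ shuffleSign r A * det' M (shuffleI i j r A hA) * det' M (shuffleJ i j r A hA)
      else 0) = 0 := by
  let f : MvPolynomial (Fin n × Fin d) ℤ →+* R :=
    MvPolynomial.eval₂Hom (Int.castRingHom R) fun p => M p.1 p.2
  have hf : ∀ a : Fin d → Fin n,
      f (det' (Matrix.of fun x y => MvPolynomial.X (x, y)) a) = det' M a := by
    intro a
    rw [det', RingHom.map_det]
    congr 1
    ext s t
    simp [f]
  have h := congrArg f (shuffle_det_eq_zero_of_charZero
    (Matrix.of fun (x : Fin n) (y : Fin d) => (MvPolynomial.X (x, y) : MvPolynomial (Fin n × Fin d) ℤ))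
    i j r)
  rw [map_zero, map_sum] at h
  refine Eq.trans (Finset.sum_congr rfl fun A _ => ?_) h
  split_ifs
  · simp [hf]
  · simp

end shuffle

variable {K : Type u} [CommRing K] {R : Type u} [CommRing R] [Algebra K R]

/-- Evaluation at the minors of a matrix sends signed coordinates to minors. -/
theorem aeval_coord (M : Matrix (Fin n) (Fin d) R) (a : Fin d → Fin n) :
    MvPolynomial.aeval (fun θ : Idx d n => det' M θ.1) (coord K d n a) = det' M a := by
  rw [det'_eq_coord M a, coord]
  split <;> simp

/-- Evaluation at the minors of a matrix kills every shuffle relation. -/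
theorem aeval_shuffleRel (M : Matrix (Fin n) (Fin d) R) (i j : Idx d n) (r : Fin d) :
    MvPolynomial.aeval (fun θ : Idx d n => det' M θ.1) (shuffleRel K i j r) = 0 := by
  rw [shuffleRel, map_sum, ← shuffle_det_eq_zero M i j r]
  refine Finset.sum_congr rfl fun A _ => ?_
  unfold shuffleTerm
  split_ifs
  · simp [aeval_coord]
  · simp

end Groth.Smt
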