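import Groth.Agent.Smt.Boundary
import Groth.Agent.Smt.Graded

/-! The rank sums form a regular sequence on the cones over Schubert varieties and over unions of
Schubert divisors. -/

set_option autoImplicit false

universe u

open Finset MvPolynomial W4bk4grassmannian

namespace Groth.Smt

variable {d n : ℕ} (K : Type u) [Field K]

/-- The sum of the Plücker coordinates of codimension index `k`. -/
noncomputable def rankSum (d n : ℕ) (k : ℕ) : PlRing K d n :=
  ∑ φ ∈ univ.filter (fun φ : Idx d n => codeg φ = k), X φ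

theorem rankSum_isHomogeneous (k : ℕ) : (rankSum K d n k).IsHomogeneous 1 :=
  IsHomogeneous.sum _ _ _ fun φ _ => isHomogeneous_X K φ

theorem isHomogeneous_coord (a : Fin d → Fin n) : (coord K d n a).IsHomogeneous 1 := by
  unfold coord
  split
  · have h := ((isHomogeneous_one (Idx d n) K).neg.pow (invCount d n a)).mul
      (isHomogeneous_X K (sortIdx d n a ‹_›))
    simpa using h
  · exact isHomogeneous_zero _ _ _

theorem hstable_plIdeal (τ : Idx d n) : HStable (plIdeal K τ) := by
  refine hstable_span ?_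
  rintro g (⟨i, j, r, -, rfl⟩ | ⟨φ, -, rfl⟩)
  · refine ⟨2, IsHomogeneous.sum _ _ _ fun A _ => ?_⟩
    unfold shuffleTerm
    split
    · have h := (((isHomogeneous_one (Idx d n) K).neg.pow (shuffleSign r A)).mul
        (isHomogeneous_coord K (shuffleI i j r A ‹_›))).mul (isHomogeneous_coord K (shuffleJ i j r A ‹_›))
      simpa using h
    · exact isHomogeneous_zero _ _ _
  · exact ⟨1, isHomogeneous_X K φ⟩

theorem inf_mem_divisors {τ φ ψ : Idx d n} (hφ : φ ∈ divisors τ) (hψ : ψ ∈ divisors τ) (hne : φ ≠ ψ) :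
    W4bk4grassmannian.inf φ ψ ∈ divisors ψ := by
  have hkφ : key φ + 1 = key τ := by rw [key_eq_codeg φ, key_eq_codeg τ, ← hφ.2]; ring
  have hkψ : key ψ + 1 = key τ := by rw [key_eq_codeg ψ, key_eq_codeg τ, ← hψ.2]; ring
  have hsum := key_sup_add_key_inf φ ψ
  have h1 : key (W4bk4grassmannian.sup φ ψ) ≤ key τ := key_mono (idxSup_le_iff.2 ⟨hφ.1.le, hψ.1.le⟩)
  have h2 : key φ < key (W4bk4grassmannian.sup φ ψ) := by
    refine lt_of_le_of_ne (key_mono (le_idxSup_left φ ψ)) fun he => hne ?_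
    have h3 : φ = W4bk4grassmannian.sup φ ψ := eq_of_le_of_key (le_idxSup_left φ ψ) he.ge
    have h4 : ψ ≤ φ := by rw [h3]; exact le_idxSup_right φ ψ
    exact (eq_of_le_of_key h4 (by omega)).symm
  refine ⟨lt_of_le_of_ne (idxInf_le_right φ ψ) fun he => ?_, ?_⟩
  · rw [he] at hsum
    omega
  · rw [key_eq_codeg (W4bk4grassmannian.inf φ ψ)] at hsum
    rw [key_eq_codeg ψ] at hkψ hsum
    omega

variable [Infinite K]

theorem hstable_schubertVanishing (hd : 0 < d) (hdn : d ≤ n) (τ : Idx d n) :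
    HStable (schubertVanishing K d n τ) := by
  rw [schubertVanishing_eq_plIdeal K hd hdn]
  exact hstable_plIdeal K τ

/-- The ideal of a union of Schubert varieties. -/
noncomputable def unionIdeal (Φ : Finset (Idx d n)) : Ideal (PlRing K d n) :=
  ⨅ φ ∈ Φ, schubertVanishing K d n φ

theorem mem_unionIdeal {Φ : Finset (Idx d n)} {f : PlRing K d n} :
    f ∈ unionIdeal K Φ ↔ ∀ φ ∈ Φ, f ∈ schubertVanishing K d n φ := by
  simp [unionIdeal, Ideal.mem_iInf]

theorem hstable_unionIdeal (hd : 0 < d) (hdn : d ≤ n) (Φ : Finset (Idx d n)) :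
    HStable (unionIdeal K Φ) := fun f hf D =>
  (mem_unionIdeal K).2 fun φ hφ => hstable_schubertVanishing K hd hdn φ f ((mem_unionIdeal K).1 hf φ hφ) D

theorem unionIdeal_sup (hd : 0 < d) (hdn : d ≤ n) (Φ : Finset (Idx d n)) (ψ : Idx d n) :
    unionIdeal K Φ ⊔ schubertVanishing K d n ψ =
      unionIdeal K (Φ.image fun φ => W4bk4grassmannian.inf φ ψ) := by
  classical
  apply le_antisymm
  · refine sup_le ?_ ?_
    · intro f hf
      refine (mem_unionIdeal K).2 fun χ hχ => ?_
      obtain ⟨φ, hφ, rfl⟩ := mem_image.1 hχ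
      exact schubertVanishing_antitone K (idxInf_le_left φ ψ) ((mem_unionIdeal K).1 hf φ hφ)
    · intro f hf
      refine (mem_unionIdeal K).2 fun χ hχ => ?_
      obtain ⟨φ, hφ, rfl⟩ := mem_image.1 hχ
      exact schubertVanishing_antitone K (idxInf_le_right φ ψ) hf
  · intro f hf
    obtain ⟨l, hl⟩ := exists_expand K f
    have h1 := plIdealTop_le_schubertVanishing K ψ hl
    suffices hs : (l.sum fun C c => c • sm K C) ∈ unionIdeal K Φ ⊔ schubertVanishing K d n ψ by
      simpa using Ideal.add_mem _ (Submodule.mem_sup_right (S := unionIdeal K Φ) h1) hs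
    refine Submodule.sum_mem _ fun C hC => Submodule.smul_of_tower_mem _ _ ?_
    by_cases hψ : ∀ k, C.2.1 k ≤ ψ
    · refine Submodule.mem_sup_left ((mem_unionIdeal K).2 fun φ hφ =>
        sm_mem_schubertVanishing K fun hall => Finsupp.mem_support_iff.1 hC ?_)
      exact (mem_schubertVanishing_iff K hd hdn hl).1
        ((mem_unionIdeal K).1 hf _ (mem_image_of_mem _ hφ)) C fun k => le_idxInf_iff.2 ⟨hall k, hψ k⟩
    · exact Submodule.mem_sup_right (sm_mem_schubertVanishing K hψ)

theorem rankSum_sub_mem (τ : Idx d n) :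
    rankSum K d n (codeg τ) - X τ ∈ schubertVanishing K d n τ := by
  classical
  rw [rankSum, ← add_sum_erase _ _ (mem_filter.2 ⟨mem_univ τ, rfl⟩ : τ ∈ univ.filter fun φ : Idx d n => codeg φ = codeg τ),
    add_sub_cancel_left]
  refine Ideal.sum_mem _ fun φ hφ => X_mem_schubertVanishing K fun hle => ?_
  rw [mem_erase, mem_filter] at hφ
  refine hφ.1 (eq_of_le_of_key hle ?_)
  rw [key_eq_codeg φ, key_eq_codeg τ, hφ.2.2]

theorem rankSum_mem_of_lt {τ : Idx d n} {k : ℕ} (h : codeg τ < k) :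
    rankSum K d n k ∈ schubertVanishing K d n τ := by
  refine Ideal.sum_mem _ fun φ hφ => X_mem_schubertVanishing K fun hle => ?_
  have := codeg_mono hle
  rw [(mem_filter.1 hφ).2] at this
  omega

/-- All Plücker coordinates are nilpotent modulo `J(τ)` and the rank sums. -/
theorem idealOfVars_le_radical (τ : Idx d n) :
    idealOfVars (Idx d n) K ≤
      (schubertVanishing K d n τ ⊔ Th (rankSum K d n) (codeg τ + 1)).radical := by
  classical
  set I := schubertVanishing K d n τ ⊔ Th (rankSum K d n) (codeg τ + 1) with hI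
  suffices h : ∀ φ : Idx d n, (X φ : PlRing K d n) ∈ I.radical by
    refine Ideal.span_le.2 ?_
    rintro _ ⟨φ, rfl⟩
    exact h φ
  suffices h : ∀ B : ℕ, ∀ φ : Idx d n, (∑ ψ : Idx d n, key ψ) - key φ = B → (X φ : PlRing K d n) ∈ I.radical from
    fun φ => h _ φ rfl
  intro B
  induction B using Nat.strong_induction_on with
  | _ B ih =>
  intro φ hB
  by_cases hle : φ ≤ τ
  · rw [← Ideal.radical_idem I]
    refine ⟨2, ?_⟩
    have hθ : rankSum K d n (codeg φ) ∈ I :=
      Submodule.mem_sup_right (Ideal.subset_span ⟨⟨codeg φ, Nat.lt_succ_of_le (codeg_mono hle)⟩, rfl⟩)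
    have hmem : φ ∈ univ.filter fun ψ : Idx d n => codeg ψ = codeg φ := mem_filter.2 ⟨mem_univ _, rfl⟩
    have hprod : ∀ ψ ∈ (univ.filter fun ψ : Idx d n => codeg ψ = codeg φ).erase φ,
        (X φ * X ψ : PlRing K d n) ∈ I.radical := by
      intro ψ hψ
      rw [mem_erase, mem_filter] at hψ
      have hk : key ψ = key φ := by rw [key_eq_codeg ψ, key_eq_codeg φ, hψ.2.2]
      have hskew : ¬ ψ ≤ φ := fun h => hψ.1 (eq_of_le_of_key h hk.ge)
      have h := straighten_pair K (Ideal.Quotient.mkₐ K I.radical)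
        (fun i j r hp => Ideal.Quotient.eq_zero_iff_mem.2 (Ideal.le_radical (Submodule.mem_sup_left
          (plIdealTop_le_schubertVanishing K τ (Ideal.subset_span ⟨i, j, r, hp, rfl⟩))))) φ ψ hskew
      rw [← Ideal.Quotient.eq_zero_iff_mem]
      show Ideal.Quotient.mkₐ K I.radical (X φ * X ψ) = 0
      rw [map_mul]
      refine (Submodule.mem_bot K).1 (?_ : _ ∈ (⊥ : Submodule K _))
      refine (Submodule.span_le.2 ?_ : _ ≤ (⊥ : Submodule K _)) h
      rintro y ⟨a', b', hlt, rfl⟩
      rw [SetLike.mem_coe, Submodule.mem_bot,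
        show Ideal.Quotient.mkₐ K I.radical (X a') = 0 from Ideal.Quotient.eq_zero_iff_mem.2
          (ih _ (by have := single_le_sum (fun ψ _ => Nat.zero_le (key ψ)) (mem_univ a'); omega) a' rfl),
        zero_mul]
    rw [show (X φ : PlRing K d n) ^ 2 = X φ * rankSum K d n (codeg φ) -
      ∑ ψ ∈ (univ.filter fun ψ : Idx d n => codeg ψ = codeg φ).erase φ, X φ * X ψ by
      rw [rankSum, ← add_sum_erase _ _ hmem, mul_add, mul_sum]; ring]
    exact Ideal.sub_mem _ (Ideal.le_radical (Ideal.mul_mem_left _ _ hθ)) (Ideal.sum_mem _ hprod)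
  · exact Ideal.le_radical (Submodule.mem_sup_left (X_mem_schubertVanishing K hle))

theorem exists_pow_le (τ : Idx d n) : ∃ N, idealOfVars (Idx d n) K ^ N ≤
    schubertVanishing K d n τ ⊔ Th (rankSum K d n) (codeg τ + 1) :=
  Ideal.exists_pow_le_of_le_radical_of_fg (idealOfVars_le_radical K τ) (idealOfVars_fg _ _)

/-- The main induction. -/
theorem regUpTo_schubert (hd : 0 < d) (hdn : d ≤ n) :
    ∀ L, ∀ τ : Idx d n, codeg τ = L →
      RegUpTo (rankSum K d n) (schubertVanishing K d n τ) (L + 1) ∧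
      ∀ Φ : Finset (Idx d n), Φ.Nonempty → (∀ φ ∈ Φ, φ ∈ divisors τ) →
        RegUpTo (rankSum K d n) (unionIdeal K Φ) L := by
  classical
  intro L
  induction L using Nat.strong_induction_on with
  | _ L ih =>
  intro τ hτ
  have hunion : ∀ Φ : Finset (Idx d n), Φ.Nonempty → (∀ φ ∈ Φ, φ ∈ divisors τ) →
      RegUpTo (rankSum K d n) (unionIdeal K Φ) L := by
    intro Φ hne
    induction hne using Finset.Nonempty.cons_induction with
    | singleton φ =>
      intro h
      have hφ := h φ (mem_singleton_self φ)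
      have e : unionIdeal K ({φ} : Finset (Idx d n)) = schubertVanishing K d n φ := by simp [unionIdeal]
      have h2 : codeg φ + 1 = L := by rw [hφ.2, hτ]
      rw [e, ← h2]
      exact (ih (codeg φ) (by omega) φ rfl).1
    | cons ψ Φ hψΦ hΦne ihΦ =>
      intro h
      have hψ := h ψ (mem_cons_self _ _)
      have hΦ : ∀ φ ∈ Φ, φ ∈ divisors τ := fun φ hφ => h φ (mem_cons.2 (Or.inr hφ))
      have h2 : codeg ψ + 1 = L := by rw [hψ.2, hτ]
      have e : unionIdeal K (Finset.cons ψ Φ hψΦ) = schubertVanishing K d n ψ ⊓ unionIdeal K Φ := by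
        ext f; simp [mem_unionIdeal, Submodule.mem_inf]
      rw [e, inf_comm, ← h2]
      refine RegUpTo.inf (by rw [h2]; exact ihΦ hΦ) (ih (codeg ψ) (by omega) ψ rfl).1 ?_
      rw [unionIdeal_sup K hd hdn]
      refine (ih (codeg ψ) (by omega) ψ rfl).2 _ (hΦne.image _) fun χ hχ => ?_
      obtain ⟨φ, hφ, rfl⟩ := mem_image.1 hχ
      exact inf_mem_divisors (hΦ φ hφ) hψ fun he => hψΦ (he ▸ hφ)
  refine ⟨?_, hunion⟩
  refine regUpTo_succ (fun k => rankSum_isHomogeneous K k) (schubertVanishing_isPrime K hd hdn τ)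
    (hstable_schubertVanishing K hd hdn τ) (isHomogeneous_X K τ)
    (X_notMem_schubertVanishing hdn hd le_rfl) (hτ ▸ rankSum_sub_mem K τ) ?_
  rcases Nat.eq_zero_or_pos L with rfl | hL
  · intro k hk; omega
  · have hne : (univ.filter fun φ => φ ∈ divisors τ).Nonempty := by
      have : botIdx hdn < τ := lt_of_le_of_ne (bot_le hdn τ) fun he => by
        have : codeg τ = 0 := by rw [← he, codeg]; simp [botIdx]
        omega
      obtain ⟨φ, hφ, -⟩ := exists_divisor_ge this
      exact ⟨φ, mem_filter.2 ⟨mem_univ _, hφ⟩⟩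
    have e : schubertVanishing K d n τ ⊔ Ideal.span {X τ} =
        unionIdeal K (univ.filter fun φ => φ ∈ divisors τ) := by
      rw [sup_span_X_eq K hd hdn τ]
      apply le_antisymm
      · exact le_trans inf_le_right fun f hf => (mem_unionIdeal K).2 fun φ hφ =>
          Ideal.mem_iInf.1 (Ideal.mem_iInf.1 hf φ) (mem_filter.1 hφ).2
      · intro f hf
        rw [mem_unionIdeal] at hf
        refine ⟨?_, ?_⟩
        · obtain ⟨φ, hφ⟩ := hne
          exact schubertVanishing_le_irr K hd φ (hf φ hφ)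
        · rw [SetLike.mem_coe, Ideal.mem_iInf]
          intro φ
          rw [Ideal.mem_iInf]
          exact fun hφ => hf φ (mem_filter.2 ⟨mem_univ _, hφ⟩)
    rw [e]
    exact hunion _ hne fun φ hφ => (mem_filter.1 hφ).2

/-- Nilpotence of the variables modulo a union of divisors and the rank sums. -/
theorem exists_pow_le_union {τ : Idx d n} {Φ : Finset (Idx d n)} (hne : Φ.Nonempty)
    (h : ∀ φ ∈ Φ, φ ∈ divisors τ) : ∃ N, idealOfVars (Idx d n) K ^ N ≤
      unionIdeal K Φ ⊔ Th (rankSum K d n) (codeg τ) := by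
  induction hne using Finset.Nonempty.cons_induction with
  | singleton φ =>
    obtain ⟨N, hN⟩ := exists_pow_le K φ
    refine ⟨N, ?_⟩
    rw [(h φ (mem_singleton_self φ)).2] at hN
    simpa [unionIdeal] using hN
  | cons ψ Φ hψΦ _ ih =>
    obtain ⟨M, hM⟩ := ih fun φ hφ => h φ (mem_cons.2 (Or.inr hφ))
    obtain ⟨N, hN⟩ := exists_pow_le K ψ
    rw [(h ψ (mem_cons_self _ _)).2] at hN
    refine ⟨N + M, ?_⟩
    have e : unionIdeal K (Finset.cons ψ Φ hψΦ) = schubertVanishing K d n ψ ⊓ unionIdeal K Φ := by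
      ext f; simp [mem_unionIdeal, Submodule.mem_inf]
    rw [e]
    exact inf_irr_le hN hM

end Groth.Smt
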