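import Groth.Agent.Smt.Relations
import Mathlib.Data.Fin.Tuple.Sort
import Mathlib.LinearAlgebra.Span.Basic

/-! Straightening: a general spanning lemma and its application to the shuffle relations. -/

set_option autoImplicit false

universe u v w

open Finset W4bk4grassmannian

namespace Groth.Smt

section chainsSpan

variable {K : Type u} [CommRing K] {A : Type v} [CommRing A] [Algebra K A]
  {P : Type w} [Fintype P] [PartialOrder P]

/-- The potential of a monomial. -/
def pot (k : P → ℕ) {m : ℕ} (c : Fin m → P) : ℕ := ∑ l, 4 ^ k (c l)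

/-- The span of the images of the standard monomials. -/
def stdSpan (K : Type u) [CommRing K] [Algebra K A] (x : P → A) : Submodule K A :=
  Submodule.span K (Set.range fun c : (Σ m : ℕ, {c : Fin m → P // Antitone c}) => ∏ l, x (c.2.1 l))

theorem prod_eq_mul_erase₂ {ι : Type*} [Fintype ι] [DecidableEq ι] (f : ι → A) {k l : ι} (h : k ≠ l) :
    ∏ i, f i = f k * f l * ∏ i ∈ (univ.erase k).erase l, f i := by
  rw [← mul_prod_erase _ _ (mem_univ k), ← mul_prod_erase _ _ (mem_erase.2 ⟨h.symm, mem_univ l⟩),
    mul_assoc]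

theorem mem_stdSpan_prod (x : P → A) (k : P → ℕ) (hk : StrictMono k)
    (h : ∀ a b, ¬ a ≤ b → ¬ b ≤ a → k b ≤ k a →
      x a * x b ∈ Submodule.span K {y | ∃ a' b', k a < k a' ∧ y = x a' * x b'}) :
    ∀ (m : ℕ) (c : Fin m → P), ∏ l, x (c l) ∈ stdSpan K x := by
  classical
  intro m
  let B := ∑ p : P, k p
  suffices H : ∀ N (c : Fin m → P), m * 4 ^ B - pot k c = N → ∏ l, x (c l) ∈ stdSpan K x from
    fun c => H _ c rfl
  intro N
  induction N using Nat.strong_induction_on with
  | _ N ih =>
  intro c hN
  by_cases hc : ∀ p q, c p ≤ c q ∨ c q ≤ c p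
  · let σ : Equiv.Perm (Fin m) := Fin.revPerm.trans (Tuple.sort (k ∘ c))
    have hanti : Antitone fun l => c (σ l) := by
      intro p q hpq
      have hk' : k (c (σ q)) ≤ k (c (σ p)) :=
        Tuple.monotone_sort (k ∘ c) (Fin.rev_le_rev.2 hpq)
      rcases hc (σ q) (σ p) with h1 | h1
      · exact h1
      · rcases lt_or_eq_of_le h1 with h2 | h2
        · exact absurd (hk h2) (not_lt.2 hk')
        · exact h2.ge
    refine Submodule.subset_span ⟨⟨m, fun l => c (σ l), hanti⟩, ?_⟩
    exact Equiv.prod_comp σ (fun l => x (c l))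
  · push Not at hc
    obtain ⟨p, q, hpq, hqp⟩ := hc
    wlog hkey : k (c q) ≤ k (c p) generalizing p q
    · exact this q p hqp hpq (le_of_not_ge hkey)
    have hne : p ≠ q := fun e => hpq (e ▸ le_rfl)
    rw [prod_eq_mul_erase₂ _ hne]
    set rest := ∏ i ∈ (univ.erase p).erase q, x (c i) with hrest
    have hmem := h _ _ hpq hqp hkey
    suffices Submodule.span K {y | ∃ a' b', k (c p) < k a' ∧ y = x a' * x b'} ≤
        (stdSpan K x).comap (LinearMap.mulRight K rest) from this hmem
    rw [Submodule.span_le]
    rintro y ⟨a', b', hlt, rfl⟩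
    show x a' * x b' * rest ∈ stdSpan K x
    let c' := Function.update (Function.update c p a') q b'
    have hp : c' p = a' := by simp [c', Function.update_of_ne hne]
    have hq : c' q = b' := by simp [c']
    have hrest' : ∀ i ∈ (univ.erase p).erase q, c' i = c i := by
      intro i hi
      simp only [mem_erase] at hi
      simp [c', Function.update_of_ne hi.1, Function.update_of_ne hi.2.1]
    have heq : ∏ l, x (c' l) = x a' * x b' * rest := by
      rw [prod_eq_mul_erase₂ _ hne, hp, hq, hrest]
      congr 1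
      exact prod_congr rfl fun i hi => by rw [hrest' i hi]
    rw [← heq]
    have hsum : ∀ (e : Fin m → P), pot k e =
        4 ^ k (e p) + (4 ^ k (e q) + ∑ i ∈ (univ.erase p).erase q, 4 ^ k (e i)) := by
      intro e
      rw [pot, ← add_sum_erase _ _ (mem_univ p),
        ← add_sum_erase _ _ (mem_erase.2 ⟨hne.symm, mem_univ q⟩)]
    have hbound : pot k c' ≤ m * 4 ^ B := by
      calc pot k c' ≤ ∑ _l : Fin m, 4 ^ B := sum_le_sum fun l _ =>
            Nat.pow_le_pow_right (by norm_num) (single_le_sum (fun _ _ => Nat.zero_le _) (mem_univ _))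
        _ = m * 4 ^ B := by simp
    have hgt : pot k c < pot k c' := by
      rw [hsum, hsum, hp, hq,
        Finset.sum_congr rfl (fun i hi => by rw [hrest' i hi] :
          ∀ i ∈ (univ.erase p).erase q, 4 ^ k (c' i) = 4 ^ k (c i))]
      have h1 : 4 ^ (k (c p) + 1) ≤ 4 ^ k a' := Nat.pow_le_pow_right (by norm_num) hlt
      have h2 : 4 ^ k (c q) ≤ 4 ^ k (c p) := Nat.pow_le_pow_right (by norm_num) hkey
      have h3 : 0 < 4 ^ k (c p) := by positivity
      rw [pow_succ] at h1
      linarith [Nat.zero_le (4 ^ k b')]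
    exact ih (m * 4 ^ B - pot k c') (by omega) c' rfl

/-- Standard monomials span the algebra generated by the `x`. -/
theorem stdSpan_adjoin (x : P → A) (k : P → ℕ) (hk : StrictMono k)
    (h : ∀ a b, ¬ a ≤ b → ¬ b ≤ a → k b ≤ k a →
      x a * x b ∈ Submodule.span K {y | ∃ a' b', k a < k a' ∧ y = x a' * x b'})
    (f : MvPolynomial P K) : MvPolynomial.aeval x f ∈ stdSpan K x := by
  induction f using MvPolynomial.induction_on with
  | C a =>
    rw [MvPolynomial.aeval_C, Algebra.algebraMap_eq_smul_one]
    refine Submodule.smul_mem _ _ ?_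
    have := mem_stdSpan_prod x k hk h 0 Fin.elim0
    simpa using this
  | add f g hf hg => rw [map_add]; exact add_mem hf hg
  | mul_X f p hf =>
    rw [map_mul, MvPolynomial.aeval_X]
    suffices stdSpan K x ≤ (stdSpan K x).comap (LinearMap.mulRight K (x p)) from this hf
    refine Submodule.span_le.2 ?_
    rintro _ ⟨⟨m, c, hc⟩, rfl⟩
    have := mem_stdSpan_prod x k hk h (m + 1) (Fin.cons p c)
    simpa [Fin.prod_univ_succ, mul_comm] using this

end chainsSpan

section shuffle

variable {d n : ℕ} (K : Type u) [CommRing K]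

/-- The identity shuffle. -/
def frontSet (r : Fin d) : Finset (Fin (d + 1)) := univ.filter (IsFront r)

theorem card_frontSet (r : Fin d) : (frontSet r).card = r.val + 1 := by
  rw [← Finset.card_range (r.val + 1)]
  exact Finset.card_bij (fun p _ => p.val)
    (fun p hp => Finset.mem_range.2 (Nat.lt_succ_of_le (mem_filter.1 hp).2))
    (fun _ _ _ _ h => Fin.ext h)
    (fun m hm => ⟨⟨m, by have := Finset.mem_range.1 hm; omega⟩,
      mem_filter.2 ⟨mem_univ _, Nat.le_of_lt_succ (Finset.mem_range.1 hm)⟩, rfl⟩)

theorem shuffleTerm_frontSet (i j : Idx d n) (r : Fin d) :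
    shuffleTerm K i j r (frontSet r) = MvPolynomial.X i * MvPolynomial.X j := by
  have hA := card_frontSet r
  unfold shuffleTerm
  rw [dif_pos hA]
  have hτ : tau (frontSet r) hA = 1 := by
    ext k
    unfold tau
    rw [Equiv.ofBijective_apply]
    split_ifs with h
    · have := Finset.orderEmbOfFin_unique hA (f := fun t : Fin (r.val + 1) => (⟨t.val, by omega⟩ : Fin (d + 1)))
        (fun t => by simp [frontSet, IsFront]; omega) (fun a b hab => hab)
      rw [← congrFun this ⟨k.val, by omega⟩]
      rfl
    · have hC : (frontSet r)ᶜ.card = d - r.val := by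
        rw [Finset.card_compl, hA, Fintype.card_fin]; omega
      have := Finset.orderEmbOfFin_unique hC
        (f := fun t : Fin (d - r.val) => (⟨r.val + 1 + t.val, by omega⟩ : Fin (d + 1)))
        (fun t => by simp [frontSet, IsFront]; omega)
        (fun a b hab => by rw [Fin.lt_def]; show r.val + 1 + a.val < r.val + 1 + b.val; simpa using hab)
      rw [← congrFun this ⟨k.val - (r.val + 1), by omega⟩]
      show r.val + 1 + (k.val - (r.val + 1)) = k.val
      omega
  have hI : shuffleI i j r (frontSet r) hA = i.1 := by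
    rw [shuffleI_eq, hτ]
    funext t
    simp only [Ifun, Equiv.Perm.one_apply]
    split_ifs with h
    · rw [movingRows, dif_pos (show (t.castSucc).val ≤ r.val from h)]; rfl
    · rfl
  have hJ : shuffleJ i j r (frontSet r) hA = j.1 := by
    rw [shuffleJ_eq, hτ]
    funext t
    simp only [Jfun, Equiv.Perm.one_apply]
    split_ifs with h1
    · rfl
    · rw [movingRows, dif_neg (show ¬ (t.succ).val ≤ r.val by simp; omega)]
      congr 1
  have hsign : Even (shuffleSign r (frontSet r)) := by
    have : (-1 : ℤ) ^ shuffleSign r (frontSet r) = 1 := by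
      have h := congrArg Units.val (sign_tau (frontSet r) hA)
      rw [hτ, map_one] at h
      simpa using h.symm
    exact (neg_one_pow_eq_one_iff_even (by norm_num)).1 this
  have hsort : ∀ θ : Idx d n, coord K d n θ.1 = MvPolynomial.X θ := by
    intro θ
    have hc : (univ.image θ.1).card = d := by rw [card_image_of_injective _ θ.2.injective, card_fin]
    have hs : sortIdx d n θ.1 hc = θ := by
      apply Subtype.ext
      exact (Finset.orderEmbOfFin_unique hc (fun t => mem_image_of_mem _ (mem_univ t)) θ.2).symm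
    have hi : invCount d n θ.1 = 0 := by
      rw [invCount, card_eq_zero, filter_eq_empty_iff]
      rintro p - ⟨h1, h2⟩
      exact lt_asymm h2 (θ.2 h1)
    rw [coord, dif_pos hc, hs, hi, pow_zero, one_mul]
  rw [hI, hJ, hsort, hsort, hsign.neg_one_pow, one_mul]

theorem coord_eq_or (a : Fin d → Fin n) : coord K d n a = 0 ∨
    ∃ (s : Idx d n) (c : K), key s = ∑ t, (a t).val ∧ coord K d n a = c • MvPolynomial.X s := by
  unfold coord
  split
  · next h =>
    refine Or.inr ⟨sortIdx d n a h, (-1) ^ invCount d n a, ?_, ?_⟩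
    · have hinj : Set.InjOn a ↑(univ : Finset (Fin d)) :=
        Finset.card_image_iff.1 (by rw [h, card_fin])
      rw [key, ← sum_image (f := fun z : Fin n => z.val) hinj]
      conv_rhs => rw [← Finset.map_orderEmbOfFin_univ _ h, Finset.sum_map]
      rfl
    · rw [MvPolynomial.smul_eq_C_mul, map_pow, map_neg, map_one]
  · exact Or.inl rfl

theorem key_shuffleI_gt (i j : Idx d n) (r : Fin d) (hp : i.1 r < j.1 r)
    (A : Finset (Fin (d + 1))) (hA : A.card = r.val + 1) (hne : A ≠ frontSet r) :
    key i < ∑ t, (shuffleI i j r A hA t).val := by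
  have hge : ∀ t : Fin (r.val + 1), t.val ≤ (A.orderEmbOfFin hA t).val := by
    intro t
    obtain ⟨t, ht⟩ := t
    induction t with
    | zero => exact Nat.zero_le _
    | succ t ih =>
      have h := (A.orderEmbOfFin hA).strictMono
        (show (⟨t, by omega⟩ : Fin (r.val + 1)) < ⟨t + 1, ht⟩ by simp)
      rw [Fin.lt_def] at h
      have := ih (by omega)
      simp only at this ⊢
      omega
  have hlast : r.val < (A.orderEmbOfFin hA ⟨r.val, by omega⟩).val := by
    by_contra hle
    apply hne
    refine Finset.eq_of_subset_of_card_le (fun a ha => ?_) (by rw [card_frontSet, hA])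
    rw [← Finset.map_orderEmbOfFin_univ A hA, mem_map] at ha
    obtain ⟨t, -, rfl⟩ := ha
    have h1 : A.orderEmbOfFin hA t ≤ A.orderEmbOfFin hA ⟨r.val, by omega⟩ :=
      (A.orderEmbOfFin hA).monotone (by rw [Fin.le_def]; exact Nat.le_of_lt_succ t.isLt)
    simp only [frontSet, mem_filter, mem_univ, true_and, IsFront]
    rw [Fin.le_def] at h1
    show (A.orderEmbOfFin hA t).val ≤ r.val
    omega
  have hbig : ∀ (t : Fin d) (a : Fin (d + 1)), t.val ≤ r.val → ¬ a.val ≤ r.val →
      (i.1 t).val < (movingRows i j r a).val := by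
    intro t a ht ha
    rw [movingRows, dif_neg ha]
    have h1 : (i.1 t).val ≤ (i.1 r).val := i.2.monotone (Fin.le_def.2 ht)
    have h3 : (i.1 r).val < (j.1 r).val := hp
    have h2 : (j.1 r).val ≤ (j.1 ⟨a.val - 1, by omega⟩).val :=
      j.2.monotone (Fin.le_def.2 (by show r.val ≤ a.val - 1; omega))
    omega
  refine Finset.sum_lt_sum (fun t _ => ?_) ⟨r, mem_univ r, ?_⟩
  · unfold shuffleI
    split_ifs with ht
    · set a := A.orderEmbOfFin hA ⟨t.val, by omega⟩ with ha
      by_cases har : a.val ≤ r.val
      · rw [movingRows, dif_pos har]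
        exact i.2.monotone (Fin.le_def.2 (hge ⟨t.val, by omega⟩))
      · exact (hbig t a ht har).le
    · exact le_rfl
  · unfold shuffleI
    rw [dif_pos le_rfl]
    exact hbig r _ le_rfl (not_le.2 hlast)

/-- A skew product can be replaced, modulo the shuffle relations, by products with larger first key. -/
theorem straighten_pair {A : Type*} [CommRing A] [Algebra K A] (φ : PlRing K d n →ₐ[K] A)
    (hφ : ∀ (i j : Idx d n) (r : Fin d), IsPivot i j r → φ (shuffleRel K i j r) = 0)
    (a b : Idx d n) (hba : ¬ b ≤ a) :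
    φ (MvPolynomial.X a) * φ (MvPolynomial.X b) ∈ Submodule.span K
      {y | ∃ a' b' : Idx d n, key a < key a' ∧
        y = φ (MvPolynomial.X a') * φ (MvPolynomial.X b')} := by
  have hne : (univ.filter fun t => a.1 t < b.1 t).Nonempty := by
    by_contra hc
    rw [Finset.not_nonempty_iff_eq_empty, Finset.filter_eq_empty_iff] at hc
    exact hba fun t => not_lt.1 (hc (Finset.mem_univ t))
  set r := (univ.filter fun t => a.1 t < b.1 t).min' hne with hr
  have hp : IsPivot a b r := by
    refine ⟨fun t ht => not_lt.1 fun h => (not_le.2 ht) ?_, (Finset.mem_filter.1 (Finset.min'_mem _ hne)).2⟩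
    exact Finset.min'_le _ t (Finset.mem_filter.2 ⟨Finset.mem_univ t, h⟩)
  have h0 := hφ a b r hp
  rw [shuffleRel, ← Finset.add_sum_erase _ _ (mem_univ (frontSet r)), shuffleTerm_frontSet, map_add,
    map_mul, map_sum, add_eq_zero_iff_eq_neg] at h0
  rw [h0]
  refine Submodule.neg_mem _ (Submodule.sum_mem _ fun B hB => ?_)
  rw [mem_erase] at hB
  unfold shuffleTerm
  split_ifs with hBc
  · rcases coord_eq_or K (shuffleI a b r B hBc) with h1 | ⟨s, c, hs, h1⟩
    · simp [h1]
    rcases coord_eq_or K (shuffleJ a b r B hBc) with h2 | ⟨s', c', -, h2⟩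
    · simp [h2]
    rw [h1, h2,
      show (-1 : PlRing K d n) ^ shuffleSign r B * (c • MvPolynomial.X s) * (c' • MvPolynomial.X s') =
        ((-1) ^ shuffleSign r B * c * c') • (MvPolynomial.X s * MvPolynomial.X s') by
      simp [MvPolynomial.smul_eq_C_mul, map_mul, map_pow, map_neg, map_one]; ring,
      map_smul, map_mul]
    refine Submodule.smul_mem _ _ (Submodule.subset_span ⟨s, s', ?_, rfl⟩)
    rw [hs]
    exact key_shuffleI_gt a b r hp.2 B hBc hB.1
  · simp

theorem aeval_mem_stdSpan {A : Type*} [CommRing A] [Algebra K A] (φ : PlRing K d n →ₐ[K] A)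
    (hφ : ∀ (i j : Idx d n) (r : Fin d), IsPivot i j r → φ (shuffleRel K i j r) = 0)
    (f : PlRing K d n) : φ f ∈ stdSpan K (fun θ : Idx d n => φ (MvPolynomial.X θ)) := by
  have h := stdSpan_adjoin (fun θ : Idx d n => φ (MvPolynomial.X θ)) key key_strictMono
    (fun a b _ hba _ => straighten_pair K φ hφ a b hba) f
  rwa [show MvPolynomial.aeval (fun θ : Idx d n => φ (MvPolynomial.X θ)) f = φ f from
    (DFunLike.congr_fun (MvPolynomial.aeval_unique φ) f).symm] at h

end shuffle

end Groth.Smt
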